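import Mathlib

/-!
Groups in which every non-abelian subgroup is self-normalizing (`SN`), basic closure
properties (helper12, for S4073).
-/

set_option autoImplicit false

namespace Cfsg.Agent.Lib.Helper12.SNDef

/-- every non-abelian subgroup is self-normalizing -/
def SN (G : Type*) [Group G] : Prop :=
  ∀ H : Subgroup G, ¬ IsMulCommutative H → Subgroup.normalizer (H : Set G) = H

/-- a subgroup normalized by an element outside it is commutative -/
theorem SN.comm_of_normalizer {G : Type*} [Group G] (h : SN G) (H : Subgroup G) (g : G)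
    (hg : g ∈ Subgroup.normalizer (H : Set G)) (hgH : g ∉ H) : IsMulCommutative H := by
  by_contra hc
  rw [h H hc] at hg
  exact hgH hg

/-- a proper normal subgroup of a subgroup is commutative -/
theorem SN.comm_of_normal_lt {G : Type*} [Group G] (h : SN G) (H L : Subgroup G)
    (hHL : H < L) (hn : L ≤ Subgroup.normalizer (H : Set G)) : IsMulCommutative H := by
  obtain ⟨g, hgL, hgH⟩ := SetLike.exists_of_lt hHL
  exact h.comm_of_normalizer H g (hn hgL) hgH

theorem SN.of_mulEquiv {G G' : Type*} [Group G] [Group G'] (e : G ≃* G') (h : SN G) : SN G' := by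
  intro H hH
  have hc : ¬ IsMulCommutative (H.comap (e : G →* G')) := by
    intro hc
    apply hH
    refine ⟨⟨fun a b => ?_⟩⟩
    have ha : e.symm a ∈ H.comap (e : G →* G') := by
      show e (e.symm a) ∈ H
      rw [e.apply_symm_apply]; exact a.2
    have hb : e.symm b ∈ H.comap (e : G →* G') := by
      show e (e.symm b) ∈ H
      rw [e.apply_symm_apply]; exact b.2
    have h1 := hc.is_comm.comm (⟨_, ha⟩ : H.comap (e : G →* G')) ⟨_, hb⟩
    have h2 : e.symm (a : G') * e.symm (b : G') = e.symm (b : G') * e.symm (a : G') :=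
      congrArg Subtype.val h1
    apply Subtype.ext
    have h3 := congrArg e h2
    simpa using h3
  have hn := h _ hc
  apply le_antisymm
  · intro x hx
    have hx' : e.symm x ∈ Subgroup.normalizer ((H.comap (e : G →* G') : Subgroup G) : Set G) := by
      rw [Subgroup.mem_normalizer_iff] at hx ⊢
      intro y
      have := hx (e y)
      simp only [Subgroup.mem_comap, MonoidHom.coe_coe, map_mul, map_inv,
        MulEquiv.apply_symm_apply]
      exact this
    rw [hn] at hx'
    have : e (e.symm x) ∈ H := hx'
    rwa [e.apply_symm_apply] at this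
  · exact Subgroup.le_normalizer

theorem SN.subgroup {G : Type*} [Group G] (h : SN G) (K : Subgroup G) : SN K := by
  intro H hH
  have hc : ¬ IsMulCommutative (H.map K.subtype) := by
    intro hc
    apply hH
    refine ⟨⟨fun a b => ?_⟩⟩
    have ha : (a : K).1 ∈ H.map K.subtype := ⟨a.1, a.2, rfl⟩
    have hb : (b : K).1 ∈ H.map K.subtype := ⟨b.1, b.2, rfl⟩
    have h1 := hc.is_comm.comm (⟨_, ha⟩ : H.map K.subtype) ⟨_, hb⟩
    have h2 : ((a : K) : G) * ((b : K) : G) = ((b : K) : G) * ((a : K) : G) :=
      congrArg Subtype.val h1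
    apply Subtype.ext
    apply Subtype.ext
    exact h2
  have hn := h _ hc
  apply le_antisymm
  · intro x hx
    have hx' : (x : G) ∈ Subgroup.normalizer ((H.map K.subtype : Subgroup G) : Set G) := by
      rw [Subgroup.mem_normalizer_iff] at hx ⊢
      intro y
      constructor
      · rintro ⟨z, hz, rfl⟩
        refine ⟨x * z * x⁻¹, (hx z).1 hz, rfl⟩
      · rintro ⟨z, hz, hzy⟩
        have hy : y = (x⁻¹ * z * x : K) := by
          have : (z : G) = (x : G) * y * (x : G)⁻¹ := hzy
          simp [this, mul_assoc]
        have hz' : x * (x⁻¹ * z * x) * x⁻¹ ∈ H := by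
          have : x * (x⁻¹ * z * x) * x⁻¹ = z := by group
          rw [this]; exact hz
        refine ⟨x⁻¹ * z * x, (hx _).2 hz', hy.symm⟩
    rw [hn] at hx'
    obtain ⟨z, hz, hzx⟩ := hx'
    have : z = x := Subtype.ext hzx
    rw [← this]; exact hz
  · exact Subgroup.le_normalizer

theorem SN.quotient {G : Type*} [Group G] (h : SN G) (N : Subgroup G) [N.Normal] : SN (G ⧸ N) := by
  intro H hH
  have hc : ¬ IsMulCommutative (H.comap (QuotientGroup.mk' N)) := by
    intro hc
    apply hH
    refine ⟨⟨fun a b => ?_⟩⟩
    obtain ⟨a', ha'⟩ := QuotientGroup.mk'_surjective N a.1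
    obtain ⟨b', hb'⟩ := QuotientGroup.mk'_surjective N b.1
    have ha : a' ∈ H.comap (QuotientGroup.mk' N) := by
      show QuotientGroup.mk' N a' ∈ H
      rw [ha']; exact a.2
    have hb : b' ∈ H.comap (QuotientGroup.mk' N) := by
      show QuotientGroup.mk' N b' ∈ H
      rw [hb']; exact b.2
    have h1 := hc.is_comm.comm (⟨_, ha⟩ : H.comap (QuotientGroup.mk' N)) ⟨_, hb⟩
    have h2 : a' * b' = b' * a' := congrArg Subtype.val h1
    apply Subtype.ext
    have h3 := congrArg (QuotientGroup.mk' N) h2
    rw [map_mul, map_mul, ha', hb'] at h3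
    exact h3
  have hn := h _ hc
  apply le_antisymm
  · intro x hx
    obtain ⟨x', rfl⟩ := QuotientGroup.mk'_surjective N x
    have hx' : x' ∈ Subgroup.normalizer ((H.comap (QuotientGroup.mk' N) : Subgroup G) : Set G) := by
      rw [Subgroup.mem_normalizer_iff] at hx ⊢
      intro y
      have := hx (QuotientGroup.mk' N y)
      simp only [Subgroup.mem_comap, map_mul, map_inv]
      exact this
    rw [hn] at hx'
    exact hx'
  · exact Subgroup.le_normalizer

end Cfsg.Agent.Lib.Helper12.SNDef
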