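import Mathlib
import Cfsg.Agent.Lib.Helper12.SNDef
import Cfsg.Agent.Lib.Helper39.CTGroup

/-!
Statements of the pieces of S4073 (finite simple groups in which every non-abelian subgroup is
self-normalizing), as `Prop`-valued definitions (helper12).  Each piece `X` is proved in a file
`Cfsg/Agent/Lib/<Seat>/SN<PIECE>.lean` as `theorem main : SNStmt.X.{u}`.
-/

set_option autoImplicit false
set_option linter.unusedVariables false

universe u

namespace Cfsg.Agent.Lib.Helper12.SNStmt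

open Cfsg.Agent.Lib.Helper12.SNDef Cfsg.Agent.Lib.Helper39.CTGroup

/-- The structure given by the landed S4071 (right hand side, verbatim): `X = ⟨x⟩ ⋉ A`, `⟨x⟩` a
`q`-group, `A` normal commutative of order prime to `q`, `x` fixed point free on `A`. -/
def Split (X : Type*) [Group X] (x : X) (A : Subgroup X) (q : ℕ) : Prop :=
  q.Prime ∧ A.Normal ∧ IsMulCommutative A ∧ (∃ k : ℕ, orderOf x = q ^ k) ∧
    ¬ q ∣ Nat.card A ∧ (Subgroup.zpowers x).IsComplement' A ∧ x ^ q ∈ Subgroup.center X ∧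
    ∀ a : X, a ∈ A → a ≠ 1 → x * a * x⁻¹ ≠ a

/-- Everything commuting with an involution has square one. -/
def Hexp (L : Type*) [Group L] : Prop :=
  ∀ t e : L, t ≠ 1 → t ^ 2 = 1 → Commute t e → e ^ 2 = 1

/-! ### Sylow subgroups are abelian -/

/-- SYL1A.  Landed `Cfsg.Agent.S0071.result P` (Frobenius criterion, P any Sylow p-subgroup): if
no such pair existed (for `Q ≤ P`), `P` would have a normal complement `N`; `N = ⊥` makes `G` a
`p`-group (center nontrivial and normal, so `G` commutative), `N = ⊤` makes `P = ⊥`, against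
`p ∣ |G|`. -/
def Syl1A : Prop := ∀ {G : Type u} [Group G] [Finite G] [IsSimpleGroup G]
    (hna : ¬ IsMulCommutative G) (p : ℕ) [Fact p.Prime] (hp : p ∣ Nat.card G),
    ∃ (Q : Subgroup G) (g : G), IsPGroup p Q ∧ g ∈ Subgroup.normalizer (Q : Set G) ∧
      g ∉ Subgroup.centralizer (Q : Set G) ∧ Nat.Coprime (orderOf g) p

/-- S2SIMPLE.  `Q = ⊥` (trivial) or `Q = ⊤`: then `X` is a `p`-group, `orderOf g` is a power of
`p` and prime to `p`, so `g = 1`. -/
def S2Simple : Prop := ∀ {X : Type u} [Group X] [Finite X] [IsSimpleGroup X]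
    (p : ℕ) [Fact p.Prime] (Q : Subgroup X) (hQn : Q.Normal) (hQ : IsPGroup p Q) (g : X)
    (hgo : Nat.Coprime (orderOf g) p), g ∈ Subgroup.centralizer (Q : Set X)

/-- S2NILP.  Landed `Cfsg.Agent.S4075.result` (→): `X` commutative (done), or `|X|` a prime
power `r ^ k`: if `Q = ⊥` done; else `p = r`, `orderOf g ∣ p ^ k` and prime to `p`, so `g = 1`. -/
def S2Nilp : Prop := ∀ {X : Type u} [Group X] [Finite X] [Group.IsNilpotent X] (hS : SN X)
    (p : ℕ) [Fact p.Prime] (Q : Subgroup X) (hQ : IsPGroup p Q) (g : X)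
    (hgo : Nat.Coprime (orderOf g) p), g ∈ Subgroup.centralizer (Q : Set X)

/-- S2QP.  `|X ⧸ A| = |⟨x⟩| = p ^ k` (complement), the image of `g` has order dividing
`orderOf g` and `p ^ k`, so `g ∈ A`.  `Q ⊓ A = ⊥` (orders coprime), both normal, so they commute
elementwise (`Subgroup.commute_of_normal_of_disjoint`). -/
def S2QP : Prop := ∀ {X : Type u} [Group X] [Finite X] (x : X) (A : Subgroup X) (p : ℕ)
    (hsp : Split X x A p) (Q : Subgroup X) (hQn : Q.Normal) (hQ : IsPGroup p Q) (g : X)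
    (hgo : Nat.Coprime (orderOf g) p), g ∈ Subgroup.centralizer (Q : Set X)

/-- S2QNP.  `|X ⧸ A| = q ^ m`; the image of `u` has order dividing `p ^ k` and `q ^ m`, so it is
trivial: `u ∈ A`. -/
def S2QNP : Prop := ∀ {X : Type u} [Group X] [Finite X] (x : X) (A : Subgroup X) (q : ℕ)
    (hsp : Split X x A q) (p : ℕ) (hp : p.Prime) (hpq : p ≠ q) (u : X)
    (hu : ∃ k : ℕ, u ^ (p ^ k) = 1), u ∈ A

/-- S2B.  `B = {a ∈ A | ∃ k, a ^ (p ^ k) = 1}`, a subgroup since `A` is commutative, normal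
since `A` is. -/
def S2B : Prop := ∀ {X : Type u} [Group X] [Finite X] (A : Subgroup X) (hAn : A.Normal)
    (hAc : IsMulCommutative A) (p : ℕ) (hp : p.Prime),
    ∃ B : Subgroup X, B.Normal ∧ B ≤ A ∧ IsPGroup p B ∧
      ∀ a ∈ A, (∃ k : ℕ, a ^ (p ^ k) = 1) → a ∈ B

/-- S2MAX.  `B.map (normalizer Q).subtype` with `(x : G)` is a pair, so
`|B| ≤ |Q| = |Q.subgroupOf _|`; with `Q.subgroupOf _ ≤ B` they are equal. -/
def S2Max : Prop := ∀ {G : Type u} [Group G] [Finite G] (p : ℕ) [Fact p.Prime] (Q : Subgroup G)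
    (hmax : ∀ (Q' : Subgroup G) (g' : G), IsPGroup p Q' → g' ∈ Subgroup.normalizer (Q' : Set G) →
        g' ∉ Subgroup.centralizer (Q' : Set G) → Nat.Coprime (orderOf g') p →
        Nat.card Q' ≤ Nat.card Q)
    (B : Subgroup (Subgroup.normalizer (Q : Set G))) (hBn : B.Normal) (hB : IsPGroup p B)
    (hQB : Q.subgroupOf (Subgroup.normalizer (Q : Set G)) ≤ B)
    (x : Subgroup.normalizer (Q : Set G)) (hxo : Nat.Coprime (orderOf x) p)
    (hxb : ∃ b ∈ B, x * b * x⁻¹ ≠ b),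
    B ≤ Q.subgroupOf (Subgroup.normalizer (Q : Set G))

/-- S2D.  If `Q < P` then (normalizers grow in the nilpotent group `P`:
`normalizerCondition_of_isNilpotent`) some `u ∈ P`, `u ∉ Q` normalizes `Q`; `u` is a
`p`-element, contradiction. -/
def S2D : Prop := ∀ {G : Type u} [Group G] [Finite G] (p : ℕ) [Fact p.Prime] (Q : Subgroup G)
    (hloc : ∀ u ∈ Subgroup.normalizer (Q : Set G), (∃ k : ℕ, u ^ (p ^ k) = 1) → u ∈ Q)
    (P : Sylow p G) (hQP : Q ≤ (P : Subgroup G)), Q = (P : Subgroup G)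

/-- SYL2 (statement proved by S2GLUE). -/
def Syl2 : Prop := ∀ {G : Type u} [Group G] [Finite G] (hS : SN G)
    (p : ℕ) [Fact p.Prime] (Q : Subgroup G) (g : G) (hQ : IsPGroup p Q)
    (hg : g ∈ Subgroup.normalizer (Q : Set G)) (hgc : g ∉ Subgroup.centralizer (Q : Set G))
    (hgo : Nat.Coprime (orderOf g) p)
    (hmax : ∀ (Q' : Subgroup G) (g' : G), IsPGroup p Q' → g' ∈ Subgroup.normalizer (Q' : Set G) →
        g' ∉ Subgroup.centralizer (Q' : Set G) → Nat.Coprime (orderOf g') p →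
        Nat.card Q' ≤ Nat.card Q),
    IsMulCommutative Q ∧ ∀ P : Sylow p G, Q ≤ (P : Subgroup G) → Q = (P : Subgroup G)

/-- S2GLUE.  `X := ↥(normalizer Q)`, `Q' := Q.subgroupOf _` (normal `p`-subgroup of `X`),
`g' := ⟨g, hg⟩ ∉ centralizer Q'`.  `SN X` by `SN.subgroup`.  Landed `Cfsg.Agent.S4072.result`:
`X` solvable or simple.  Simple: S2Simple, contradiction.  Nilpotent: S2Nilp, contradiction.
Else landed `Cfsg.Agent.S4071.result` (→) gives `x A q` with `Split X x A q`.  `q = p`: S2QP,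
contradiction.  `q ≠ p`: S2QNP: all `p`-elements of `X` lie in `A`; S2B gives `B`; `Q' ≤ B`;
`B ≠ ⊥` (as `Q' ≠ ⊥`), so some `b ∈ B` is moved by `x` (fixed point freeness); S2Max: `B = Q'`.
So `Q` is commutative (`B ≤ A`), and S2D applies (a `p`-element of `normalizer Q` lies in `A`,
hence in `B = Q'`). -/
def S2Glue : Prop :=
  S2Simple.{u} → S2Nilp.{u} → S2QP.{u} → S2QNP.{u} → S2B.{u} → S2Max.{u} → S2D.{u} → Syl2.{u}

/-! ### Centralizers are abelian -/

/-- CASIMPLE.  The center is normal, not `⊥`, so `⊤`. -/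
def CASimple : Prop := ∀ {X : Type u} [Group X] [IsSimpleGroup X] (z : X)
    (hz : z ∈ Subgroup.center X) (hz1 : z ≠ 1), IsMulCommutative X

/-- CANILP.  `K` is an `r`-group, so inside a Sylow `r`-subgroup. -/
def CANilp : Prop := ∀ {G : Type u} [Group G] [Finite G]
    (hsyl : ∀ (p : ℕ) [Fact p.Prime] (P : Sylow p G), IsMulCommutative (P : Subgroup G))
    (K : Subgroup G) (hK : IsPrimePow (Nat.card K)), IsMulCommutative K

/-- CACENT.  Every element is `h * a` with `h ∈ zpowers w`, `a ∈ A`.  Central `c = h * a`: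
`a` commutes with `w`, so `a = 1`.  `z = h * a` normalizing `zpowers w`: `a` normalizes it,
`a * w * a⁻¹ * w⁻¹ ∈ zpowers w ⊓ A = ⊥`, so `a` commutes with `w`, `a = 1`. -/
def CACent : Prop := ∀ {X : Type u} [Group X] [Finite X] (w : X) (A : Subgroup X) (q : ℕ)
    (hsp : Split X w A q),
    Subgroup.center X ≤ Subgroup.zpowers w ∧
      ∀ z : X, z ∈ Subgroup.normalizer ((Subgroup.zpowers w : Subgroup X) : Set X) →
        z ∈ Subgroup.zpowers w

/-- CASYL.  `|X| = q ^ k * |A|` with `q ∤ |A|`, `|R|` a power of `q` dividing `|X|`, so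
`|R| ≤ q ^ k = |zpowers w|`. -/
def CASyl : Prop := ∀ {X : Type u} [Group X] [Finite X] (w : X) (A : Subgroup X) (q : ℕ)
    (hsp : Split X w A q) (R : Subgroup X) (hR : IsPGroup q R) (hwR : Subgroup.zpowers w ≤ R),
    R ≤ Subgroup.zpowers w

/-- CTA (statement proved by CAGLUE). -/
def Cta : Prop := ∀ {G : Type u} [Group G] [Finite G] (hS : SN G)
    (hsyl : ∀ (p : ℕ) [Fact p.Prime] (P : Sylow p G), IsMulCommutative (P : Subgroup G))
    (x : G) (hx : x ≠ 1) (hnc : ¬ IsMulCommutative (Subgroup.centralizer ({x} : Set G))),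
    ∃ (p : ℕ) (_ : Fact p.Prime) (P : Sylow p G) (y : G), (P : Subgroup G) = Subgroup.zpowers y ∧
      x ∈ Subgroup.zpowers y ∧
      ∀ z ∈ Subgroup.centralizer ({x} : Set G),
        z ∈ Subgroup.normalizer ((Subgroup.zpowers y : Subgroup G) : Set G) →
        z ∈ Subgroup.zpowers y

/-- CAGLUE.  `C := ↥(centralizer {x})`, `x' := ⟨x, _⟩ ∈ center C`, `x' ≠ 1`, `SN C`
(`SN.subgroup`).  Landed S4072: `C` solvable or simple.  Simple: CASimple, contradiction.
Nilpotent: landed S4075 (→): commutative or `IsPrimePow |C|`, then CANilp: contradiction.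
Else landed S4071 (→): `w A q`, `Split C w A q`.  CACent: `x' ∈ zpowers w`.  `y := (w : G)`;
`zpowers y` is a `q`-group, inside a Sylow `P`; `P` commutative and `x ∈ P` so
`P ≤ centralizer {x}`; CASyl for `P.subgroupOf _` gives `P = zpowers y`.  Last clause: CACent. -/
def CAGlue : Prop := CASimple.{u} → CANilp.{u} → CACent.{u} → CASyl.{u} → Cta.{u}

/-- CBBURN.  Else `normalizer P ≤ centralizer P` and Mathlib's
`MonoidHom.ker_transferSylow_isComplement'` gives a normal complement `N`; `N = ⊥`: `P = ⊤`, `G`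
commutative; `N = ⊤`: `P = ⊥`. -/
def CBBurn : Prop := ∀ {G : Type u} [Group G] [Finite G] [IsSimpleGroup G]
    (hna : ¬ IsMulCommutative G) (p : ℕ) [Fact p.Prime] (P : Sylow p G)
    (hPc : IsMulCommutative (P : Subgroup G)) (hP1 : (P : Subgroup G) ≠ ⊥),
    ∃ z : G, z ∈ Subgroup.normalizer ((P : Subgroup G) : Set G) ∧
      z ∉ Subgroup.centralizer ((P : Subgroup G) : Set G)

/-- CBNORM.  `z` and `z⁻¹` conjugate `y` to powers of `y`, hence `x` to powers of `x`;
so `c` commutes with `x` iff `z * c * z⁻¹` does. -/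
def CBNorm : Prop := ∀ {G : Type u} [Group G] (x y z : G) (hxy : x ∈ Subgroup.zpowers y)
    (hz : z ∈ Subgroup.normalizer ((Subgroup.zpowers y : Subgroup G) : Set G)),
    z ∈ Subgroup.normalizer ((Subgroup.centralizer ({x} : Set G) : Subgroup G) : Set G)

/-- CTB (statement proved by CBGLUE). -/
def Ctb : Prop := ∀ {G : Type u} [Group G] [Finite G] [IsSimpleGroup G]
    (hna : ¬ IsMulCommutative G) (hS : SN G)
    (x : G) (hx : x ≠ 1) (hnc : ¬ IsMulCommutative (Subgroup.centralizer ({x} : Set G)))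
    (p : ℕ) [Fact p.Prime] (P : Sylow p G) (y : G) (hP : (P : Subgroup G) = Subgroup.zpowers y)
    (hxy : x ∈ Subgroup.zpowers y)
    (hz : ∀ z ∈ Subgroup.centralizer ({x} : Set G),
        z ∈ Subgroup.normalizer ((Subgroup.zpowers y : Subgroup G) : Set G) →
        z ∈ Subgroup.zpowers y), False

/-- CBGLUE.  `P = zpowers y` is commutative and `≠ ⊥`; CBBurn gives `z`; CBNorm:
`z ∈ normalizer (centralizer {x})`; `SN.comm_of_normalizer`: `z ∈ centralizer {x}`; so
`z ∈ zpowers y = P`, which is commutative: `z ∈ centralizer P`, contradiction. -/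
def CBGlue : Prop := CBBurn.{u} → CBNorm.{u} → Ctb.{u}

/-! ### The group is `PSL₂(2 ^ f)` with `2 ^ f - 1` prime -/

/-- FWD.  Copy the proof of the landed `Cfsg.Agent.S5748.forward` (it builds `t`, a Sylow
2-subgroup `T ≥ centralizer {t}`, `F` with `|F| = |T| = 2 ^ k`) and add `T = centralizer {t}`:
take `s ≠ 1` in the center of `T`; `T ≤ centralizer {s} = centralizer {t}`
(`Cfsg.Agent.Lib.Helper39.CTGroup.cent_eq`). -/
def Fwd : Prop := ∀ {G : Type u} [Group G] [Finite G] [IsSimpleGroup G]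
    (hG : ¬ ∀ a b : G, a * b = b * a) (hCT : CT G),
    ∃ (t : G) (F : Type) (_ : Field F) (_ : Fintype F) (f : ℕ), t ≠ 1 ∧ t ^ 2 = 1 ∧ 2 ≤ f ∧
      Fintype.card F = 2 ^ f ∧ Nat.card (Subgroup.centralizer ({t} : Set G)) = 2 ^ f ∧
      Nonempty (G ≃* Matrix.ProjectiveSpecialLinearGroup (Fin 2) F)

/-- PRCARD.  `Cfsg.Agent.Lib.Helper39.CTCount.card_normalizer` (`|N(C)| = |C| * (|Vs t| - 1)`),
`Vs t` = the elements of `C` (all have square one:
`Cfsg.Agent.Lib.Helper39.CTFinal.sq_eq_one_of_mem_cent`); `t ∈ C` has order 2;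
`Cfsg.Agent.Lib.Helper39.CTGroup.exists_third`. -/
def PrCard : Prop := ∀ {G : Type u} [Group G] [Finite G] [IsSimpleGroup G]
    (hG : ¬ ∀ a b : G, a * b = b * a) (hCT : CT G) (t : G) (ht1 : t ≠ 1) (ht : t ^ 2 = 1),
    Nat.card (Subgroup.normalizer ((Subgroup.centralizer ({t} : Set G) : Subgroup G) : Set G)) =
        Nat.card (Subgroup.centralizer ({t} : Set G)) *
          (Nat.card (Subgroup.centralizer ({t} : Set G)) - 1) ∧
      Even (Nat.card (Subgroup.centralizer ({t} : Set G))) ∧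
      3 ≤ Nat.card (Subgroup.centralizer ({t} : Set G))

/-- PRSIMPLE.  `C = centralizer {t}`, `N = normalizer C`.  A normal subgroup of `N ⧸ C` has
preimage `K` with `C ≤ K`, `K` normal in `N`.  If `K` (as a subgroup of `G`) is commutative then
`K ≤ centralizer {t} = C` (as `t ∈ K`): the subgroup is `⊥`.  Else `SN` gives
`normalizer K = K`, and `N ≤ normalizer K`: the subgroup is `⊤`. -/
def PrSimple : Prop := ∀ {G : Type u} [Group G] [Finite G] (hS : SN G) (t : G)
    (hlt : ¬ Subgroup.normalizer ((Subgroup.centralizer ({t} : Set G) : Subgroup G) : Set G) ≤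
      Subgroup.centralizer ({t} : Set G)),
    IsSimpleGroup
      (↥(Subgroup.normalizer ((Subgroup.centralizer ({t} : Set G) : Subgroup G) : Set G)) ⧸
        (Subgroup.centralizer ({t} : Set G)).subgroupOf
          (Subgroup.normalizer ((Subgroup.centralizer ({t} : Set G) : Subgroup G) : Set G)))

/-- PRODD.  Commutative: `IsSimpleGroup.prime_card`.  Else `CT Q`, centralizers commutative
(`Cfsg.Agent.Lib.Helper39.CTGroup.cent_comm`), landed `Cfsg.Agent.S0182.result`: solvable,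
`IsSimpleGroup.comm_iff_isSolvable`: contradiction. -/
def PrOdd : Prop := ∀ {Q : Type u} [Group Q] [Finite Q] [IsSimpleGroup Q]
    (hodd : Odd (Nat.card Q)) (hct : (¬ ∀ a b : Q, a * b = b * a) → CT Q), (Nat.card Q).Prime

/-- PRMAIN (statement proved by PRGLUE). -/
def PrMain : Prop := ∀ {G : Type u} [Group G] [Finite G] [IsSimpleGroup G]
    (hG : ¬ ∀ a b : G, a * b = b * a) (hS : SN G) (hCT : CT G)
    (hgen : ∀ (Q : Type u) [Group Q] [Finite Q] [IsSimpleGroup Q],
      (¬ ∀ a b : Q, a * b = b * a) → SN Q → CT Q)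
    (t : G) (ht1 : t ≠ 1) (ht : t ^ 2 = 1),
    (Nat.card (Subgroup.centralizer ({t} : Set G)) - 1).Prime

/-- PRGLUE.  `C = centralizer {t}`, `N = normalizer C`, `Qt := N ⧸ C.subgroupOf N`.  PrCard:
`|N| = |C| * (|C| - 1)`, so `|Qt| = |C| - 1` is odd and `N ≰ C`; PrSimple: `Qt` simple;
`SN Qt` by `SN.subgroup`, `SN.quotient`; `hgen Qt` gives the hypothesis of PrOdd. -/
def PrGlue : Prop := PrCard.{u} → PrSimple.{u} → PrOdd.{u} → PrMain.{u}

/-! ### The converse: subgroups of a group of order `2 ^ n * (2 ^ n - 1)` -/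

/-- B2AB.  `T ≠ ⊥`: the center of `T` is nontrivial, a power `t` of a central element is an
involution, every `a ∈ T` commutes with `t`, so `a ^ 2 = 1`; exponent two gives commutative. -/
def B2Ab : Prop := ∀ {L : Type u} [Group L] [Finite L] (hexp : Hexp L) (T : Subgroup L)
    (hT : IsPGroup 2 T), (∀ a ∈ T, a ^ 2 = 1) ∧ IsMulCommutative T

/-- BHCARD.  `r = 2 ^ n - 1` is an odd prime.  `r ∤ |H|`: `|H| ∣ 2 ^ n`, `H` a 2-group,
commutative.  `2 ∤ |H|`: `|H| ∣ r`, `H` trivial or cyclic. -/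
def BHCard : Prop := ∀ {L : Type u} [Group L] [Finite L]
    (h2 : ∀ T : Subgroup L, IsPGroup 2 T → IsMulCommutative T) (n : ℕ)
    (hprime : (2 ^ n - 1).Prime) (H : Subgroup L) (hdvd : Nat.card H ∣ 2 ^ n * (2 ^ n - 1))
    (hH : ¬ IsMulCommutative H), 2 ∣ Nat.card H ∧ (2 ^ n - 1) ∣ Nat.card H

/-- BFREE.  `zpowers e` (of prime order `r`) acts on `Q` by conjugation; a fixed point
`u ≠ 1` has a power `t` which is an involution commuting with `e`, so `e ^ 2 = 1`, impossible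
(`r` odd prime).  So `|Q| ≡ 1 mod r` (e.g. `IsPGroup.card_modEq_card_fixedPoints`, or count
orbits). -/
def BFree : Prop := ∀ {L : Type u} [Group L] [Finite L] (hexp : Hexp L) (e : L)
    (hep : (orderOf e).Prime) (heo : Odd (orderOf e)) (Q : Subgroup L) (hQ : IsPGroup 2 Q)
    (he : e ∈ Subgroup.normalizer (Q : Set L)), orderOf e ∣ Nat.card Q - 1

/-- BINV.  For `u ∈ T`, `u ≠ 1`: `f := u * e * u⁻¹ ∈ zpowers e` commutes with `e`, and `u`
commutes with `e * f`, so `(e * f) ^ 2 = 1`; odd order: `e * f = 1`, i.e. `u` inverts `e`.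
Two distinct `u v ≠ 1` in `T`: `u * v ≠ 1` inverts `e` and centralizes `e`, so `e ^ 2 = 1`,
`e = 1`.  So `T ⊆ {1, u}`. -/
def BInv : Prop := ∀ {L : Type u} [Group L] [Finite L] (hexp : Hexp L) (e : L) (he1 : e ≠ 1)
    (heo : Odd (orderOf e)) (T : Subgroup L) (hT : ∀ a ∈ T, a ^ 2 = 1)
    (hTe : T ≤ Subgroup.normalizer ((Subgroup.zpowers e : Subgroup L) : Set L)), Nat.card T ≤ 2

/-- BNSUB.  `zpowers u` is a 2-group, inside a Sylow 2-subgroup, which is `Q` (normal Sylow
subgroups are unique). -/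
def BNSub : Prop := ∀ {X : Type u} [Group X] [Finite X] (Q : Sylow 2 X)
    (hQ : (Q : Subgroup X).Normal) (u : X) (hu : u ^ 2 = 1), u ∈ (Q : Subgroup X)

/-- BSX.  `Q ≤ normalizer Q`, whose index divides the prime `index Q` and is not 1 (`Q` not
normal): `normalizer Q = Q ≤ centralizer Q`; Mathlib's
`MonoidHom.ker_transferSylow_isComplement'`. -/
def BSX : Prop := ∀ {X : Type u} [Group X] [Finite X] (Q : Sylow 2 X)
    (hQc : IsMulCommutative (Q : Subgroup X)) (hQn : ¬ (Q : Subgroup X).Normal)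
    (hidx : ((Q : Subgroup X).index).Prime),
    ∃ K : Subgroup X, K.Normal ∧ K.IsComplement' (Q : Subgroup X)

/-- BN (statement proved by BNGLUE). -/
def Bn : Prop := ∀ {L : Type u} [Group L] [Finite L] (hexp : Hexp L)
    (n : ℕ) (hprime : (2 ^ n - 1).Prime) (M : Subgroup L) (hM : Nat.card M = 2 ^ n * (2 ^ n - 1))
    (H X : Subgroup L) (hHX : H ≤ X) (hXM : X ≤ M) (hn : X ≤ Subgroup.normalizer (H : Set L))
    (hH : ¬ IsMulCommutative H) (Q : Sylow 2 X) (hQ : (Q : Subgroup X).Normal), X ≤ H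

/-- BS (statement proved by BSGLUE). -/
def Bs : Prop := ∀ {L : Type u} [Group L] [Finite L] (hexp : Hexp L)
    (n : ℕ) (hprime : (2 ^ n - 1).Prime) (M : Subgroup L) (hM : Nat.card M = 2 ^ n * (2 ^ n - 1))
    (H X : Subgroup L) (hHX : H ≤ X) (hXM : X ≤ M) (hn : X ≤ Subgroup.normalizer (H : Set L))
    (hH : ¬ IsMulCommutative H) (Q : Sylow 2 X) (hQ : ¬ (Q : Subgroup X).Normal), X ≤ H

/-- BNGLUE.  `r := 2 ^ n - 1`.  B2Ab + BHCard: `2 ∣ |H|`, `r ∣ |H|`; Cauchy: `e u ∈ H` of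
orders `r`, `2`.  BNSub: `u ∈ Q`.  `Q_H := Q.map X.subtype ⊓ H` is a 2-group `≠ ⊥` normalized
by `e`, `|Q_H| = 2 ^ a` with `1 ≤ a ≤ n`; BFree: `r ∣ 2 ^ a - 1`, so `a = n`; `2 ^ n * r ∣ |H|`,
so `H = M ≥ X`. -/
def BNGlue : Prop := B2Ab.{u} → BHCard.{u} → BFree.{u} → BNSub.{u} → Bn.{u}

/-- BSGLUE.  `r := 2 ^ n - 1`.  `|X| ∣ 2 ^ n * r`; `index Q` is odd, divides `r`, is not 1:
`index Q = r`.  B2Ab (for `Q.map X.subtype`): `Q` commutative of exponent 2.  BSX: normal
complement `K`, `|K| = r`, `K = zpowers e'`, `e := (e' : L)` of order `r`,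
`Q.map X.subtype ≤ normalizer (zpowers e)`.  BInv: `|Q| ≤ 2`, `|X| ≤ 2 * r`.  BHCard:
`2 * r ∣ |H|`, so `H = X`. -/
def BSGlue : Prop := B2Ab.{u} → BHCard.{u} → BInv.{u} → BSX.{u} → Bs.{u}

/-- DIH.  Landed `Cfsg.Agent.S4074.result k hk` (←) gives `SN (DihedralGroup k)`;
`SN.of_mulEquiv φ.symm`: `SN M`; apply it to `H.subgroupOf M` (not commutative, normalized by
the elements of `X`). -/
def Dih : Prop := ∀ {L : Type u} [Group L] (k : ℕ) (hk : 2 < k) (hodd : Odd k) (M : Subgroup L)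
    (φ : M ≃* DihedralGroup k) (H X : Subgroup L) (hHX : H ≤ X) (hXM : X ≤ M)
    (hn : X ≤ Subgroup.normalizer (H : Set L)) (hH : ¬ IsMulCommutative H), X ≤ H

/-- ARITH (no universe parameter).  `2 ^ n - 1` prime gives `n` prime
(`Nat.prime_of_pow_sub_one_prime`); `|F₀| = p ^ a` (`FiniteField.card`), `p ^ (a * r) = 2 ^ n`:
`p = 2`, `a * r = n`, so `a = 1`, `|F₀| = 2`. -/
def Arith : Prop := ∀ (n : ℕ) (hn : (2 ^ n - 1).Prime) (F₀ : Type) [Field F₀] [Fintype F₀]
    (r : ℕ) (hr : r.Prime) (h2 : Fintype.card F₀ ≠ 2) (h : 2 ^ n = Fintype.card F₀ ^ r), False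

end Cfsg.Agent.Lib.Helper12.SNStmt
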