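import Mathlib
import Cfsg.Agent.Lib.Helper12.AOStmt
import Cfsg.Agent.Lib.Helper5.SL2Card

/-!
S4068, piece CARD: the order of `PSL₂` over a field with `2 ^ f` elements (helper12).
-/

set_option autoImplicit false

namespace Cfsg.Agent.Lib.Helper12.AOCARD

open Cfsg.Agent.Lib.Helper12.AOStmt

theorem main : CardPSL := by
  intro F _ _ f hf hF
  have h := Cfsg.Agent.Lib.Helper5.SL2Card.card_PSL_two hF
  have h1 : 2 ≤ 2 ^ f := by
    calc 2 = 2 ^ 1 := by norm_num
      _ ≤ 2 ^ f := Nat.pow_le_pow_right (by norm_num) hf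
  have hodd : Odd (2 ^ f - 1) := by
    have he : Even (2 ^ f) := Nat.even_pow.mpr ⟨even_two, by omega⟩
    exact Nat.Even.sub_odd (by omega) he odd_one
  have hg : Nat.gcd 2 (2 ^ f - 1) = 1 := Nat.coprime_two_left.mpr hodd
  rw [hg, mul_one] at h
  rw [h]
  have h2 : (2 ^ f) ^ 2 - 1 = (2 ^ f + 1) * (2 ^ f - 1) := by
    have h3 := Nat.sq_sub_sq (2 ^ f) 1
    simpa using h3
  rw [h2]
  ring

end Cfsg.Agent.Lib.Helper12.AOCARD
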