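import Mathlib
import Cfsg.Agent.Lib.Helper12.AOStmt

/-!
S4068, piece CENT: in a group all of whose nonidentity elements have prime order, commuting
nonidentity elements have the same order (helper12).
-/

set_option autoImplicit false

universe u

namespace Cfsg.Agent.Lib.Helper12.AOCENT

open Cfsg.Agent.Lib.Helper12.AOStmt

theorem main : Cent.{u} := by
  intro G _ _ hE x hx y hy hy1
  by_contra hne
  have hp := hE x hx
  have hq := hE y hy1
  have hcomm : Commute x y := by
    have h1 : y * x = x * y := Subgroup.mem_centralizer_singleton_iff.mp hy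
    exact h1.symm
  have hcop : Nat.Coprime (orderOf x) (orderOf y) := (Nat.coprime_primes hp hq).mpr (Ne.symm hne)
  have ho := hcomm.orderOf_mul_eq_mul_orderOf_of_coprime hcop
  have hxy1 : x * y ≠ 1 := by
    intro h
    rw [h, orderOf_one] at ho
    have h2 := hp.two_le
    have h3 := hq.two_le
    nlinarith
  have h4 := hE _ hxy1
  rw [ho] at h4
  exact Nat.not_prime_mul hp.one_lt.ne' hq.one_lt.ne' h4

end Cfsg.Agent.Lib.Helper12.AOCENT
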