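import Mathlib
import Cfsg.Agent.Lib.Helper12.AOStmt

/-!
S4068, piece INV: centralizers of involutions are commutative of exponent two (helper12).
-/

set_option autoImplicit false

universe u

namespace Cfsg.Agent.Lib.Helper12.AOINV

open Cfsg.Agent.Lib.Helper12.AOStmt

theorem main : Inv.{u} := by
  intro G _ _ hcent t ht
  have ht1 : t ≠ 1 := by
    intro h
    rw [h, orderOf_one] at ht
    omega
  have hsq : ∀ c ∈ Subgroup.centralizer ({t} : Set G), c ^ 2 = 1 := by
    intro c hc
    by_cases hc1 : c = 1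
    · rw [hc1, one_pow]
    · have h1 := hcent t ht1 c hc hc1
      rw [ht] at h1
      rw [← h1]
      exact pow_orderOf_eq_one c
  refine ⟨⟨⟨fun a b => ?_⟩⟩, hsq⟩
  have ha := hsq a a.2
  have hb := hsq b b.2
  have hab := hsq (a * b) (mul_mem a.2 b.2)
  have hai : (a : G)⁻¹ = a := inv_eq_of_mul_eq_one_left (by rw [← sq]; exact ha)
  have hbi : (b : G)⁻¹ = b := inv_eq_of_mul_eq_one_left (by rw [← sq]; exact hb)
  have habi : ((a : G) * b)⁻¹ = a * b := inv_eq_of_mul_eq_one_left (by rw [← sq]; exact hab)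
  apply Subtype.ext
  show (a : G) * (b : G) = (b : G) * (a : G)
  calc (a : G) * b = ((a : G) * b)⁻¹ := habi.symm
    _ = (b : G)⁻¹ * (a : G)⁻¹ := mul_inv_rev _ _
    _ = b * a := by rw [hai, hbi]

end Cfsg.Agent.Lib.Helper12.AOINV
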