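import Mathlib
import Cfsg.Agent.Lib.Helper12.SNStmt

/-!
S4073, piece ARITH: if `2 ^ n - 1` is prime then `2 ^ n` is not a proper prime power of the
order of a field with more than two elements (helper12).
-/

set_option autoImplicit false

namespace Cfsg.Agent.Lib.Helper12.SNARITH

open Cfsg.Agent.Lib.Helper12.SNDef Cfsg.Agent.Lib.Helper12.SNStmt

theorem main : Arith := by
  intro n hn F₀ _ _ r hr h2 h
  have hn1 : n ≠ 1 := by
    intro h1
    rw [h1] at hn
    exact Nat.not_prime_one hn
  obtain ⟨-, hnp⟩ := Nat.prime_of_pow_sub_one_prime hn1 hn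
  obtain ⟨p, -, a, hp, hcard⟩ := FiniteField.card' F₀
  rw [hcard, ← pow_mul] at h
  have hp2 : p = 2 := by
    have h1 : p ∣ 2 ^ n := by
      rw [h]
      exact dvd_pow_self p (Nat.mul_ne_zero a.pos.ne' hr.pos.ne')
    exact (Nat.prime_dvd_prime_iff_eq hp Nat.prime_two).mp (hp.dvd_of_dvd_pow h1)
  rw [hp2] at h hcard
  have hmul : n = (a : ℕ) * r := Nat.pow_right_injective (le_refl 2) h
  have hrn : r = n := by
    have h1 : r ∣ n := by rw [hmul]; exact dvd_mul_left r _
    exact (Nat.prime_dvd_prime_iff_eq hr hnp).mp h1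
  have ha : (a : ℕ) = 1 := by
    rw [hrn] at hmul
    have hnpos := hnp.pos
    have h3 : (a : ℕ) * n = 1 * n := by rw [one_mul]; exact hmul.symm
    exact Nat.eq_of_mul_eq_mul_right hnpos h3
  apply h2
  rw [hcard, ha, pow_one]

end Cfsg.Agent.Lib.Helper12.SNARITH
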