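import Mathlib
import Cfsg.Agent.Lib.Helper12.AOStmt
import Cfsg.Agent.Lib.Helper12.SNARITH
import Cfsg.Agent.S5893

/-!
S4068, piece Q8: `PSL₂` over the field with 8 elements has an element of order 9 (helper12).
-/

set_option autoImplicit false

namespace Cfsg.Agent.Lib.Helper12.AOQ8

open Cfsg.Agent.Lib.Helper12.AOStmt

theorem main : Q8 := by
  intro hD9 hCard F _ _ hF hE
  classical
  have hcard : Nat.card (Matrix.ProjectiveSpecialLinearGroup (Fin 2) F) = 504 := by
    have h := hCard F 3 (by norm_num) (by rw [hF]; norm_num)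
    rw [h]; norm_num
  haveI : Finite (Matrix.ProjectiveSpecialLinearGroup (Fin 2) F) :=
    Nat.finite_of_card_ne_zero (by rw [hcard]; norm_num)
  haveI : Fact (Nat.Prime 3) := ⟨Nat.prime_three⟩
  obtain ⟨P⟩ : Nonempty (Sylow 3 (Matrix.ProjectiveSpecialLinearGroup (Fin 2) F)) := inferInstance
  have hPcard : Nat.card (P : Subgroup (Matrix.ProjectiveSpecialLinearGroup (Fin 2) F)) = 9 := by
    obtain ⟨k, hk⟩ := (IsPGroup.iff_card (p := 3)).1 P.isPGroup'
    have hdvd : Nat.card (P : Subgroup (Matrix.ProjectiveSpecialLinearGroup (Fin 2) F)) ∣ 504 := by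
      rw [← hcard]; exact Subgroup.card_subgroup_dvd_card _
    have hnd : ¬ 3 ∣ (P : Subgroup (Matrix.ProjectiveSpecialLinearGroup (Fin 2) F)).index :=
      P.not_dvd_index
    have hmul : Nat.card (P : Subgroup (Matrix.ProjectiveSpecialLinearGroup (Fin 2) F)) *
        (P : Subgroup (Matrix.ProjectiveSpecialLinearGroup (Fin 2) F)).index = 504 := by
      rw [← hcard]; exact Subgroup.card_mul_index _
    rw [hk] at hdvd hmul ⊢
    have hk2 : k ≤ 2 := by
      by_contra h
      have h1 : 3 ^ 3 ∣ 3 ^ k := Nat.pow_dvd_pow 3 (by omega)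
      have h2 : 3 ^ 3 ∣ 504 := h1.trans hdvd
      norm_num at h2
    interval_cases k
    · exfalso
      apply hnd
      rw [pow_zero, one_mul] at hmul
      rw [hmul]; norm_num
    · exfalso
      apply hnd
      have h1 : (P : Subgroup (Matrix.ProjectiveSpecialLinearGroup (Fin 2) F)).index = 168 := by
        omega
      rw [h1]; norm_num
    · norm_num
  have hPtop : (P : Subgroup (Matrix.ProjectiveSpecialLinearGroup (Fin 2) F)) ≠ ⊤ := by
    intro h
    rw [h, Subgroup.card_top, hcard] at hPcard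
    omega
  obtain ⟨M, hM, hPM⟩ := (eq_top_or_exists_le_coatom _).resolve_left hPtop
  have hPM_dvd : 9 ∣ Nat.card M := by rw [← hPcard]; exact Subgroup.card_dvd_of_le hPM
  have heven : Even (Fintype.card F) := by rw [hF]; decide
  have h4 : 4 ≤ Fintype.card F := by rw [hF]; norm_num
  rcases Cfsg.Agent.S5893.result heven h4 M hM with h | h | h |
    ⟨F₀, hF₀1, hF₀2, r, hr, hne2, hc, -⟩
  · rw [hF] at h
    rw [h] at hPM_dvd
    norm_num at hPM_dvd
  · rw [hF] at h
    obtain ⟨φ⟩ := h
    have h1 : Nat.card M = 14 := by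
      rw [Nat.card_congr φ.toEquiv, DihedralGroup.nat_card]
    rw [h1] at hPM_dvd
    norm_num at hPM_dvd
  · rw [hF] at h
    have h' : Nonempty (M ≃* DihedralGroup 9) := h
    obtain ⟨φ⟩ := h'
    have hP' : Nat.card ((P.subgroupOf M).map φ.toMonoidHom) = 9 := by
      rw [Subgroup.card_map_of_injective φ.injective,
        Nat.card_congr (Subgroup.subgroupOfEquivOfLe hPM).toEquiv, hPcard]
    obtain ⟨x, hx, hxo⟩ := hD9 _ hP'
    obtain ⟨y, hy, rfl⟩ := hx
    have h9 : orderOf ((y : M) : Matrix.ProjectiveSpecialLinearGroup (Fin 2) F) = 9 := by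
      rw [Subgroup.orderOf_coe, ← MulEquiv.orderOf_eq φ y]; exact hxo
    have hy1 : ((y : M) : Matrix.ProjectiveSpecialLinearGroup (Fin 2) F) ≠ 1 := by
      intro h
      rw [h, orderOf_one] at h9
      omega
    have h5 := hE _ hy1
    rw [h9] at h5
    norm_num at h5
  · exact Cfsg.Agent.Lib.Helper12.SNARITH.main 3 (by norm_num) F₀ r hr hne2
      (by rw [← hc, hF]; norm_num)

end Cfsg.Agent.Lib.Helper12.AOQ8
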