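import Mathlib
import Cfsg.Agent.S0684

/-!
Fixed-point-free linear groups over `ZMod p` (helper12).

`IsFpf ρ`, `IsTrans ρ`, invariant and minimal invariant subspaces; abelian subgroups of a
fixed-point-free group are cyclic; a non-abelian normal subgroup of a group that is regular on
the non-zero vectors is irreducible; the commutant of an irreducible family is commutative.
-/

set_option autoImplicit false

namespace Cfsg.Agent.Lib.Helper12.FpfLin

variable {p : ℕ} [Fact p.Prime] {V : Type*} [AddCommGroup V] [Module (ZMod p) V] [Finite V]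
variable {G : Type*} [Group G]

/-- Every non-identity element fixes only the zero vector. -/
def IsFpf (ρ : G →* (V ≃ₗ[ZMod p] V)) : Prop :=
  ∀ g : G, g ≠ 1 → ∀ v : V, ρ g v = v → v = 0

/-- Transitive on non-zero vectors. -/
def IsTrans (ρ : G →* (V ≃ₗ[ZMod p] V)) : Prop :=
  ∀ v w : V, v ≠ 0 → w ≠ 0 → ∃ g : G, ρ g v = w

/-- `W` is invariant under `N`. -/
def Inv (ρ : G →* (V ≃ₗ[ZMod p] V)) (N : Subgroup G) (W : Submodule (ZMod p) V) : Prop :=
  ∀ n ∈ N, ∀ v ∈ W, ρ n v ∈ W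

/-- `W` is a minimal non-zero `N`-invariant subspace. -/
def MinInv (ρ : G →* (V ≃ₗ[ZMod p] V)) (N : Subgroup G) (W : Submodule (ZMod p) V) : Prop :=
  W ≠ ⊥ ∧ Inv ρ N W ∧ ∀ W' : Submodule (ZMod p) V, W' ≤ W → Inv ρ N W' → W' = ⊥ ∨ W' = W

theorem rho_mul (ρ : G →* (V ≃ₗ[ZMod p] V)) (g h : G) (v : V) : ρ (g * h) v = ρ g (ρ h v) := by
  rw [map_mul]; rfl

theorem rho_one (ρ : G →* (V ≃ₗ[ZMod p] V)) (v : V) : ρ 1 v = v := by
  rw [map_one]; rfl

theorem rho_inv_apply (ρ : G →* (V ≃ₗ[ZMod p] V)) (g : G) (v : V) : ρ g⁻¹ (ρ g v) = v := by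
  rw [← rho_mul, inv_mul_cancel, rho_one]

theorem rho_apply_inv (ρ : G →* (V ≃ₗ[ZMod p] V)) (g : G) (v : V) : ρ g (ρ g⁻¹ v) = v := by
  rw [← rho_mul, mul_inv_cancel, rho_one]

theorem eq_of_apply_eq {ρ : G →* (V ≃ₗ[ZMod p] V)} (hf : IsFpf ρ) {g h : G} {v : V} (hv : v ≠ 0)
    (e : ρ g v = ρ h v) : g = h := by
  by_contra hne
  have h1 : h⁻¹ * g ≠ 1 := by
    intro h1
    exact hne (by rw [← mul_one h, ← h1, mul_inv_cancel_left])
  apply hv
  apply hf _ h1 v
  rw [rho_mul, e, rho_inv_apply]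

theorem injective_of_fpf [Nontrivial V] {ρ : G →* (V ≃ₗ[ZMod p] V)} (hf : IsFpf ρ) :
    Function.Injective ρ := by
  intro g h e
  obtain ⟨v, hv⟩ := exists_ne (0 : V)
  exact eq_of_apply_eq hf hv (by rw [e])

theorem finite_of_fpf [Nontrivial V] {ρ : G →* (V ≃ₗ[ZMod p] V)} (hf : IsFpf ρ) : Finite G := by
  haveI : Finite (V ≃ₗ[ZMod p] V) := Cfsg.Agent.S0684.finite_linearEquiv
  exact Finite.of_injective ρ (injective_of_fpf hf)

theorem exists_minInv (ρ : G →* (V ≃ₗ[ZMod p] V)) (N : Subgroup G) (W₁ : Submodule (ZMod p) V)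
    (h1 : W₁ ≠ ⊥) (hW₁ : Inv ρ N W₁) : ∃ W, W ≤ W₁ ∧ MinInv ρ N W := by
  obtain ⟨W, hle, h0, hinv, hmin⟩ :=
    Cfsg.Agent.S0684.exists_min_inv (p := p) (V := V) (fun W => Inv ρ N W) W₁ h1 hW₁
  exact ⟨W, hle, h0, hinv, hmin⟩

theorem inv_inf {ρ : G →* (V ≃ₗ[ZMod p] V)} {N : Subgroup G} {W W' : Submodule (ZMod p) V}
    (h : Inv ρ N W) (h' : Inv ρ N W') : Inv ρ N (W ⊓ W') :=
  fun n hn v hv => ⟨h n hn v hv.1, h' n hn v hv.2⟩

theorem MinInv.eq_or_disjoint {ρ : G →* (V ≃ₗ[ZMod p] V)} {N : Subgroup G}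
    {W W' : Submodule (ZMod p) V} (h : MinInv ρ N W) (h' : MinInv ρ N W') :
    W = W' ∨ W ⊓ W' = ⊥ := by
  rcases h.2.2 (W ⊓ W') inf_le_left (inv_inf h.2.1 h'.2.1) with h1 | h1
  · exact Or.inr h1
  · left
    have hle : W ≤ W' := by rw [← h1]; exact inf_le_right
    rcases h'.2.2 W hle h.2.1 with h2 | h2
    · exact absurd h2 h.1
    · exact h2

theorem MinInv.map {ρ : G →* (V ≃ₗ[ZMod p] V)} {N : Subgroup G} [N.Normal]
    {W : Submodule (ZMod p) V} (h : MinInv ρ N W) (g : G) :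
    MinInv ρ N (W.map (ρ g : V →ₗ[ZMod p] V)) := by
  have hinvmap : ∀ (g : G) (W : Submodule (ZMod p) V), Inv ρ N W →
      Inv ρ N (W.map (ρ g : V →ₗ[ZMod p] V)) := by
    intro g W hW n hn v hv
    obtain ⟨w, hw, rfl⟩ := hv
    refine ⟨ρ (g⁻¹ * n * g) w, hW _ ?_ w hw, ?_⟩
    · have := Subgroup.Normal.conj_mem (inferInstance : N.Normal) n hn g⁻¹
      rwa [inv_inv] at this
    · show ρ g (ρ (g⁻¹ * n * g) w) = ρ n (ρ g w)
      rw [← rho_mul, ← rho_mul]
      congr 2
      group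
  refine ⟨?_, hinvmap g W h.2.1, ?_⟩
  · intro h0
    apply h.1
    rw [Submodule.eq_bot_iff] at h0 ⊢
    intro w hw
    have := h0 (ρ g w) ⟨w, hw, rfl⟩
    exact (LinearEquiv.map_eq_zero_iff _).mp this
  · intro W' hle hW'
    have hback : (W'.map (ρ g⁻¹ : V →ₗ[ZMod p] V)) ≤ W := by
      rintro _ ⟨w', hw', rfl⟩
      obtain ⟨w, hw, rfl⟩ := hle hw'
      show ρ g⁻¹ (ρ g w) ∈ W
      rw [rho_inv_apply]; exact hw
    have hW'eq : W' = (W'.map (ρ g⁻¹ : V →ₗ[ZMod p] V)).map (ρ g : V →ₗ[ZMod p] V) := by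
      ext v
      constructor
      · intro hv
        exact ⟨ρ g⁻¹ v, ⟨v, hv, rfl⟩, rho_apply_inv ρ g v⟩
      · rintro ⟨_, ⟨w, hw, rfl⟩, rfl⟩
        show ρ g (ρ g⁻¹ w) ∈ W'
        rw [rho_apply_inv]; exact hw
    rcases h.2.2 _ hback (hinvmap g⁻¹ W' hW') with h1 | h1
    · left
      rw [hW'eq, h1, Submodule.map_bot]
    · right
      rw [hW'eq, h1]

/-- A commutative subgroup of a fixed-point-free group is cyclic. -/
theorem abelian_isCyclic [Nontrivial V] {ρ : G →* (V ≃ₗ[ZMod p] V)} (hf : IsFpf ρ)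
    (A : Subgroup G) (hA : ∀ a ∈ A, ∀ b ∈ A, a * b = b * a) : IsCyclic A := by
  haveI : Finite G := finite_of_fpf hf
  have htop : Inv ρ A ⊤ := fun n _ v _ => Submodule.mem_top
  obtain ⟨W, -, hW0, hWinv, hWmin⟩ := exists_minInv ρ A ⊤ top_ne_bot htop
  let ρ' : A →* Module.End (ZMod p) V :=
    { toFun := fun a => (ρ (a : G) : V →ₗ[ZMod p] V)
      map_one' := by ext v; exact rho_one ρ v
      map_mul' := fun a b => by ext v; exact rho_mul ρ a b v }
  refine Cfsg.Agent.S0684.cyclic_of_irreducible ρ' W hW0 (fun a v hv => hWinv a a.2 v hv) ?_ ?_ ?_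
  · intro W' hle hinv'
    exact hWmin W' hle (fun n hn v hv => hinv' ⟨n, hn⟩ v hv)
  · intro a b
    exact Subtype.ext (hA a a.2 b b.2)
  · intro a ha
    obtain ⟨v, hv, hv0⟩ := Submodule.exists_mem_ne_zero_of_ne_bot hW0
    by_contra hne
    have hne' : (a : G) ≠ 1 := fun h => hne (Subtype.ext h)
    exact hv0 (hf _ hne' v (ha v hv))

section commutant

variable {U : Type*} [AddCommGroup U] [Module (ZMod p) U] [Finite U] [Nontrivial U]
  {M : Type*} [Monoid M]

/-- The commutant of an irreducible family of endomorphisms of a finite module is commutative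
(Schur and Wedderburn). -/
theorem commutant_comm (r : M →* Module.End (ZMod p) U)
    (hirr : ∀ W : Submodule (ZMod p) U, (∀ m : M, ∀ w ∈ W, r m w ∈ W) → W = ⊥ ∨ W = ⊤)
    (f f' : Module.End (ZMod p) U) (hf : ∀ m, f * r m = r m * f) (hf' : ∀ m, f' * r m = r m * f') :
    f * f' = f' * f := by
  classical
  haveI : Finite (Module.End (ZMod p) U) :=
    Finite.of_injective (fun f : Module.End (ZMod p) U => (f : U → U)) DFunLike.coe_injective
  let D : Subring (Module.End (ZMod p) U) := Subring.centralizer (Set.range r)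
  have hmem : ∀ x : Module.End (ZMod p) U, x ∈ D ↔ ∀ m, x * r m = r m * x := by
    intro x
    constructor
    · intro hx m
      exact (Subring.mem_centralizer_iff.mp hx (r m) ⟨m, rfl⟩).symm
    · intro hx
      apply Subring.mem_centralizer_iff.mpr
      rintro _ ⟨m, rfl⟩
      exact (hx m).symm
  have hinj : ∀ x ∈ D, x ≠ 0 → Function.Injective x := by
    intro x hx hx0
    rw [← LinearMap.ker_eq_bot]
    have hker : ∀ m : M, ∀ w ∈ LinearMap.ker x, r m w ∈ LinearMap.ker x := by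
      intro m w hw
      rw [LinearMap.mem_ker] at hw ⊢
      have := congrArg (fun e : Module.End (ZMod p) U => e w) ((hmem x).mp hx m)
      simp only [Module.End.mul_apply] at this
      rw [this, hw, map_zero]
    rcases hirr _ hker with h | h
    · exact h
    · exfalso
      apply hx0
      ext w
      have : w ∈ LinearMap.ker x := by rw [h]; exact Submodule.mem_top
      simpa using this
  haveI : Nontrivial D := by
    refine ⟨⟨0, 1, ?_⟩⟩
    intro h01
    have h1 : (0 : Module.End (ZMod p) U) = 1 := congrArg Subtype.val h01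
    obtain ⟨w, hw⟩ := exists_ne (0 : U)
    have := congrArg (fun e : Module.End (ZMod p) U => e w) h1
    simp at this
    exact hw this.symm
  haveI : NoZeroDivisors D := by
    refine ⟨fun {x y} hxy => ?_⟩
    by_cases hx : x = 0
    · exact Or.inl hx
    · right
      have hx' : (x : Module.End (ZMod p) U) ≠ 0 := fun h => hx (Subtype.ext h)
      apply Subtype.ext
      ext w
      have h2 := congrArg (fun e : D => (e : Module.End (ZMod p) U) w) hxy
      simp only [Subring.coe_mul, Module.End.mul_apply, Subring.coe_zero,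
        LinearMap.zero_apply] at h2
      have := hinj x x.2 hx' (h2.trans (map_zero _).symm)
      simpa using this
  haveI : IsDomain D := NoZeroDivisors.to_isDomain D
  have hfield := Finite.isDomain_to_isField D
  have := hfield.mul_comm ⟨f, (hmem f).mpr hf⟩ ⟨f', (hmem f').mpr hf'⟩
  exact congrArg Subtype.val this

end commutant

end Cfsg.Agent.Lib.Helper12.FpfLin
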