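import Mathlib
import Cfsg.Agent.Lib.Helper54.Quaternion

/-!
# Minimal nonabelian normal subgroups with cyclic abelian subgroups

`quat_of_min`: in a finite group `H` whose commutative subgroups are all cyclic, a nonabelian
normal subgroup `N` with `⁅N, N⁆ ≠ N`, all of whose proper `H`-normal subgroups are central in
`N`, is a quaternion group of order `8`.
-/

set_option autoImplicit false

namespace Cfsg.Agent.Lib.Helper12.MinQuat

open Subgroup Cfsg.Agent.Lib.Helper54.UniqueSubgroup
open scoped commutatorElement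

universe u

/-- In a finite cyclic group, the elements with `g ^ q = 1` lie in `zpowers c` if `c` has
order `q`. -/
theorem cyc_mem {G : Type*} [Group G] [Finite G] [IsCyclic G] {q : ℕ} (hq : 0 < q) {c g : G}
    (hc : orderOf c = q) (hg : g ^ q = 1) : g ∈ zpowers c := by
  classical
  have := Fintype.ofFinite G
  have h1 := IsCyclic.card_pow_eq_one_le (α := G) hq
  have hsub : (zpowers c : Set G).toFinset ⊆ Finset.univ.filter (fun a : G => a ^ q = 1) := by
    intro x hx
    simp only [Set.mem_toFinset, SetLike.mem_coe] at hx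
    obtain ⟨k, rfl⟩ := mem_zpowers_iff.1 hx
    simp only [Finset.mem_filter, Finset.mem_univ, true_and]
    rw [← zpow_natCast, ← zpow_mul, mul_comm, zpow_mul, zpow_natCast, ← hc, pow_orderOf_eq_one,
      one_zpow]
  have hcard : ((zpowers c : Set G).toFinset).card = q := by
    rw [Set.toFinset_card, ← hc, ← Nat.card_zpowers, Nat.card_eq_fintype_card]
    rfl
  have heq := Finset.eq_of_subset_of_card_le hsub (by rw [hcard]; exact h1)
  have hmem : g ∈ Finset.univ.filter (fun a : G => a ^ q = 1) := by simp [hg]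
  rw [← heq] at hmem
  simpa using hmem

/-- Subgroup form of `cyc_mem`. -/
theorem cyc_mem_sub {H : Type*} [Group H] [Finite H] (B : Subgroup H) [IsCyclic B] {q : ℕ}
    (hq : 0 < q) {c g : H} (hcB : c ∈ B) (hgB : g ∈ B)
    (hc : orderOf c = q) (hg : g ^ q = 1) : g ∈ zpowers c := by
  have h := cyc_mem (G := B) hq (c := ⟨c, hcB⟩) (g := ⟨g, hgB⟩)
    (by rw [Subgroup.orderOf_mk]; exact hc) (Subtype.ext (by simpa using hg))
  obtain ⟨k, hk⟩ := mem_zpowers_iff.1 h
  exact mem_zpowers_iff.2 ⟨k, by simpa using congrArg Subtype.val hk⟩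

theorem quat_of_min {H : Type u} [Group H] [Finite H] (N : Subgroup H) [hN : N.Normal]
    (hab : ∀ B : Subgroup H, (∀ a ∈ B, ∀ b ∈ B, a * b = b * a) → IsCyclic B)
    (hcen : ∀ M : Subgroup H, M.Normal → M ≤ N → M ≠ N → ∀ m ∈ M, ∀ n ∈ N, m * n = n * m)
    (hna : ¬ ∀ a ∈ N, ∀ b ∈ N, a * b = b * a)
    (hder : ⁅N, N⁆ ≠ N) : Nonempty (N ≃* QuaternionGroup 2) := by
  classical
  -- commutators are central
  have hcomm : ∀ m ∈ ⁅N, N⁆, ∀ n ∈ N, m * n = n * m :=
    hcen ⁅N, N⁆ inferInstance (Subgroup.commutator_le_left N N) hder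
  have hker : (Abelianization.of (G := N)).ker ≤ center N := by
    rw [Abelianization.ker_of]
    intro x hx
    rw [Subgroup.mem_center_iff]
    intro y
    have hx' : (x : H) ∈ ⁅N, N⁆ := by
      have h1 : (x : H) ∈ (commutator N).map N.subtype := Subgroup.mem_map_of_mem N.subtype hx
      rw [_root_.commutator_def, Subgroup.map_commutator, ← MonoidHom.range_eq_map,
        Subgroup.range_subtype] at h1
      exact h1
    exact Subtype.ext (hcomm _ hx' _ y.2).symm
  haveI hnil : Group.IsNilpotent N := Subgroup.isNilpotent_of_ker_le_center _ hker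
  -- Sylow subgroups are everything or central
  have hsyl : ∀ (q : ℕ) [Fact q.Prime] (P : Sylow q N),
      (P : Subgroup N) = ⊤ ∨ ∀ x ∈ (P : Subgroup N), ∀ y : N, x * y = y * x := by
    intro q _ P
    haveI hPn : (P : Subgroup N).Normal := inferInstance
    haveI : (P : Subgroup N).Characteristic := Sylow.characteristic_of_normal P hPn
    have hMn : ((P : Subgroup N).map N.subtype).Normal :=
      ConjAct.normal_of_characteristic_of_normal
    have hMle : (P : Subgroup N).map N.subtype ≤ N := by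
      rintro _ ⟨x, -, rfl⟩; exact x.2
    by_cases hM : (P : Subgroup N).map N.subtype = N
    · left
      rw [eq_top_iff]
      intro x _
      have hx : (x : H) ∈ (P : Subgroup N).map N.subtype := by rw [hM]; exact x.2
      obtain ⟨y, hy, hyx⟩ := hx
      have hyx' : y = x := Subtype.ext hyx
      rwa [← hyx']
    · right
      intro x hx y
      exact Subtype.ext (hcen _ hMn hMle hM _ (Subgroup.mem_map_of_mem _ hx) _ y.2)
  have hexP : ∃ (q : ℕ) (_ : Fact q.Prime) (P : Sylow q N), (P : Subgroup N) = ⊤ := by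
    by_contra hno
    push Not at hno
    apply hna
    obtain ⟨e⟩ := ((Group.isNilpotent_of_finite_tfae (G := N)).out 0 4).mp hnil
    have hpi : ∀ f g : (∀ p : (Nat.card N).primeFactors, ∀ P : Sylow p N, (↑P : Subgroup N)),
        f * g = g * f := by
      intro f g
      funext p P
      haveI : Fact (Nat.Prime p) := ⟨Nat.prime_of_mem_primeFactors p.2⟩
      rcases hsyl p P with h | h
      · exact absurd h (hno p inferInstance P)
      · exact Subtype.ext (h _ (f p P).2 (g p P))
    intro a ha b hb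
    have h1 := hpi (e.symm ⟨a, ha⟩) (e.symm ⟨b, hb⟩)
    rw [← map_mul, ← map_mul] at h1
    have h2 := e.symm.injective h1
    exact congrArg Subtype.val h2
  obtain ⟨q, hq, P, hP⟩ := hexP
  have hpg : IsPGroup q N := by
    intro g
    obtain ⟨k, hk⟩ := P.isPGroup' (⟨g, by rw [hP]; trivial⟩ : (P : Subgroup N))
    exact ⟨k, by simpa using congrArg Subtype.val hk⟩
  haveI : Nontrivial N := by
    by_contra h
    rw [not_nontrivial_iff_subsingleton] at h
    apply hna; intro a ha b hb
    have h1 : (⟨a, ha⟩ : N) = ⟨b, hb⟩ := Subsingleton.elim _ _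
    have h2 := congrArg Subtype.val h1
    simp only at h2
    rw [h2]
  haveI := hpg.center_nontrivial
  obtain ⟨c, hc1⟩ := exists_ne (1 : center N)
  obtain ⟨m, hm1, hm2⟩ := exists_pow_prime hpg (u := (c : N))
    (fun h => hc1 (Subtype.ext h))
  have hzc : ∀ y : N, (c : N) ^ m * y = y * (c : N) ^ m := by
    intro y
    have h1 : (c : N) ^ m ∈ center N := pow_mem c.2 m
    exact (Subgroup.mem_center_iff.1 h1 y).symm
  obtain ⟨z, hz⟩ : ∃ z : N, z = (c : N) ^ m := ⟨_, rfl⟩
  rw [← hz] at hm1 hm2 hzc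
  have hzo : orderOf (z : H) = q :=
    orderOf_eq_prime (by simpa using congrArg Subtype.val hm2)
      (fun h0 => hm1 (Subtype.ext h0))
  have key : ∀ g : N, g ^ q = 1 → (g : H) ∈ zpowers (z : H) := by
    intro g hg
    have hk : ∀ x ∈ ({(z : H), (g : H)} : Set H), ∀ y ∈ ({(z : H), (g : H)} : Set H),
        x * y = y * x := by
      intro x hx y hy
      rcases hx with rfl | rfl <;> rcases hy with rfl | rfl
      · rfl
      · exact congrArg Subtype.val (hzc g)
      · exact (congrArg Subtype.val (hzc g)).symm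
      · rfl
    have hBc : ∀ a ∈ closure ({(z : H), (g : H)} : Set H),
        ∀ b ∈ closure ({(z : H), (g : H)} : Set H), a * b = b * a := by
      intro a ha b hb
      have hcl := Subgroup.isMulCommutative_closure hk
      exact congrArg Subtype.val (mul_comm' (⟨a, ha⟩ : closure ({(z : H), (g : H)} : Set H))
        ⟨b, hb⟩)
    haveI := hab _ hBc
    exact cyc_mem_sub (closure ({(z : H), (g : H)} : Set H)) hq.out.pos
      (subset_closure (by simp)) (subset_closure (by simp)) hzo
      (by simpa using congrArg Subtype.val hg)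
  have hUI : UI q N := by
    intro g h hg hh hg1
    have h1 := key g hg
    have h2 := key h hh
    have hgo : orderOf (g : H) = q :=
      orderOf_eq_prime (by simpa using congrArg Subtype.val hg)
        (fun h0 => hg1 (Subtype.ext h0))
    have hle : zpowers (g : H) ≤ zpowers (z : H) := zpowers_le.2 h1
    have heq : zpowers (g : H) = zpowers (z : H) := by
      apply Subgroup.eq_of_le_of_card_ge hle
      rw [Nat.card_zpowers, Nat.card_zpowers, hgo, hzo]
    rw [← heq] at h2
    obtain ⟨k, hk⟩ := mem_zpowers_iff.1 h2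
    exact mem_zpowers_iff.2 ⟨k, Subtype.ext (by simpa using hk)⟩
  have hcen2 : ∀ x y w : N, (x * y * x⁻¹ * y⁻¹) * w = w * (x * y * x⁻¹ * y⁻¹) := by
    intro x y w
    apply Subtype.ext
    have h1 : ((x * y * x⁻¹ * y⁻¹ : N) : H) ∈ ⁅N, N⁆ := by
      have h2 : ((x * y * x⁻¹ * y⁻¹ : N) : H) = ⁅(x : H), (y : H)⁆ := by
        simp [commutatorElement_def]
      rw [h2]; exact Subgroup.commutator_mem_commutator x.2 y.2
    exact hcomm _ h1 _ w.2
  rcases Cfsg.Agent.Lib.Helper54.Quaternion.isCyclic_or_quaternion_of_ui hpg hUI with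
    hcyc | ⟨-, n, ⟨e⟩⟩
  · exfalso; apply hna; intro a ha b hb
    let _ := IsCyclic.commGroup (α := N)
    exact congrArg Subtype.val (mul_comm (⟨a, ha⟩ : N) ⟨b, hb⟩)
  · have hq2 : ∀ x y w : QuaternionGroup (2 ^ n),
        (x * y * x⁻¹ * y⁻¹) * w = w * (x * y * x⁻¹ * y⁻¹) := by
      intro x y w
      have h1 := hcen2 (e.symm x) (e.symm y) (e.symm w)
      have h2 := congrArg e h1
      simpa using h2
    have h4 := hq2 (QuaternionGroup.a 1) (QuaternionGroup.xa 0) (QuaternionGroup.xa 0)
    have hinv1 : (QuaternionGroup.a 1 : QuaternionGroup (2 ^ n))⁻¹ = QuaternionGroup.a (-1) :=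
      rfl
    have hinv2 : (QuaternionGroup.xa 0 : QuaternionGroup (2 ^ n))⁻¹
        = QuaternionGroup.xa (((2 ^ n : ℕ) : ZMod (2 * 2 ^ n)) + 0) := rfl
    rw [hinv1, hinv2] at h4
    simp only [QuaternionGroup.a_mul_xa, QuaternionGroup.xa_mul_a, QuaternionGroup.xa_mul_xa,
      QuaternionGroup.xa.injEq] at h4
    have hNN : (2 : ZMod (2 * 2 ^ n)) * ((2 ^ n : ℕ) : ZMod (2 * 2 ^ n)) = 0 := by
      have h5 := ZMod.natCast_self (2 * 2 ^ n)
      push_cast at h5
      push_cast
      exact h5
    have h40 : ((4 : ℕ) : ZMod (2 * 2 ^ n)) = 0 := by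
      push_cast
      push_cast at h4 hNN
      linear_combination (-1 : ZMod (2 * 2 ^ n)) * h4 - 2 * hNN
    have hdvd := (ZMod.natCast_eq_zero_iff _ _).1 h40
    have hn1 : n ≤ 1 := by
      by_contra hn
      push Not at hn
      have h8 : 2 ^ 2 ≤ 2 ^ n := Nat.pow_le_pow_right (by norm_num) hn
      have := Nat.le_of_dvd (by norm_num) hdvd
      omega
    interval_cases n
    · exfalso; apply hna; intro a ha b hb
      haveI : IsCyclic (QuaternionGroup (2 ^ 0)) := QuaternionGroup.quaternionGroup_one_isCyclic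
      letI := IsCyclic.commGroup (α := QuaternionGroup (2 ^ 0))
      have h1 := mul_comm (e ⟨a, ha⟩) (e ⟨b, hb⟩)
      rw [← map_mul, ← map_mul] at h1
      exact congrArg Subtype.val (e.injective h1)
    · exact ⟨e⟩

/-- Commutativity of a subgroup in elementwise form. -/
theorem comm_iff {G : Type*} [Group G] (N : Subgroup G) :
    IsMulCommutative N ↔ ∀ a ∈ N, ∀ b ∈ N, a * b = b * a := by
  constructor
  · intro h a ha b hb
    exact congrArg Subtype.val (mul_comm' (⟨a, ha⟩ : N) ⟨b, hb⟩)
  · intro h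
    exact ⟨⟨fun a b => Subtype.ext (h a a.2 b b.2)⟩⟩

/-- A finite group has a maximal normal abelian subgroup. -/
theorem exists_max_abelian (H : Type*) [Group H] [Finite H] :
    ∃ A : Subgroup H, A.Normal ∧ IsMulCommutative A ∧
      ∀ B : Subgroup H, B.Normal → IsMulCommutative B → A ≤ B → B = A := by
  have hwf : WellFounded ((· > ·) : Subgroup H → Subgroup H → Prop) := wellFounded_gt
  obtain ⟨A, ⟨hA1, hA2⟩, hmax⟩ :=
    hwf.has_min {B : Subgroup H | B.Normal ∧ IsMulCommutative B}
      ⟨⊥, inferInstance, (comm_iff _).2 (fun a ha b hb => by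
        rw [Subgroup.mem_bot.1 ha, Subgroup.mem_bot.1 hb])⟩
  refine ⟨A, hA1, hA2, fun B hB1 hB2 hAB => ?_⟩
  by_contra hne
  exact hmax B ⟨hB1, hB2⟩ (lt_of_le_of_ne hAB (Ne.symm hne))

/-- Inside a nonabelian normal subgroup there is a minimal nonabelian normal subgroup. -/
theorem exists_min_nonabelian {H : Type*} [Group H] [Finite H] (C : Subgroup H)
    (hCn : C.Normal) (hC : ¬ IsMulCommutative C) :
    ∃ N : Subgroup H, N.Normal ∧ N ≤ C ∧ ¬ IsMulCommutative N ∧
      ∀ M : Subgroup H, M.Normal → M ≤ N → ¬ IsMulCommutative M → M = N := by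
  have hwf : WellFounded ((· < ·) : Subgroup H → Subgroup H → Prop) := wellFounded_lt
  obtain ⟨N, ⟨hN1, hN2, hN3⟩, hmin⟩ :=
    hwf.has_min {B : Subgroup H | B.Normal ∧ B ≤ C ∧ ¬ IsMulCommutative B} ⟨C, hCn, le_rfl, hC⟩
  refine ⟨N, hN1, hN2, hN3, fun M hM1 hM2 hM3 => ?_⟩
  by_contra hne
  exact hmin M ⟨hM1, hM2.trans hN2, hM3⟩ (lt_of_le_of_ne hM2 hne)

/-- For `A` maximal normal abelian and `N` minimal among the nonabelian normal subgroups
centralising `A`: every proper `H`-normal subgroup of `N` is central in `N`. -/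
theorem cen_of_min {H : Type*} [Group H] (A : Subgroup H) (hAn : A.Normal)
    (hAc : IsMulCommutative A)
    (hAmax : ∀ B : Subgroup H, B.Normal → IsMulCommutative B → A ≤ B → B = A)
    (N : Subgroup H) (hNle : N ≤ Subgroup.centralizer (A : Set H))
    (hNmin : ∀ M : Subgroup H, M.Normal → M ≤ N → ¬ IsMulCommutative M → M = N) :
    ∀ M : Subgroup H, M.Normal → M ≤ N → M ≠ N → ∀ m ∈ M, ∀ n ∈ N, m * n = n * m := by
  intro M hMn hMN hne
  have hMc : IsMulCommutative M := by
    by_contra h
    exact hne (hNmin M hMn hMN h)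
  have hAM : A ⊔ M = A := by
    haveI := hAn
    haveI := hMn
    apply hAmax _ inferInstance _ le_sup_left
    have hcl : A ⊔ M = closure ((A : Set H) ∪ (M : Set H)) := by
      rw [Subgroup.closure_union, Subgroup.closure_eq, Subgroup.closure_eq]
    rw [hcl]
    apply Subgroup.isMulCommutative_closure
    intro x hx y hy
    rcases hx with hx | hx <;> rcases hy with hy | hy
    · exact (comm_iff A).1 hAc x hx y hy
    · exact (Subgroup.mem_centralizer_iff.1 (hNle (hMN hy)) x hx)
    · exact (Subgroup.mem_centralizer_iff.1 (hNle (hMN hx)) y hy).symm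
    · exact (comm_iff M).1 hMc x hx y hy
  have hMA : M ≤ A := by rw [← hAM]; exact le_sup_right
  intro m hm n hn
  exact (Subgroup.mem_centralizer_iff.1 (hNle hn) m (hMA hm))

end Cfsg.Agent.Lib.Helper12.MinQuat
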