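import Mathlib

/-!
Fixed-point-free representations in a ring (helper12).

`ρ : Γ →* E` with `ρ g - 1` a unit for every `g ≠ 1`.  Basic consequences (unique involution,
minimal polynomials of elements of small order), the "pair lemma" (for two elements of order
three all traces `ρ w + ρ w⁻¹` are central in the algebra they generate) and its consequences
(centralizers of elements with `g ^ 2 ≠ 1` are commutative; a conjugate commuting with `g` is
`g` or `g⁻¹`).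
-/

set_option autoImplicit false

namespace Cfsg.Agent.Lib.Helper12.FpfRing

variable {Γ : Type*} [Group Γ] {E : Type*} [Ring E]

/-- Fixed-point-free in the ring sense. -/
def IsFpfR (ρ : Γ →* E) : Prop := ∀ g : Γ, g ≠ 1 → IsUnit (ρ g - 1)

/-- All traces `ρ w + ρ w⁻¹` commute with the image of `ρ`. -/
def TwoDim (ρ : Γ →* E) : Prop := ∀ w l : Γ, Commute (ρ w + ρ w⁻¹) (ρ l)

theorem rho_mul_inv (ρ : Γ →* E) (g : Γ) : ρ g * ρ g⁻¹ = 1 := by
  rw [← map_mul, mul_inv_cancel, map_one]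

theorem rho_inv_mul (ρ : Γ →* E) (g : Γ) : ρ g⁻¹ * ρ g = 1 := by
  rw [← map_mul, inv_mul_cancel, map_one]

theorem isUnit_rho (ρ : Γ →* E) (g : Γ) : IsUnit (ρ g) :=
  ⟨⟨ρ g, ρ g⁻¹, rho_mul_inv ρ g, rho_inv_mul ρ g⟩, rfl⟩

theorem inj [Nontrivial E] {ρ : Γ →* E} (hf : IsFpfR ρ) : Function.Injective ρ := by
  intro g h e
  by_contra hne
  have h1 : g * h⁻¹ ≠ 1 := fun h1 => hne (mul_inv_eq_one.mp h1)
  have := hf _ h1
  rw [map_mul, e, rho_mul_inv, sub_self] at this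
  exact not_isUnit_zero this

theorem fpf_comp {ρ : Γ →* E} (hf : IsFpfR ρ) (H : Subgroup Γ) : IsFpfR (ρ.comp H.subtype) := by
  intro g hg
  apply hf
  intro h
  exact hg (Subtype.ext h)

theorem commute_inv {ρ : Γ →* E} {c : E} {l : Γ} (h : Commute c (ρ l)) : Commute c (ρ l⁻¹) := by
  have h1 : ρ l⁻¹ * (c * ρ l) * ρ l⁻¹ = ρ l⁻¹ * (ρ l * c) * ρ l⁻¹ := by rw [h.eq]
  have h2 : ρ l⁻¹ * (c * ρ l) * ρ l⁻¹ = ρ l⁻¹ * c := by
    rw [mul_assoc, mul_assoc, rho_mul_inv, mul_one]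
  have h3 : ρ l⁻¹ * (ρ l * c) * ρ l⁻¹ = c * ρ l⁻¹ := by
    rw [← mul_assoc, rho_inv_mul, one_mul]
  exact (h3.symm.trans (h1.symm.trans h2))

/-- An involution acts as `-1`. -/
theorem neg_one_of_sq {ρ : Γ →* E} (hf : IsFpfR ρ) {g : Γ} (hg : g ≠ 1) (h2 : g ^ 2 = 1) :
    ρ g = -1 := by
  have h : (ρ g - 1) * (ρ g + 1) = 0 := by
    have h3 : ρ g * ρ g = 1 := by rw [← map_mul, ← sq, h2, map_one]
    calc (ρ g - 1) * (ρ g + 1) = ρ g * ρ g - 1 := by noncomm_ring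
      _ = 0 := by rw [h3, sub_self]
  have := (hf g hg).mul_right_eq_zero.mp h
  exact eq_neg_of_add_eq_zero_left this

theorem invol_unique [Nontrivial E] {ρ : Γ →* E} (hf : IsFpfR ρ) {g h : Γ} (hg : g ≠ 1)
    (h2 : g ^ 2 = 1) (hh : h ≠ 1) (hh2 : h ^ 2 = 1) : g = h :=
  inj hf ((neg_one_of_sq hf hg h2).trans (neg_one_of_sq hf hh hh2).symm)

theorem invol_central [Nontrivial E] {ρ : Γ →* E} (hf : IsFpfR ρ) {g : Γ} (hg : g ≠ 1)
    (h2 : g ^ 2 = 1) (k : Γ) : k * g = g * k := by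
  apply inj hf
  rw [map_mul, map_mul, neg_one_of_sq hf hg h2]
  noncomm_ring

theorem two_unit {ρ : Γ →* E} (hf : IsFpfR ρ) {g : Γ} (hg : g ≠ 1) (h2 : g ^ 2 = 1) :
    IsUnit (2 : E) := by
  have h := hf g hg
  rw [neg_one_of_sq hf hg h2] at h
  have h3 : (-1 - 1 : E) = -(2 : E) := by rw [← one_add_one_eq_two]; abel
  rw [h3] at h
  exact (IsUnit.neg_iff _).mp h

/-- An element of order three satisfies `X² + X + 1 = 0`. -/
theorem sq_of_cube {ρ : Γ →* E} (hf : IsFpfR ρ) {g : Γ} (hg : g ≠ 1) (h3 : g ^ 3 = 1) :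
    ρ g * ρ g = -ρ g - 1 := by
  have h : (ρ g - 1) * (ρ g * ρ g + ρ g + 1) = 0 := by
    have h4 : ρ g * ρ g * ρ g = 1 := by
      rw [← map_mul, ← map_mul, ← pow_two, ← pow_succ, h3, map_one]
    calc (ρ g - 1) * (ρ g * ρ g + ρ g + 1) = ρ g * ρ g * ρ g - 1 := by noncomm_ring
      _ = 0 := by rw [h4, sub_self]
  have := (hf g hg).mul_right_eq_zero.mp h
  have h5 : ρ g * ρ g = -ρ g - 1 + (ρ g * ρ g + ρ g + 1) := by noncomm_ring
  rw [h5, this, add_zero]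

theorem inv_of_cube {ρ : Γ →* E} (hf : IsFpfR ρ) {g : Γ} (hg : g ≠ 1) (h3 : g ^ 3 = 1) :
    ρ g⁻¹ = -ρ g - 1 := by
  have h : g⁻¹ = g * g := by
    rw [inv_eq_iff_mul_eq_one, ← pow_two, ← pow_succ']
    exact h3
  rw [h, map_mul, sq_of_cube hf hg h3]

/-- An element of order four squares to `-1`. -/
theorem sq_of_four {ρ : Γ →* E} (hf : IsFpfR ρ) {g : Γ} (hg : g ^ 2 ≠ 1) (h4 : g ^ 4 = 1) :
    ρ g * ρ g = -1 := by
  have h : (g ^ 2) ^ 2 = 1 := by rw [← pow_mul]; exact h4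
  have := neg_one_of_sq hf hg h
  rw [pow_two, map_mul] at this
  exact this

theorem inv_of_four {ρ : Γ →* E} (hf : IsFpfR ρ) {g : Γ} (hg : g ^ 2 ≠ 1) (h4 : g ^ 4 = 1) :
    ρ g⁻¹ = -ρ g := by
  have h1 := sq_of_four hf hg h4
  have h2 : ρ g⁻¹ = ρ g⁻¹ * (-(ρ g * ρ g)) := by rw [h1, neg_neg, mul_one]
  rw [h2, mul_neg, ← mul_assoc, rho_inv_mul, one_mul]

theorem three_unit {ρ : Γ →* E} (hf : IsFpfR ρ) {g : Γ} (hg : g ≠ 1) (h3 : g ^ 3 = 1) :
    IsUnit (3 : E) := by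
  have hg2 : g * g ≠ 1 := by
    intro h
    apply hg
    have : g ^ 3 = g := by rw [pow_succ, pow_two, h, one_mul]
    rw [← this, h3]
  have h1 := hf g hg
  have h2 := hf (g * g) hg2
  have h4 : (ρ g - 1) * (ρ (g * g) - 1) = 3 := by
    rw [map_mul, sq_of_cube hf hg h3]
    have : (ρ g - 1) * (-ρ g - 1 - 1) = -(ρ g * ρ g) - ρ g + (1 + 1) := by noncomm_ring
    rw [this, sq_of_cube hf hg h3]
    have h5 : (3 : E) = 1 + 1 + 1 := by norm_num
    rw [h5]
    abel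
  rw [← h4]
  exact h1.mul h2

/-- trace of an element of order three -/
theorem tau_three {ρ : Γ →* E} (hf : IsFpfR ρ) {w : Γ} (hw : w ≠ 1) (h3 : w ^ 3 = 1) :
    ρ w + ρ w⁻¹ = -1 := by
  rw [inv_of_cube hf hw h3]; abel

/-- trace of an element of order four -/
theorem tau_four {ρ : Γ →* E} (hf : IsFpfR ρ) {w : Γ} (hw : w ^ 2 ≠ 1) (h4 : w ^ 4 = 1) :
    ρ w + ρ w⁻¹ = 0 := by
  rw [inv_of_four hf hw h4]; abel

/-- trace of an element of order five -/
theorem tau_five {ρ : Γ →* E} (hf : IsFpfR ρ) {w : Γ} (hw : w ≠ 1) (h5 : w ^ 5 = 1) :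
    (ρ w + ρ w⁻¹) * (ρ w + ρ w⁻¹) + (ρ w + ρ w⁻¹) - 1 = 0 := by
  have hinv : w⁻¹ = w ^ 4 := by
    rw [inv_eq_iff_mul_eq_one, ← pow_succ']
    exact h5
  have h1 : ρ w ^ 5 = 1 := by rw [← map_pow, h5, map_one]
  have h2 : (ρ w - 1) * (ρ w ^ 4 + ρ w ^ 3 + ρ w ^ 2 + ρ w + 1) = 0 := by
    calc (ρ w - 1) * (ρ w ^ 4 + ρ w ^ 3 + ρ w ^ 2 + ρ w + 1) = ρ w ^ 5 - 1 := by noncomm_ring
      _ = 0 := by rw [h1, sub_self]
  have h3 := (hf w hw).mul_right_eq_zero.mp h2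
  rw [hinv, map_pow]
  have h4 : (ρ w + ρ w ^ 4) * (ρ w + ρ w ^ 4) + (ρ w + ρ w ^ 4) - 1
      = ρ w ^ 4 + ρ w ^ 3 + ρ w ^ 2 + ρ w + 1 + (ρ w ^ 5 - 1) * (ρ w ^ 3 + 2) := by
    noncomm_ring
  rw [h4, h3, h1, sub_self, zero_mul, add_zero]

/-- twisting by the involution negates `ρ` -/
theorem rho_twist {ρ : Γ →* E} (hf : IsFpfR ρ) {z : Γ} (hz : z ≠ 1) (hz2 : z ^ 2 = 1) (w : Γ) :
    ρ (w * z) = -ρ w ∧ ρ (w * z)⁻¹ = -ρ w⁻¹ := by
  have hzi : z⁻¹ = z := by
    rw [inv_eq_iff_mul_eq_one, ← pow_two]; exact hz2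
  constructor
  · rw [map_mul, neg_one_of_sq hf hz hz2]; noncomm_ring
  · rw [mul_inv_rev, hzi, map_mul, neg_one_of_sq hf hz hz2]; noncomm_ring

/-- trace of an element of order six -/
theorem tau_six {ρ : Γ →* E} (hf : IsFpfR ρ) {w : Γ} (hw : w ^ 2 ≠ 1) (h6 : w ^ 6 = 1)
    (h3 : w ^ 3 ≠ 1) : ρ w + ρ w⁻¹ = 1 := by
  have hz2 : (w ^ 3) ^ 2 = 1 := by rw [← pow_mul]; exact h6
  obtain ⟨e1, e2⟩ := rho_twist hf h3 hz2 w
  have hv3 : (w * w ^ 3) ^ 3 = 1 := by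
    rw [← pow_succ', ← pow_mul]
    have : (3 + 1) * 3 = 6 * 2 := by norm_num
    rw [this, pow_mul, h6, one_pow]
  have hv1 : w * w ^ 3 ≠ 1 := by
    intro h
    apply hw
    have h4 : w ^ 4 = 1 := by rw [← h, ← pow_succ']
    have : w ^ 2 = w ^ 6 * (w ^ 4)⁻¹ := by
      rw [eq_mul_inv_iff_mul_eq, ← pow_add]
    rw [this, h6, h4, inv_one, mul_one]
  have := tau_three hf hv1 hv3
  rw [e1, e2] at this
  have h9 : ρ w + ρ w⁻¹ = -(-ρ w + -ρ w⁻¹) := by abel
  rw [h9, this, neg_neg]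

/-- trace of an element of order ten -/
theorem tau_ten {ρ : Γ →* E} (hf : IsFpfR ρ) {w : Γ} (hw : w ^ 2 ≠ 1) (h10 : w ^ 10 = 1)
    (h5 : w ^ 5 ≠ 1) : (ρ w + ρ w⁻¹) * (ρ w + ρ w⁻¹) - (ρ w + ρ w⁻¹) - 1 = 0 := by
  have hz2 : (w ^ 5) ^ 2 = 1 := by rw [← pow_mul]; exact h10
  obtain ⟨e1, e2⟩ := rho_twist hf h5 hz2 w
  have hv3 : (w * w ^ 5) ^ 5 = 1 := by
    rw [← pow_succ', ← pow_mul]
    have : (5 + 1) * 5 = 10 * 3 := by norm_num
    rw [this, pow_mul, h10, one_pow]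
  have hv1 : w * w ^ 5 ≠ 1 := by
    intro h
    apply hw
    have h4 : w ^ 6 = 1 := by rw [← h, ← pow_succ']
    have : w ^ 2 = (w ^ 6) ^ 2 * (w ^ 10)⁻¹ := by
      rw [eq_mul_inv_iff_mul_eq, ← pow_add, ← pow_mul]
    rw [this, h10, h4, inv_one, mul_one, one_pow]
  have := tau_five hf hv1 hv3
  rw [e1, e2] at this
  rw [← this]
  noncomm_ring

/-- the possible traces of an element with `w⁴ = 1 ∨ w⁶ = 1 ∨ w¹⁰ = 1` -/
theorem tau_cases {ρ : Γ →* E} (hf : IsFpfR ρ) {w : Γ} (hw : w ^ 2 ≠ 1)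
    (ho : w ^ 4 = 1 ∨ w ^ 6 = 1 ∨ w ^ 10 = 1) :
    ρ w + ρ w⁻¹ = 0 ∨ ρ w + ρ w⁻¹ = -1 ∨ ρ w + ρ w⁻¹ = 1 ∨
    (ρ w + ρ w⁻¹) * (ρ w + ρ w⁻¹) + (ρ w + ρ w⁻¹) - 1 = 0 ∨
    (ρ w + ρ w⁻¹) * (ρ w + ρ w⁻¹) - (ρ w + ρ w⁻¹) - 1 = 0 := by
  have hw1 : w ≠ 1 := fun h => hw (by rw [h, one_pow])
  rcases ho with h | h | h
  · exact Or.inl (tau_four hf hw h)
  · by_cases h3 : w ^ 3 = 1
    · exact Or.inr (Or.inl (tau_three hf hw1 h3))
    · exact Or.inr (Or.inr (Or.inl (tau_six hf hw h h3)))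
  · by_cases h5 : w ^ 5 = 1
    · exact Or.inr (Or.inr (Or.inr (Or.inl (tau_five hf hw1 h5))))
    · exact Or.inr (Or.inr (Or.inr (Or.inr (tau_ten hf hw h h5))))

section Pair

set_option linter.unusedSimpArgs false

/-- `c` commutes with `A` and `B`. -/
def Cen (A B c : E) : Prop := Commute c A ∧ Commute c B

theorem Cen.add {A B c d : E} (hc : Cen A B c) (hd : Cen A B d) : Cen A B (c + d) :=
  ⟨hc.1.add_left hd.1, hc.2.add_left hd.2⟩

theorem Cen.sub {A B c d : E} (hc : Cen A B c) (hd : Cen A B d) : Cen A B (c - d) :=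
  ⟨hc.1.sub_left hd.1, hc.2.sub_left hd.2⟩

theorem Cen.neg {A B c : E} (hc : Cen A B c) : Cen A B (-c) :=
  ⟨hc.1.neg_left, hc.2.neg_left⟩

theorem Cen.mul {A B c d : E} (hc : Cen A B c) (hd : Cen A B d) : Cen A B (c * d) :=
  ⟨hc.1.mul_left hd.1, hc.2.mul_left hd.2⟩

theorem Cen.one (A B : E) : Cen A B 1 := ⟨Commute.one_left _, Commute.one_left _⟩

/-- the central element attached to two elements of order three -/
def theta (A B : E) : E := A * B + B * A + A + B + 1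

theorem theta_cen {A B : E} (hA : A * A = -A - 1) (hB : B * B = -B - 1) :
    Cen A B (theta A B) := by
  have hA' : ∀ X, A * (A * X) = -(A * X) - X := fun X => by rw [← mul_assoc, hA]; noncomm_ring
  have hB' : ∀ X, B * (B * X) = -(B * X) - X := fun X => by rw [← mul_assoc, hB]; noncomm_ring
  constructor
  · unfold theta Commute SemiconjBy
    simp only [mul_add, add_mul, mul_assoc, hA, hA', hB, hB', mul_one, one_mul, mul_neg, neg_mul,
      mul_sub, sub_mul]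
    abel
  · unfold theta Commute SemiconjBy
    simp only [mul_add, add_mul, mul_assoc, hA, hA', hB, hB', mul_one, one_mul, mul_neg, neg_mul,
      mul_sub, sub_mul]
    abel

/-- the invariant of the pair lemma -/
structure PairInv (A B W W' : E) : Prop where
  tW : Commute (theta A B) W
  tW' : Commute (theta A B) W'
  h0 : Cen A B (W + W')
  ha : Cen A B (W * A + (-A - 1) * W')
  hb : Cen A B (W * B + (-B - 1) * W')
  hab : Cen A B (W * A * B + (-B - 1) * (-A - 1) * W')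

theorem pairInv_one {A B : E} (hA : A * A = -A - 1) (hB : B * B = -B - 1) :
    PairInv A B 1 1 := by
  refine ⟨Commute.one_right _, Commute.one_right _, (Cen.one A B).add (Cen.one A B), ?_, ?_, ?_⟩
  · have : (1 : E) * A + (-A - 1) * 1 = -1 := by noncomm_ring
    rw [this]; exact (Cen.one A B).neg
  · have : (1 : E) * B + (-B - 1) * 1 = -1 := by noncomm_ring
    rw [this]; exact (Cen.one A B).neg
  · have : (1 : E) * A * B + (-B - 1) * (-A - 1) * 1 = theta A B := by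
      unfold theta; noncomm_ring
    rw [this]; exact theta_cen hA hB

theorem PairInv.step_a {A B W W' : E} (hA : A * A = -A - 1) (hB : B * B = -B - 1)
    (h : PairInv A B W W') : PairInv A B (W * A) ((-A - 1) * W') := by
  have hA' : ∀ X, A * (A * X) = -(A * X) - X := fun X => by rw [← mul_assoc, hA]; noncomm_ring
  have hB' : ∀ X, B * (B * X) = -(B * X) - X := fun X => by rw [← mul_assoc, hB]; noncomm_ring
  have hθ := theta_cen hA hB
  refine ⟨h.tW.mul_right hθ.1, ?_, h.ha, ?_, ?_, ?_⟩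
  · exact ((hθ.1.neg_right).sub_right (Commute.one_right _)).mul_right h.tW'
  · have e : W * A * A + (-A - 1) * ((-A - 1) * W')
        = -(W * A + (-A - 1) * W') - (W + W') := by
      simp only [mul_add, add_mul, mul_assoc, hA, hA', hB, hB', mul_one, one_mul, mul_neg, neg_mul,
        mul_sub, sub_mul, neg_neg]
      abel
    rw [e]; exact h.ha.neg.sub h.h0
  · have e : W * A * B + (-B - 1) * ((-A - 1) * W') = W * A * B + (-B - 1) * (-A - 1) * W' := by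
      rw [mul_assoc (-B - 1)]
    rw [e]; exact h.hab
  · have e : W * A * A * B + (-B - 1) * (-A - 1) * ((-A - 1) * W')
        = -(W * A * B + (-B - 1) * (-A - 1) * W') - (W * B + (-B - 1) * W') := by
      simp only [mul_add, add_mul, mul_assoc, hA, hA', hB, hB', mul_one, one_mul, mul_neg, neg_mul,
        mul_sub, sub_mul, neg_neg]
      abel
    rw [e]; exact h.hab.neg.sub h.hb

theorem PairInv.step_b {A B W W' : E} (hA : A * A = -A - 1) (hB : B * B = -B - 1)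
    (h : PairInv A B W W') : PairInv A B (W * B) ((-B - 1) * W') := by
  have hA' : ∀ X, A * (A * X) = -(A * X) - X := fun X => by rw [← mul_assoc, hA]; noncomm_ring
  have hB' : ∀ X, B * (B * X) = -(B * X) - X := fun X => by rw [← mul_assoc, hB]; noncomm_ring
  have hθ := theta_cen hA hB
  have hθ0 : Cen A B (theta A B * (W + W')) := hθ.mul h.h0
  have hθb : Cen A B (theta A B * (W * B + (-B - 1) * W')) := hθ.mul h.hb
  have e1 : theta A B * (W + W') = W * theta A B + theta A B * W' := by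
    rw [mul_add, h.tW.eq]
  have e2 : theta A B * (W * B + (-B - 1) * W')
      = W * theta A B * B + theta A B * ((-B - 1) * W') := by
    rw [mul_add, ← mul_assoc, h.tW.eq]
  refine ⟨h.tW.mul_right hθ.2, ?_, h.hb, ?_, ?_, ?_⟩
  · exact ((hθ.2.neg_right).sub_right (Commute.one_right _)).mul_right h.tW'
  · have e : W * B * A + (-A - 1) * ((-B - 1) * W')
        = theta A B * (W + W') - (W + W') - (W * B + (-B - 1) * W')
          - (W * A + (-A - 1) * W') - (W * A * B + (-B - 1) * (-A - 1) * W') := by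
      rw [e1]
      unfold theta
      simp only [mul_add, add_mul, mul_assoc, hA, hA', hB, hB', mul_one, one_mul, mul_neg, neg_mul,
        mul_sub, sub_mul, neg_neg]
      abel
    rw [e]; exact (((hθ0.sub h.h0).sub h.hb).sub h.ha).sub h.hab
  · have e : W * B * B + (-B - 1) * ((-B - 1) * W')
        = -(W * B + (-B - 1) * W') - (W + W') := by
      simp only [mul_add, add_mul, mul_assoc, hA, hA', hB, hB', mul_one, one_mul, mul_neg, neg_mul,
        mul_sub, sub_mul, neg_neg]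
      abel
    rw [e]; exact h.hb.neg.sub h.h0
  · have e : W * B * A * B + (-B - 1) * (-A - 1) * ((-B - 1) * W')
        = theta A B * (W * B + (-B - 1) * W') + (W + W') + (W * A + (-A - 1) * W') := by
      rw [e2]
      unfold theta
      simp only [mul_add, add_mul, mul_assoc, hA, hA', hB, hB', mul_one, one_mul, mul_neg, neg_mul,
        mul_sub, sub_mul, neg_neg]
      abel
    rw [e]; exact (hθb.add h.h0).add h.ha

/-- **Pair lemma**: in the group generated by two elements of order three, all traces commute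
with the two generators. -/
theorem pair_inv {ρ : Γ →* E} (hf : IsFpfR ρ) {a b : Γ} (ha1 : a ≠ 1) (ha : a ^ 3 = 1)
    (hb1 : b ≠ 1) (hb : b ^ 3 = 1) :
    ∀ w ∈ Subgroup.closure ({a, b} : Set Γ), PairInv (ρ a) (ρ b) (ρ w) (ρ w⁻¹) := by
  have hA := sq_of_cube hf ha1 ha
  have hB := sq_of_cube hf hb1 hb
  have stepa : ∀ x : Γ, PairInv (ρ a) (ρ b) (ρ x) (ρ x⁻¹) →
      PairInv (ρ a) (ρ b) (ρ (x * a)) (ρ (x * a)⁻¹) := by
    intro x ih
    rw [map_mul, mul_inv_rev, map_mul, inv_of_cube hf ha1 ha]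
    exact ih.step_a hA hB
  have stepb : ∀ x : Γ, PairInv (ρ a) (ρ b) (ρ x) (ρ x⁻¹) →
      PairInv (ρ a) (ρ b) (ρ (x * b)) (ρ (x * b)⁻¹) := by
    intro x ih
    rw [map_mul, mul_inv_rev, map_mul, inv_of_cube hf hb1 hb]
    exact ih.step_b hA hB
  have hai : a⁻¹ = a * a := by
    rw [inv_eq_iff_mul_eq_one, ← pow_two, ← pow_succ']; exact ha
  have hbi : b⁻¹ = b * b := by
    rw [inv_eq_iff_mul_eq_one, ← pow_two, ← pow_succ']; exact hb
  intro w hw
  induction hw using Subgroup.closure_induction_right with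
  | one =>
    rw [inv_one, map_one]
    exact pairInv_one hA hB
  | mul_right x hx y hy ih =>
    rcases hy with rfl | hy
    · exact stepa x ih
    · rw [Set.mem_singleton_iff] at hy
      subst hy
      exact stepb x ih
  | mul_inv_cancel x hx y hy ih =>
    rcases hy with rfl | hy
    · rw [hai, ← mul_assoc]
      exact stepa _ (stepa x ih)
    · rw [Set.mem_singleton_iff] at hy
      subst hy
      rw [hbi, ← mul_assoc]
      exact stepb _ (stepb x ih)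

/-- A trace commuting with the generators commutes with the whole closure. -/
theorem commute_closure {ρ : Γ →* E} {s : Set Γ} {c : E} (h : ∀ y ∈ s, Commute c (ρ y)) :
    ∀ l ∈ Subgroup.closure s, Commute c (ρ l) := by
  intro l hl
  induction hl using Subgroup.closure_induction with
  | mem x hx => exact h x hx
  | one => rw [map_one]; exact Commute.one_right _
  | mul x y _ _ ihx ihy => rw [map_mul]; exact ihx.mul_right ihy
  | inv x _ ih => exact commute_inv ih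

theorem twoDim_pair {ρ : Γ →* E} (hf : IsFpfR ρ) {a b : Γ} (ha1 : a ≠ 1) (ha : a ^ 3 = 1)
    (hb1 : b ≠ 1) (hb : b ^ 3 = 1) :
    TwoDim (ρ.comp (Subgroup.closure ({a, b} : Set Γ)).subtype) := by
  intro w l
  have h := (pair_inv hf ha1 ha hb1 hb w.1 w.2).h0
  have h2 : ∀ y ∈ ({a, b} : Set Γ), Commute (ρ w.1 + ρ w.1⁻¹) (ρ y) := by
    intro y hy
    rcases hy with rfl | hy
    · exact h.1
    · rw [Set.mem_singleton_iff] at hy
      subst hy
      exact h.2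
  exact commute_closure h2 l.1 l.2

end Pair

section TwoDimCons

/-- **P1**: if `g² ≠ 1`, any two elements commuting with `g` commute. -/
theorem comm_of_twoDim [Nontrivial E] {ρ : Γ →* E} (hf : IsFpfR ρ) (h2 : TwoDim ρ) {g h k : Γ}
    (hg : g ^ 2 ≠ 1) (hc : Commute h g) (hk : Commute k g) : Commute h k := by
  -- δ = G - G⁻¹ is a unit
  have hδ : IsUnit (ρ g - ρ g⁻¹) := by
    have e : ρ g - ρ g⁻¹ = ρ g⁻¹ * (ρ (g ^ 2) - 1) := by
      rw [pow_two, map_mul, mul_sub, ← mul_assoc, rho_inv_mul, one_mul, mul_one]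
    rw [e]
    exact (isUnit_rho ρ g⁻¹).mul (hf _ hg)
  have hcg : h⁻¹ * g⁻¹ = g⁻¹ * h⁻¹ := by
    rw [← mul_inv_rev, ← mul_inv_rev, hc.eq]
  have e1 : ρ h * (ρ g - ρ g⁻¹) = (ρ (h * g) + ρ (h * g)⁻¹) - (ρ h + ρ h⁻¹) * ρ g⁻¹ := by
    rw [mul_inv_rev, map_mul, map_mul, add_mul, ← map_mul ρ h⁻¹, hcg, map_mul]
    noncomm_ring
  have hkg : Commute (ρ k) (ρ g) := by
    unfold Commute SemiconjBy; rw [← map_mul, ← map_mul, hk.eq]
  have hkg' : Commute (ρ k) (ρ g⁻¹) := commute_inv hkg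
  have c1 : Commute (ρ k) (ρ h * (ρ g - ρ g⁻¹)) := by
    rw [e1]
    exact ((h2 (h * g) k).symm).sub_right (((h2 h k).symm).mul_right hkg')
  have c2 : Commute (ρ k) (ρ g - ρ g⁻¹) := hkg.sub_right hkg'
  have e2 : ρ k * ρ h * (ρ g - ρ g⁻¹) = ρ h * ρ k * (ρ g - ρ g⁻¹) := by
    rw [mul_assoc, c1.eq, mul_assoc, mul_assoc, c2.eq]
  have e3 := hδ.mul_left_inj.mp e2
  unfold Commute SemiconjBy
  apply inj hf
  rw [map_mul, map_mul, e3]

/-- **P2**: a conjugate of `g` commuting with `g` is `g` or `g⁻¹`. -/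
theorem conj_of_twoDim [Nontrivial E] {ρ : Γ →* E} (hf : IsFpfR ρ) (h2 : TwoDim ρ) {g n : Γ}
    (hc : Commute (n * g * n⁻¹) g) : n * g * n⁻¹ = g ∨ n * g * n⁻¹ = g⁻¹ := by
  by_cases h1 : n * g * n⁻¹ * g = 1
  · right
    exact eq_inv_of_mul_eq_one_left h1
  · left
    have hu := hf _ h1
    have hτ : ρ (n * g * n⁻¹) + ρ (n * g * n⁻¹)⁻¹ = ρ g + ρ g⁻¹ := by
      have e : (n * g * n⁻¹)⁻¹ = n * g⁻¹ * n⁻¹ := by group
      rw [e, map_mul, map_mul, map_mul, map_mul]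
      have e' : ρ n * ρ g * ρ n⁻¹ + ρ n * ρ g⁻¹ * ρ n⁻¹ = ρ n * (ρ g + ρ g⁻¹) * ρ n⁻¹ := by
        noncomm_ring
      rw [e', ← (h2 g n).eq, mul_assoc, rho_mul_inv, mul_one]
    set G₁ := ρ (n * g * n⁻¹) with hG₁
    have hcomm : G₁ * ρ g = ρ g * G₁ := by
      rw [hG₁, ← map_mul, ← map_mul, hc.eq]
    have key : (G₁ - ρ g) * (ρ (n * g * n⁻¹ * g) - 1) = 0 := by
      rw [map_mul, ← hG₁]
      have e1 : (G₁ - ρ g) * (G₁ * ρ g - 1)
          = G₁ * (G₁ * ρ g) - G₁ - ρ g * (G₁ * ρ g) + ρ g := by noncomm_ring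
      have e2 : (G₁ + ρ (n * g * n⁻¹)⁻¹ - (ρ g + ρ g⁻¹)) * (G₁ * ρ g)
          = G₁ * (G₁ * ρ g) + ρ (n * g * n⁻¹)⁻¹ * G₁ * ρ g - ρ g * (G₁ * ρ g)
            - ρ g⁻¹ * (ρ g * G₁) := by
        rw [← hcomm]; noncomm_ring
      rw [hG₁, rho_inv_mul, ← hG₁, one_mul, ← mul_assoc (ρ g⁻¹), rho_inv_mul, one_mul] at e2
      rw [e1]
      have e3 : G₁ * (G₁ * ρ g) - G₁ - ρ g * (G₁ * ρ g) + ρ g
          = G₁ * (G₁ * ρ g) + ρ g - ρ g * (G₁ * ρ g) - G₁ := by abel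
      rw [e3, ← e2, hτ, sub_self, zero_mul]
    have := hu.mul_left_eq_zero.mp key
    exact inj hf (sub_eq_zero.mp this)

end TwoDimCons

end Cfsg.Agent.Lib.Helper12.FpfRing
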