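import Mathlib
import Cfsg.Agent.Lib.Helper12.FpfRing

/-!
Quaternion frames in a ring (helper12).

`S, T` with `S² = T² = -1`, `TS = -ST`; the combinations `c₀ + c₁ S + c₂ T + c₃ ST` with
coefficients commuting with `S` and `T` multiply like quaternions, coordinates are unique when
`2` is a unit, and every element has such an expansion.  An element `X` with `X² + X + 1 = 0`
permuting `S, T, ST` cyclically is `-(1 + S + T + ST)/2`; a second frame with the same `X` has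
coordinates `(b₁, b₂, b₃)` with `∑ b = 1`, `∑ b² = 1`.
-/

set_option autoImplicit false
set_option linter.unusedSimpArgs false

namespace Cfsg.Agent.Lib.Helper12.Frame

open Cfsg.Agent.Lib.Helper12.FpfRing

variable {E : Type*} [Ring E]

/-- A quaternion frame in a ring. -/
structure RF (S T : E) : Prop where
  hS : S * S = -1
  hT : T * T = -1
  hTS : T * S = -(S * T)

/-- The quaternion combination. -/
def qd (S T c₀ c₁ c₂ c₃ : E) : E := c₀ + c₁ * S + c₂ * T + c₃ * (S * T)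

theorem _root_.Cfsg.Agent.Lib.Helper12.FpfRing.Cen.zero (S T : E) : Cen S T 0 := ⟨Commute.zero_left _, Commute.zero_left _⟩

theorem RF.SS {S T : E} (F : RF S T) (X : E) : S * (S * X) = -X := by
  rw [← mul_assoc, F.hS, neg_mul, one_mul]

theorem RF.TT {S T : E} (F : RF S T) (X : E) : T * (T * X) = -X := by
  rw [← mul_assoc, F.hT, neg_mul, one_mul]

theorem RF.TS {S T : E} (F : RF S T) (X : E) : T * (S * X) = -(S * (T * X)) := by
  rw [← mul_assoc, F.hTS, neg_mul, mul_assoc]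

theorem _root_.Cfsg.Agent.Lib.Helper12.FpfRing.Cen.sl {S T d : E} (h : Cen S T d) : S * d = d * S := h.1.eq.symm

theorem _root_.Cfsg.Agent.Lib.Helper12.FpfRing.Cen.tl {S T d : E} (h : Cen S T d) : T * d = d * T := h.2.eq.symm

theorem _root_.Cfsg.Agent.Lib.Helper12.FpfRing.Cen.sl' {S T d : E} (h : Cen S T d) (X : E) : S * (d * X) = d * (S * X) := by
  rw [← mul_assoc, h.sl, mul_assoc]

theorem _root_.Cfsg.Agent.Lib.Helper12.FpfRing.Cen.tl' {S T d : E} (h : Cen S T d) (X : E) : T * (d * X) = d * (T * X) := by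
  rw [← mul_assoc, h.tl, mul_assoc]

/-- Quaternion multiplication. -/
theorem qd_mul {S T : E} (F : RF S T) (c₀ c₁ c₂ c₃ : E) {d₀ d₁ d₂ d₃ : E} (h₀ : Cen S T d₀)
    (h₁ : Cen S T d₁) (h₂ : Cen S T d₂) (h₃ : Cen S T d₃) :
    qd S T c₀ c₁ c₂ c₃ * qd S T d₀ d₁ d₂ d₃ =
      qd S T (c₀ * d₀ - c₁ * d₁ - c₂ * d₂ - c₃ * d₃) (c₀ * d₁ + c₁ * d₀ + c₂ * d₃ - c₃ * d₂)
        (c₀ * d₂ - c₁ * d₃ + c₂ * d₀ + c₃ * d₁) (c₀ * d₃ + c₁ * d₂ - c₂ * d₁ + c₃ * d₀) := by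
  unfold qd
  simp only [mul_add, add_mul, mul_sub, sub_mul, mul_neg, neg_mul, mul_assoc, F.hS, F.hT, F.hTS,
    F.SS, F.TT, F.TS, h₀.sl, h₁.sl, h₂.sl, h₃.sl, h₀.tl, h₁.tl, h₂.tl, h₃.tl, h₀.sl', h₁.sl',
    h₂.sl', h₃.sl', h₀.tl', h₁.tl', h₂.tl', h₃.tl', mul_one, one_mul, neg_neg]
  abel

theorem qd_sub (S T c₀ c₁ c₂ c₃ d₀ d₁ d₂ d₃ : E) :
    qd S T c₀ c₁ c₂ c₃ - qd S T d₀ d₁ d₂ d₃ = qd S T (c₀ - d₀) (c₁ - d₁) (c₂ - d₂) (c₃ - d₃) := by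
  unfold qd
  simp only [sub_mul]
  abel

theorem qd_add (S T c₀ c₁ c₂ c₃ d₀ d₁ d₂ d₃ : E) :
    qd S T c₀ c₁ c₂ c₃ + qd S T d₀ d₁ d₂ d₃ = qd S T (c₀ + d₀) (c₁ + d₁) (c₂ + d₂) (c₃ + d₃) := by
  unfold qd
  simp only [add_mul]
  abel

theorem qd_neg (S T c₀ c₁ c₂ c₃ : E) :
    -qd S T c₀ c₁ c₂ c₃ = qd S T (-c₀) (-c₁) (-c₂) (-c₃) := by
  unfold qd
  simp only [neg_mul]
  abel

theorem qd_S (S T : E) : S = qd S T 0 1 0 0 := by
  unfold qd; simp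

theorem qd_T (S T : E) : T = qd S T 0 0 1 0 := by
  unfold qd; simp

theorem qd_ST (S T : E) : S * T = qd S T 0 0 0 1 := by
  unfold qd; simp

theorem qd_scalar (S T c : E) : c = qd S T c 0 0 0 := by
  unfold qd; simp

theorem four_cancel (h2 : IsUnit (2 : E)) {c : E} (h : c + c + c + c = 0) : c = 0 := by
  have e : c + c + c + c = 2 * (2 * c) := by
    rw [two_mul, two_mul]; abel
  rw [e] at h
  exact h2.mul_right_eq_zero.mp (h2.mul_right_eq_zero.mp h)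

/-- Uniqueness of coordinates. -/
theorem coords {S T : E} (F : RF S T) (h2 : IsUnit (2 : E)) {c₀ c₁ c₂ c₃ : E}
    (h₀ : Cen S T c₀) (h₁ : Cen S T c₁) (h₂ : Cen S T c₂) (h₃ : Cen S T c₃)
    (he : qd S T c₀ c₁ c₂ c₃ = 0) : c₀ = 0 ∧ c₁ = 0 ∧ c₂ = 0 ∧ c₃ = 0 := by
  have k₀ : qd S T c₀ c₁ c₂ c₃ - S * qd S T c₀ c₁ c₂ c₃ * S - T * qd S T c₀ c₁ c₂ c₃ * T
      - S * T * qd S T c₀ c₁ c₂ c₃ * (S * T) = c₀ + c₀ + c₀ + c₀ := by
    unfold qd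
    simp only [mul_add, add_mul, mul_sub, sub_mul, mul_neg, neg_mul, mul_assoc, F.hS, F.hT, F.hTS,
      F.SS, F.TT, F.TS, h₀.sl, h₁.sl, h₂.sl, h₃.sl, h₀.tl, h₁.tl, h₂.tl, h₃.tl, h₀.sl', h₁.sl',
      h₂.sl', h₃.sl', h₀.tl', h₁.tl', h₂.tl', h₃.tl', mul_one, one_mul, neg_neg]
    abel
  have k₁ : qd S T c₀ c₁ c₂ c₃ * S - S * (qd S T c₀ c₁ c₂ c₃ * S) * S
      - T * (qd S T c₀ c₁ c₂ c₃ * S) * T
      - S * T * (qd S T c₀ c₁ c₂ c₃ * S) * (S * T) = -(c₁ + c₁ + c₁ + c₁) := by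
    unfold qd
    simp only [mul_add, add_mul, mul_sub, sub_mul, mul_neg, neg_mul, mul_assoc, F.hS, F.hT, F.hTS,
      F.SS, F.TT, F.TS, h₀.sl, h₁.sl, h₂.sl, h₃.sl, h₀.tl, h₁.tl, h₂.tl, h₃.tl, h₀.sl', h₁.sl',
      h₂.sl', h₃.sl', h₀.tl', h₁.tl', h₂.tl', h₃.tl', mul_one, one_mul, neg_neg]
    abel
  have k₂ : qd S T c₀ c₁ c₂ c₃ * T - S * (qd S T c₀ c₁ c₂ c₃ * T) * S
      - T * (qd S T c₀ c₁ c₂ c₃ * T) * T
      - S * T * (qd S T c₀ c₁ c₂ c₃ * T) * (S * T) = -(c₂ + c₂ + c₂ + c₂) := by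
    unfold qd
    simp only [mul_add, add_mul, mul_sub, sub_mul, mul_neg, neg_mul, mul_assoc, F.hS, F.hT, F.hTS,
      F.SS, F.TT, F.TS, h₀.sl, h₁.sl, h₂.sl, h₃.sl, h₀.tl, h₁.tl, h₂.tl, h₃.tl, h₀.sl', h₁.sl',
      h₂.sl', h₃.sl', h₀.tl', h₁.tl', h₂.tl', h₃.tl', mul_one, one_mul, neg_neg]
    abel
  have k₃ : qd S T c₀ c₁ c₂ c₃ * (S * T) - S * (qd S T c₀ c₁ c₂ c₃ * (S * T)) * S
      - T * (qd S T c₀ c₁ c₂ c₃ * (S * T)) * T
      - S * T * (qd S T c₀ c₁ c₂ c₃ * (S * T)) * (S * T) = -(c₃ + c₃ + c₃ + c₃) := by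
    unfold qd
    simp only [mul_add, add_mul, mul_sub, sub_mul, mul_neg, neg_mul, mul_assoc, F.hS, F.hT, F.hTS,
      F.SS, F.TT, F.TS, h₀.sl, h₁.sl, h₂.sl, h₃.sl, h₀.tl, h₁.tl, h₂.tl, h₃.tl, h₀.sl', h₁.sl',
      h₂.sl', h₃.sl', h₀.tl', h₁.tl', h₂.tl', h₃.tl', mul_one, one_mul, neg_neg]
    abel
  rw [he] at k₀ k₁ k₂ k₃
  simp only [mul_zero, zero_mul, sub_zero] at k₀ k₁ k₂ k₃
  refine ⟨four_cancel h2 k₀.symm, four_cancel h2 ?_, four_cancel h2 ?_, four_cancel h2 ?_⟩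
  · exact neg_eq_zero.mp k₁.symm
  · exact neg_eq_zero.mp k₂.symm
  · exact neg_eq_zero.mp k₃.symm

theorem qd_inj {S T : E} (F : RF S T) (h2 : IsUnit (2 : E)) {c₀ c₁ c₂ c₃ d₀ d₁ d₂ d₃ : E}
    (h₀ : Cen S T c₀) (h₁ : Cen S T c₁) (h₂ : Cen S T c₂) (h₃ : Cen S T c₃)
    (g₀ : Cen S T d₀) (g₁ : Cen S T d₁) (g₂ : Cen S T d₂) (g₃ : Cen S T d₃)
    (he : qd S T c₀ c₁ c₂ c₃ = qd S T d₀ d₁ d₂ d₃) : c₀ = d₀ ∧ c₁ = d₁ ∧ c₂ = d₂ ∧ c₃ = d₃ := by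
  have h := sub_eq_zero.mpr he
  rw [qd_sub] at h
  obtain ⟨e₀, e₁, e₂, e₃⟩ := coords F h2 (h₀.sub g₀) (h₁.sub g₁) (h₂.sub g₂) (h₃.sub g₃) h
  exact ⟨sub_eq_zero.mp e₀, sub_eq_zero.mp e₁, sub_eq_zero.mp e₂, sub_eq_zero.mp e₃⟩

/-- A central inverse of two. -/
theorem exists_half (h2 : IsUnit (2 : E)) : ∃ h : E, h + h = 1 ∧ ∀ a : E, h * a = a * h := by
  obtain ⟨u, hu⟩ := h2
  refine ⟨((u⁻¹ : Eˣ) : E), ?_, ?_⟩
  · rw [← two_mul, ← hu, Units.mul_inv]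
  · intro a
    have c : Commute (u : E) a := by
      rw [hu]; exact Commute.ofNat_left 2 a
    exact c.units_inv_left.eq

/-- the average over the frame -/
def c4 (S T f : E) : E := f - S * f * S - T * f * T - S * T * f * (S * T)

theorem c4_cen {S T : E} (F : RF S T) (f : E) : Cen S T (c4 S T f) := by
  constructor
  · unfold c4 Commute SemiconjBy
    simp only [mul_add, add_mul, mul_sub, sub_mul, mul_neg, neg_mul, mul_assoc, F.hS, F.hT, F.hTS,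
      F.SS, F.TT, F.TS, mul_one, one_mul, neg_neg]
    abel
  · unfold c4 Commute SemiconjBy
    simp only [mul_add, add_mul, mul_sub, sub_mul, mul_neg, neg_mul, mul_assoc, F.hS, F.hT, F.hTS,
      F.SS, F.TT, F.TS, mul_one, one_mul, neg_neg]
    abel

theorem c4_expand {S T : E} (F : RF S T) (e : E) :
    c4 S T e - c4 S T (e * S) * S - c4 S T (e * T) * T - c4 S T (e * (S * T)) * (S * T)
      = e + e + e + e := by
  unfold c4
  simp only [mul_add, add_mul, mul_sub, sub_mul, mul_neg, neg_mul, mul_assoc, F.hS, F.hT, F.hTS,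
    F.SS, F.TT, F.TS, mul_one, one_mul, neg_neg]
  abel

/-- Existence of coordinates. -/
theorem expand {S T : E} (F : RF S T) (h2 : IsUnit (2 : E)) (e : E) :
    ∃ c₀ c₁ c₂ c₃ : E, Cen S T c₀ ∧ Cen S T c₁ ∧ Cen S T c₂ ∧ Cen S T c₃ ∧
      e = qd S T c₀ c₁ c₂ c₃ := by
  obtain ⟨h, hh, hc⟩ := exists_half h2
  have hcen : Cen S T h := ⟨hc S, hc T⟩
  have hq : ∀ f : E, h * h * (f + f + f + f) = f := by
    intro f
    have e1 : f + f + f + f = (h + h) * ((h + h) * (f + f + f + f)) := by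
      rw [hh, one_mul, one_mul]
    have e2 : (h + h) * ((h + h) * (f + f + f + f)) = (h * h * (f + f + f + f)) +
        (h * h * (f + f + f + f)) + (h * h * (f + f + f + f)) + (h * h * (f + f + f + f)) := by
      noncomm_ring
    have e3 : h * h * (f + f + f + f) = h * h * f + h * h * f + h * h * f + h * h * f := by
      noncomm_ring
    have e4 : (h + h) * ((h + h) * f) = h * h * f + h * h * f + h * h * f + h * h * f := by
      noncomm_ring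
    rw [e3, ← e4, hh, one_mul, one_mul]
  refine ⟨h * h * c4 S T e, -(h * h * c4 S T (e * S)), -(h * h * c4 S T (e * T)),
    -(h * h * c4 S T (e * (S * T))), (hcen.mul hcen).mul (c4_cen F _),
    ((hcen.mul hcen).mul (c4_cen F _)).neg, ((hcen.mul hcen).mul (c4_cen F _)).neg,
    ((hcen.mul hcen).mul (c4_cen F _)).neg, ?_⟩
  have key := c4_expand F e
  unfold qd
  have e5 : h * h * c4 S T e + -(h * h * c4 S T (e * S)) * S + -(h * h * c4 S T (e * T)) * T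
      + -(h * h * c4 S T (e * (S * T))) * (S * T)
      = h * h * (c4 S T e - c4 S T (e * S) * S - c4 S T (e * T) * T
        - c4 S T (e * (S * T)) * (S * T)) := by
    noncomm_ring
  rw [e5, key, hq]

/-- **F1**: an element of order three permuting the frame cyclically. -/
theorem frame_x {S T X : E} (F : RF S T) (h2 : IsUnit (2 : E)) (hX : X * X = -X - 1)
    (h1 : X * S = T * X) (h1' : X * T = S * T * X) : X + X = -(1 + S + T + S * T) := by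
  obtain ⟨a₀, a₁, a₂, a₃, g₀, g₁, g₂, g₃, hXq⟩ := expand F h2 X
  have z := Cen.zero S T
  have o := Cen.one S T
  have e1 : X * S = qd S T (-a₁) a₀ a₃ (-a₂) := by
    have h : X * S = qd S T a₀ a₁ a₂ a₃ * qd S T 0 1 0 0 := by rw [← qd_S, ← hXq]
    rw [h, qd_mul F _ _ _ _ z o z z]
    simp
  have e2 : T * X = qd S T (-a₂) a₃ a₀ (-a₁) := by
    have h : T * X = qd S T 0 0 1 0 * qd S T a₀ a₁ a₂ a₃ := by rw [← qd_T, ← hXq]
    rw [h, qd_mul F _ _ _ _ g₀ g₁ g₂ g₃]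
    simp
  have e3 : X * T = qd S T (-a₂) (-a₃) a₀ a₁ := by
    have h : X * T = qd S T a₀ a₁ a₂ a₃ * qd S T 0 0 1 0 := by rw [← qd_T, ← hXq]
    rw [h, qd_mul F _ _ _ _ z z o z]
    simp
  have e4 : S * T * X = qd S T (-a₃) (-a₂) a₁ a₀ := by
    have h : S * T * X = qd S T 0 0 0 1 * qd S T a₀ a₁ a₂ a₃ := by rw [← qd_ST, ← hXq]
    rw [h, qd_mul F _ _ _ _ g₀ g₁ g₂ g₃]
    simp
  rw [e1, e2] at h1
  rw [e3, e4] at h1'
  obtain ⟨p₁, p₂, -, -⟩ := qd_inj F h2 g₁.neg g₀ g₃ g₂.neg g₂.neg g₃ g₀ g₁.neg h1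
  obtain ⟨q₁, -, q₃, -⟩ := qd_inj F h2 g₂.neg g₃.neg g₀ g₁ g₃.neg g₂.neg g₁ g₀ h1'
  have ea₁ : a₁ = a₀ := q₃.symm
  have ea₃ : a₃ = a₀ := p₂.symm
  have ea₂ : a₂ = a₀ := by rw [← ea₁]; exact (neg_inj.mp p₁).symm
  rw [ea₁, ea₂, ea₃] at hXq
  have e5 : X * X = qd S T (a₀ * a₀ - a₀ * a₀ - a₀ * a₀ - a₀ * a₀)
      (a₀ * a₀ + a₀ * a₀ + a₀ * a₀ - a₀ * a₀) (a₀ * a₀ - a₀ * a₀ + a₀ * a₀ + a₀ * a₀)
      (a₀ * a₀ + a₀ * a₀ - a₀ * a₀ + a₀ * a₀) := by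
    rw [hXq]; exact qd_mul F _ _ _ _ g₀ g₀ g₀ g₀
  have e6 : -X - 1 = qd S T (-a₀ - 1) (-a₀) (-a₀) (-a₀) := by
    rw [hXq]; unfold qd
    simp only [neg_mul]
    abel
  rw [e5, e6] at hX
  obtain ⟨r₁, r₂, -, -⟩ := qd_inj F h2 (((g₀.mul g₀).sub (g₀.mul g₀)).sub (g₀.mul g₀) |>.sub (g₀.mul g₀))
    (((g₀.mul g₀).add (g₀.mul g₀)).add (g₀.mul g₀) |>.sub (g₀.mul g₀))
    (((g₀.mul g₀).sub (g₀.mul g₀)).add (g₀.mul g₀) |>.add (g₀.mul g₀))
    (((g₀.mul g₀).add (g₀.mul g₀)).sub (g₀.mul g₀) |>.add (g₀.mul g₀))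
    (g₀.neg.sub o) g₀.neg g₀.neg g₀.neg hX
  have hsum : (-a₀ - 1) + (-a₀) = 0 := by
    rw [← r₁, ← r₂]; abel
  have haa : a₀ + a₀ = -1 := by
    have : a₀ + a₀ = -((-a₀ - 1) + -a₀) - 1 := by abel
    rw [this, hsum]; simp
  rw [hXq, qd_add, haa]
  unfold qd
  simp only [neg_mul, one_mul]
  abel

theorem frame_x_qd {S T X h : E} (hh : h + h = 1) (hX2 : X + X = -(1 + S + T + S * T)) :
    X = qd S T (-h) (-h) (-h) (-h) := by
  have : X = h * (X + X) := by rw [mul_add, ← add_mul, hh, one_mul]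
  rw [this, hX2]
  unfold qd
  noncomm_ring

theorem commute_qd {S T c d₀ d₁ d₂ d₃ : E} (hc : Cen S T c) (k₀ : Commute c d₀)
    (k₁ : Commute c d₁) (k₂ : Commute c d₂) (k₃ : Commute c d₃) :
    Commute c (qd S T d₀ d₁ d₂ d₃) := by
  unfold qd
  exact ((k₀.add_right (k₁.mul_right hc.1)).add_right (k₂.mul_right hc.2)).add_right
    (k₃.mul_right (hc.1.mul_right hc.2))

theorem frame_xu {S T X : E} (F : RF S T) (h1 : X * S = T * X) (h1' : X * T = S * T * X) :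
    X * (S * T) = S * X := by
  calc X * (S * T) = X * S * T := (mul_assoc _ _ _).symm
    _ = T * X * T := by rw [h1]
    _ = T * (S * T * X) := by rw [mul_assoc, h1']
    _ = S * X := by
      rw [← mul_assoc, ← mul_assoc, F.hTS, neg_mul, mul_assoc S T T, F.hT, mul_neg, mul_one,
        neg_neg]

/-- conjugation by `X` permutes the coordinates cyclically -/
theorem conj_qd {S T X h : E} (F : RF S T) (hc : ∀ a : E, h * a = a * h)
    (hXq : X = qd S T (-h) (-h) (-h) (-h)) (h1 : X * S = T * X) (h1' : X * T = S * T * X)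
    {c₀ c₁ c₂ c₃ : E} (k₀ : Cen S T c₀) (k₁ : Cen S T c₁) (k₂ : Cen S T c₂) (k₃ : Cen S T c₃) :
    X * qd S T c₀ c₁ c₂ c₃ = qd S T c₀ c₃ c₁ c₂ * X := by
  have xc : ∀ c, Cen S T c → c * X = X * c := by
    intro c hcen
    have c0 : Commute c (-h) := (show Commute h c from hc c).symm.neg_right
    have := commute_qd hcen c0 c0 c0 c0
    rw [← hXq] at this
    exact this.eq
  have xu := frame_xu F h1 h1'
  have t0 : X * c₀ = c₀ * X := (xc c₀ k₀).symm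
  have t1 : X * (c₁ * S) = c₁ * T * X := by
    rw [← mul_assoc, ← xc c₁ k₁, mul_assoc, h1, mul_assoc]
  have t2 : X * (c₂ * T) = c₂ * (S * T) * X := by
    rw [← mul_assoc, ← xc c₂ k₂, mul_assoc, h1', mul_assoc c₂ (S * T) X]
  have t3 : X * (c₃ * (S * T)) = c₃ * S * X := by
    rw [← mul_assoc, ← xc c₃ k₃, mul_assoc, xu, mul_assoc]
  unfold qd
  rw [mul_add, mul_add, mul_add, t0, t1, t2, t3, add_mul, add_mul, add_mul]
  abel

/-- **F2**: a second frame with the same `X`. -/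
theorem frame_two {S T S' T' X : E} (F : RF S T) (F' : RF S' T') (h2 : IsUnit (2 : E))
    (h3 : IsUnit (3 : E)) (hX : X * X = -X - 1) (h1 : X * S = T * X) (h1' : X * T = S * T * X)
    (k1 : X * S' = T' * X) (k1' : X * T' = S' * T' * X) :
    ∃ b₁ b₂ b₃ : E, Cen S T b₁ ∧ Cen S T b₂ ∧ Cen S T b₃ ∧ b₁ * b₂ = b₂ * b₁ ∧
      b₂ * b₃ = b₃ * b₂ ∧ b₃ * b₁ = b₁ * b₃ ∧ b₁ + b₂ + b₃ = 1 ∧
      b₁ * b₁ + b₂ * b₂ + b₃ * b₃ = 1 ∧ S' = qd S T 0 b₁ b₂ b₃ ∧ T' = qd S T 0 b₃ b₁ b₂ ∧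
      S' * T' = qd S T 0 b₂ b₃ b₁ := by
  obtain ⟨h, hh, hc⟩ := exists_half h2
  have hx := frame_x F h2 hX h1 h1'
  have hx' := frame_x F' h2 hX k1 k1'
  have hXq := frame_x_qd hh hx
  have z := Cen.zero S T
  have o := Cen.one S T
  have hsum : S' + T' + S' * T' = S + T + S * T := by
    have e : -(1 + S + T + S * T) = -(1 + S' + T' + S' * T') := by rw [← hx, ← hx']
    have e' := neg_inj.mp e
    have e'' : 1 + (S + T + S * T) = 1 + (S' + T' + S' * T') := by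
      rw [← add_assoc, ← add_assoc, ← add_assoc, ← add_assoc]; exact e'
    exact (add_left_cancel e'').symm
  obtain ⟨b₀, b₁, b₂, b₃, g₀, g₁, g₂, g₃, hS'⟩ := expand F h2 S'
  have xcancel : ∀ a b : E, a * X = b * X → a = b := by
    intro a b hab
    have hXi : X * (-X - 1) = 1 := by
      rw [mul_sub, mul_neg, hX, mul_one]; abel
    have h5 := congrArg (· * (-X - 1)) hab
    simp only [mul_assoc, hXi, mul_one] at h5
    exact h5
  have hT' : T' = qd S T b₀ b₃ b₁ b₂ := by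
    apply xcancel
    rw [← k1, hS']
    exact conj_qd F hc hXq h1 h1' g₀ g₁ g₂ g₃
  have hU' : S' * T' = qd S T b₀ b₂ b₃ b₁ := by
    apply xcancel
    rw [← k1', hT']
    exact conj_qd F hc hXq h1 h1' g₀ g₃ g₁ g₂
  have hv : S + T + S * T = qd S T 0 1 1 1 := by
    unfold qd; simp
  rw [hU', hT', hv] at hsum
  have hS'' := hS'
  rw [hS''] at hsum
  rw [qd_add, qd_add] at hsum
  obtain ⟨p₀, p₁, -, -⟩ := qd_inj F h2 ((g₀.add g₀).add g₀) ((g₁.add g₃).add g₂)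
    ((g₂.add g₁).add g₃) ((g₃.add g₂).add g₁) z o o o hsum
  have hb₀ : b₀ = 0 := by
    have e : (3 : E) * b₀ = 0 := by
      have e3 : (3 : E) = 1 + 1 + 1 := by norm_num
      rw [e3, add_mul, add_mul, one_mul]; exact p₀
    exact h3.mul_right_eq_zero.mp e
  subst hb₀
  have hsq := F'.hS
  have hm1 : (-1 : E) = qd S T (-1) 0 0 0 := by
    unfold qd; simp
  rw [hS', qd_mul F _ _ _ _ z g₁ g₂ g₃, hm1] at hsq
  obtain ⟨q₀, q₁, q₂, q₃⟩ := qd_inj F h2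
    ((((z.mul z).sub (g₁.mul g₁)).sub (g₂.mul g₂)).sub (g₃.mul g₃))
    ((((z.mul g₁).add (g₁.mul z)).add (g₂.mul g₃)).sub (g₃.mul g₂))
    ((((z.mul g₂).sub (g₁.mul g₃)).add (g₂.mul z)).add (g₃.mul g₁))
    ((((z.mul g₃).add (g₁.mul g₂)).sub (g₂.mul g₁)).add (g₃.mul z))
    o.neg z z z hsq
  simp only [zero_mul, mul_zero, zero_add, add_zero, zero_sub, sub_zero] at q₀ q₁ q₂ q₃
  refine ⟨b₁, b₂, b₃, g₁, g₂, g₃, ?_, ?_, ?_, ?_, ?_, hS', hT', hU'⟩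
  · have : b₁ * b₂ - b₂ * b₁ = 0 := q₃
    exact sub_eq_zero.mp this
  · exact sub_eq_zero.mp q₁
  · have : b₃ * b₁ = b₁ * b₃ := by
      have e : b₃ * b₁ - b₁ * b₃ = -(b₁ * b₃) + b₃ * b₁ := by abel
      exact sub_eq_zero.mp (e.trans q₂)
    exact this
  · rw [← p₁]; abel
  · have e : b₁ * b₁ + b₂ * b₂ + b₃ * b₃ = -(-(b₁ * b₁) - b₂ * b₂ - b₃ * b₃) := by abel
    rw [e, q₀, neg_neg]

/-- anticommutators of the second frame with the first -/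
theorem anti {S T b₁ b₂ b₃ : E} (F : RF S T) (g₁ : Cen S T b₁) (g₂ : Cen S T b₂)
    (g₃ : Cen S T b₃) :
    qd S T 0 b₁ b₂ b₃ * S + S * qd S T 0 b₁ b₂ b₃ = -(b₁ + b₁) ∧
    qd S T 0 b₁ b₂ b₃ * T + T * qd S T 0 b₁ b₂ b₃ = -(b₂ + b₂) ∧
    qd S T 0 b₁ b₂ b₃ * (S * T) + S * T * qd S T 0 b₁ b₂ b₃ = -(b₃ + b₃) := by
  refine ⟨?_, ?_, ?_⟩
  · unfold qd
    simp only [mul_add, add_mul, mul_sub, sub_mul, mul_neg, neg_mul, mul_assoc, F.hS, F.hT, F.hTS,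
      F.SS, F.TT, F.TS, g₁.sl, g₂.sl, g₃.sl, g₁.tl, g₂.tl, g₃.tl, g₁.sl', g₂.sl', g₃.sl',
      g₁.tl', g₂.tl', g₃.tl', mul_one, one_mul, neg_neg, zero_mul, mul_zero, zero_add, add_zero]
    abel
  · unfold qd
    simp only [mul_add, add_mul, mul_sub, sub_mul, mul_neg, neg_mul, mul_assoc, F.hS, F.hT, F.hTS,
      F.SS, F.TT, F.TS, g₁.sl, g₂.sl, g₃.sl, g₁.tl, g₂.tl, g₃.tl, g₁.sl', g₂.sl', g₃.sl',
      g₁.tl', g₂.tl', g₃.tl', mul_one, one_mul, neg_neg, zero_mul, mul_zero, zero_add, add_zero]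
    abel
  · unfold qd
    simp only [mul_add, add_mul, mul_sub, sub_mul, mul_neg, neg_mul, mul_assoc, F.hS, F.hT, F.hTS,
      F.SS, F.TT, F.TS, g₁.sl, g₂.sl, g₃.sl, g₁.tl, g₂.tl, g₃.tl, g₁.sl', g₂.sl', g₃.sl',
      g₁.tl', g₂.tl', g₃.tl', mul_one, one_mul, neg_neg, zero_mul, mul_zero, zero_add, add_zero]
    abel

end Cfsg.Agent.Lib.Helper12.Frame
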