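import Mathlib

/-!
Numeric part of the Klein-type class counting (helper12).
-/

set_option autoImplicit false

namespace Cfsg.Agent.Lib.Helper12.KleinNum

/-! ### numeric class data -/

/-- Numeric data of a class: `n = [Γ:Z]`, `c = [C(g):Z]`, `ε = [N(C):C]`, `m = [Γ:N(C)]`,
`u = |U(g)|/|Z|`. -/
structure NC (n c m ε u : ℕ) : Prop where
  hn : n = m * ε * c
  hc : 2 ≤ c
  hε : ε = 1 ∨ ε = 2
  hm : 1 ≤ m
  hu : u + m = m * c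
  hmε : 2 ≤ m * ε

theorem NC.four_le {n c m ε u : ℕ} (h : NC n c m ε u) : n ≤ 4 * u := by
  obtain ⟨hn, hc, hε, hm, hu, hmε⟩ := h
  have h1 : 2 * m ≤ m * c := by nlinarith
  rcases hε with rfl | rfl
  · rw [mul_one] at hn; omega
  · have : n = 2 * (m * c) := by rw [hn]; ring
    omega

theorem num1 {n c m ε u : ℕ} (h : NC n c m ε u) (hs : u + 1 = n) : False := by
  obtain ⟨hn, hc, hε, hm, hu, hmε⟩ := h
  have h1 : 2 * m ≤ m * c := by nlinarith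
  rcases hε with rfl | rfl
  · rw [mul_one] at hn hmε; omega
  · have : n = 2 * (m * c) := by rw [hn]; ring
    omega

/-- the admissible values of `u` when `n = 12` -/
def Ok12 (u : ℕ) : Prop := u = 3 ∨ u = 4 ∨ u = 8

theorem num2_aux {n c₁ m₁ u₁ c₂ m₂ u₂ : ℕ} (h₁ : NC n c₁ m₁ 1 u₁) (h₂ : NC n c₂ m₂ 2 u₂)
    (hs : u₁ + u₂ + 1 = n) : m₂ = 1 ∨ (n = 12 ∧ u₁ = 8 ∧ u₂ = 3) := by
  obtain ⟨hn₁, hc₁, -, hm₁, hu₁, -⟩ := h₁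
  obtain ⟨hn₂, hc₂, -, hm₂, hu₂, -⟩ := h₂
  rw [mul_one] at hn₁
  have hn₂' : n = 2 * (m₂ * c₂) := by rw [hn₂]; ring
  have h2 : 2 * m₂ ≤ m₂ * c₂ := by nlinarith
  have hc : c₁ = 2 ∨ c₁ = 3 ∨ 4 ≤ c₁ := by omega
  rcases hc with rfl | rfl | hc
  · left; omega
  · right
    have hc2 : c₂ = 2 := by
      by_contra hcon
      have : 3 ≤ c₂ := by omega
      have : 3 * m₂ ≤ m₂ * c₂ := by nlinarith
      omega
    subst hc2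
    omega
  · exfalso
    have : 4 * m₁ ≤ m₁ * c₁ := by nlinarith
    omega

theorem num2 {n c₁ m₁ ε₁ u₁ c₂ m₂ ε₂ u₂ : ℕ} (h₁ : NC n c₁ m₁ ε₁ u₁) (h₂ : NC n c₂ m₂ ε₂ u₂)
    (hs : u₁ + u₂ + 1 = n) : (m₁ * ε₁ = 2 ∨ m₂ * ε₂ = 2) ∨ (n = 12 ∧ Ok12 u₁ ∧ Ok12 u₂) := by
  have he₁ := h₁.hε
  have he₂ := h₂.hε
  rcases he₁ with rfl | rfl <;> rcases he₂ with rfl | rfl
  · exfalso
    obtain ⟨hn₁, hc₁, -, hm₁, hu₁, -⟩ := h₁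
    obtain ⟨hn₂, hc₂, -, hm₂, hu₂, -⟩ := h₂
    rw [mul_one] at hn₁ hn₂
    have h1 : 2 * m₁ ≤ m₁ * c₁ := by nlinarith
    have h2 : 2 * m₂ ≤ m₂ * c₂ := by nlinarith
    omega
  · rcases num2_aux h₁ h₂ hs with h | ⟨h, h', h''⟩
    · left; right; omega
    · right; exact ⟨h, Or.inr (Or.inr h'), Or.inl h''⟩
  · rcases num2_aux h₂ h₁ (by omega) with h | ⟨h, h', h''⟩
    · left; left; omega
    · right; exact ⟨h, Or.inl h'', Or.inr (Or.inr h')⟩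
  · exfalso
    obtain ⟨hn₁, hc₁, -, hm₁, hu₁, -⟩ := h₁
    obtain ⟨hn₂, hc₂, -, hm₂, hu₂, -⟩ := h₂
    have hn₁' : n = 2 * (m₁ * c₁) := by rw [hn₁]; ring
    have hn₂' : n = 2 * (m₂ * c₂) := by rw [hn₂]; ring
    omega

theorem num3_core {h c₁ m₁ c₂ m₂ c₃ m₃ : ℕ} (e₁ : h = m₁ * c₁) (e₂ : h = m₂ * c₂)
    (e₃ : h = m₃ * c₃) (hc₃ : 2 ≤ c₃) (hm₁ : 1 ≤ m₁) (hm₂ : 1 ≤ m₂) (hm₃ : 1 ≤ m₃)
    (hs : m₁ + m₂ + m₃ = h + 1) (h12 : c₁ = 2) (hc₂ : 2 ≤ c₂) (h3 : c₂ ≤ 3) :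
    m₃ = 1 ∨ (h = 6 ∧ m₁ = 3 ∧ m₂ = 2 ∧ m₃ = 2) ∨ (h = 12 ∧ m₁ = 6 ∧ m₂ = 4 ∧ m₃ = 3) ∨
      (h = 30 ∧ m₁ = 15 ∧ m₂ = 10 ∧ m₃ = 6) := by
  subst h12
  have hc : c₂ = 2 ∨ c₂ = 3 := by omega
  rcases hc with rfl | rfl
  · left; omega
  · have hc5 : c₃ ≤ 5 := by
      by_contra hcon
      have : 6 ≤ c₃ := by omega
      have : 6 * m₃ ≤ m₃ * c₃ := by nlinarith
      omega
    interval_cases c₃ <;> omega

/-- the admissible values of `u` when `n = 60` -/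
def Ok (u : ℕ) : Prop := u = 15 ∨ u = 20 ∨ u = 24

/-- the (symmetric) conclusion of the three-class analysis -/
def Out (n m₁ u₁ m₂ u₂ m₃ u₃ : ℕ) : Prop :=
  (m₁ = 1 ∨ m₂ = 1 ∨ m₃ = 1) ∨ (n = 12 ∧ Ok12 u₁ ∧ Ok12 u₂ ∧ Ok12 u₃) ∨
    (n = 24 ∧ ((m₁ = 3 ∧ u₁ = 9) ∨ (m₂ = 3 ∧ u₂ = 9) ∨ (m₃ = 3 ∧ u₃ = 9))) ∨
    (n = 60 ∧ Ok u₁ ∧ Ok u₂ ∧ Ok u₃)

theorem Out.swap23 {n m₁ u₁ m₂ u₂ m₃ u₃ : ℕ} (h : Out n m₁ u₁ m₂ u₂ m₃ u₃) :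
    Out n m₁ u₁ m₃ u₃ m₂ u₂ := by
  unfold Out at h ⊢
  rcases h with (h | h | h) | ⟨h, k1, k2, k3⟩ | ⟨h, h' | h' | h'⟩ | ⟨h, h1, h2, h3⟩
  · exact Or.inl (Or.inl h)
  · exact Or.inl (Or.inr (Or.inr h))
  · exact Or.inl (Or.inr (Or.inl h))
  · exact Or.inr (Or.inl ⟨h, k1, k3, k2⟩)
  · exact Or.inr (Or.inr (Or.inl ⟨h, Or.inl h'⟩))
  · exact Or.inr (Or.inr (Or.inl ⟨h, Or.inr (Or.inr h')⟩))
  · exact Or.inr (Or.inr (Or.inl ⟨h, Or.inr (Or.inl h')⟩))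
  · exact Or.inr (Or.inr (Or.inr ⟨h, h1, h3, h2⟩))

theorem Out.swap12 {n m₁ u₁ m₂ u₂ m₃ u₃ : ℕ} (h : Out n m₁ u₁ m₂ u₂ m₃ u₃) :
    Out n m₂ u₂ m₁ u₁ m₃ u₃ := by
  unfold Out at h ⊢
  rcases h with (h | h | h) | ⟨h, k1, k2, k3⟩ | ⟨h, h' | h' | h'⟩ | ⟨h, h1, h2, h3⟩
  · exact Or.inl (Or.inr (Or.inl h))
  · exact Or.inl (Or.inl h)
  · exact Or.inl (Or.inr (Or.inr h))
  · exact Or.inr (Or.inl ⟨h, k2, k1, k3⟩)
  · exact Or.inr (Or.inr (Or.inl ⟨h, Or.inr (Or.inl h')⟩))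
  · exact Or.inr (Or.inr (Or.inl ⟨h, Or.inl h'⟩))
  · exact Or.inr (Or.inr (Or.inl ⟨h, Or.inr (Or.inr h')⟩))
  · exact Or.inr (Or.inr (Or.inr ⟨h, h2, h1, h3⟩))

theorem num3_fin {n h m₁ u₁ m₂ u₂ m₃ u₃ : ℕ} (hn : n = 2 * h) (hu₁ : u₁ + m₁ = h)
    (hu₂ : u₂ + m₂ = h) (hu₃ : u₃ + m₃ = h)
    (hcore : m₃ = 1 ∨ (h = 6 ∧ m₁ = 3 ∧ m₂ = 2 ∧ m₃ = 2) ∨ (h = 12 ∧ m₁ = 6 ∧ m₂ = 4 ∧ m₃ = 3) ∨
      (h = 30 ∧ m₁ = 15 ∧ m₂ = 10 ∧ m₃ = 6)) : Out n m₁ u₁ m₂ u₂ m₃ u₃ := by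
  unfold Out Ok Ok12
  rcases hcore with h1 | ⟨h1, h2, h3, h4⟩ | ⟨h1, h2, h3, h4⟩ | ⟨h1, h2, h3, h4⟩
  · exact Or.inl (Or.inr (Or.inr h1))
  · exact Or.inr (Or.inl ⟨by omega, Or.inl (by omega), Or.inr (Or.inl (by omega)),
      Or.inr (Or.inl (by omega))⟩)
  · exact Or.inr (Or.inr (Or.inl ⟨by omega, Or.inr (Or.inr ⟨h4, by omega⟩)⟩))
  · exact Or.inr (Or.inr (Or.inr ⟨by omega, Or.inl (by omega), Or.inr (Or.inl (by omega)),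
      Or.inr (Or.inr (by omega))⟩))

theorem num3_sorted {n c₁ m₁ u₁ c₂ m₂ u₂ c₃ m₃ u₃ : ℕ} (h₁ : NC n c₁ m₁ 2 u₁)
    (h₂ : NC n c₂ m₂ 2 u₂) (h₃ : NC n c₃ m₃ 2 u₃) (hs : u₁ + u₂ + u₃ + 1 = n)
    (h2 : c₁ = 2) (h3 : c₂ ≤ 3) : Out n m₁ u₁ m₂ u₂ m₃ u₃ := by
  obtain ⟨hn₁, hc₁, -, hm₁, hu₁, -⟩ := h₁
  obtain ⟨hn₂, hc₂, -, hm₂, hu₂, -⟩ := h₂
  obtain ⟨hn₃, hc₃, -, hm₃, hu₃, -⟩ := h₃
  have hn₁' : n = 2 * (m₁ * c₁) := by rw [hn₁]; ring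
  have hn₂' : n = 2 * (m₂ * c₂) := by rw [hn₂]; ring
  have hn₃' : n = 2 * (m₃ * c₃) := by rw [hn₃]; ring
  have e₂ : m₁ * c₁ = m₂ * c₂ := by omega
  have e₃ : m₁ * c₁ = m₃ * c₃ := by omega
  have hsum : m₁ + m₂ + m₃ = m₁ * c₁ + 1 := by omega
  have := num3_core rfl e₂ e₃ hc₃ hm₁ hm₂ hm₃ hsum h2 hc₂ h3
  exact num3_fin hn₁' hu₁ (by omega) (by omega) this

theorem num3 {n c₁ m₁ ε₁ u₁ c₂ m₂ ε₂ u₂ c₃ m₃ ε₃ u₃ : ℕ} (h₁ : NC n c₁ m₁ ε₁ u₁)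
    (h₂ : NC n c₂ m₂ ε₂ u₂) (h₃ : NC n c₃ m₃ ε₃ u₃) (hs : u₁ + u₂ + u₃ + 1 = n) :
    ε₁ = 2 ∧ ε₂ = 2 ∧ ε₃ = 2 ∧ Out n m₁ u₁ m₂ u₂ m₃ u₃ := by
  have f₁ := h₁.four_le
  have f₂ := h₂.four_le
  have f₃ := h₃.four_le
  -- all ε are 2
  have a₁ : ε₁ = 2 := by
    rcases h₁.hε with h | h
    · exfalso
      obtain ⟨hn₁, hc₁, -, hm₁, hu₁, -⟩ := h₁
      subst h
      rw [mul_one] at hn₁
      have : 2 * m₁ ≤ m₁ * c₁ := by nlinarith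
      omega
    · exact h
  have a₂ : ε₂ = 2 := by
    rcases h₂.hε with h | h
    · exfalso
      obtain ⟨hn₂, hc₂, -, hm₂, hu₂, -⟩ := h₂
      subst h
      rw [mul_one] at hn₂
      have : 2 * m₂ ≤ m₂ * c₂ := by nlinarith
      omega
    · exact h
  have a₃ : ε₃ = 2 := by
    rcases h₃.hε with h | h
    · exfalso
      obtain ⟨hn₃, hc₃, -, hm₃, hu₃, -⟩ := h₃
      subst h
      rw [mul_one] at hn₃
      have : 2 * m₃ ≤ m₃ * c₃ := by nlinarith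
      omega
    · exact h
  subst a₁ a₂ a₃
  refine ⟨rfl, rfl, rfl, ?_⟩
  have hc₁ := h₁.hc
  have hc₂ := h₂.hc
  have hc₃ := h₃.hc
  have hm₁ := h₁.hm
  have hm₂ := h₂.hm
  have hm₃ := h₃.hm
  have hn₁' : n = 2 * (m₁ * c₁) := by rw [h₁.hn]; ring
  have hn₂' : n = 2 * (m₂ * c₂) := by rw [h₂.hn]; ring
  have hn₃' : n = 2 * (m₃ * c₃) := by rw [h₃.hn]; ring
  have hu₁ := h₁.hu
  have hu₂ := h₂.hu
  have hu₃ := h₃.hu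
  have hex2 : c₁ = 2 ∨ c₂ = 2 ∨ c₃ = 2 := by
    by_contra hcon
    have : 3 * m₁ ≤ m₁ * c₁ := by
      have : 3 ≤ c₁ := by omega
      nlinarith
    have : 3 * m₂ ≤ m₂ * c₂ := by
      have : 3 ≤ c₂ := by omega
      nlinarith
    have : 3 * m₃ ≤ m₃ * c₃ := by
      have : 3 ≤ c₃ := by omega
      nlinarith
    omega
  have q₁ : c₁ ≤ 3 ∨ 4 * m₁ ≤ m₁ * c₁ := by
    by_cases h : c₁ ≤ 3
    · exact Or.inl h
    · right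
      have : 4 ≤ c₁ := by omega
      nlinarith
  have q₂ : c₂ ≤ 3 ∨ 4 * m₂ ≤ m₂ * c₂ := by
    by_cases h : c₂ ≤ 3
    · exact Or.inl h
    · right
      have : 4 ≤ c₂ := by omega
      nlinarith
  have q₃ : c₃ ≤ 3 ∨ 4 * m₃ ≤ m₃ * c₃ := by
    by_cases h : c₃ ≤ 3
    · exact Or.inl h
    · right
      have : 4 ≤ c₃ := by omega
      nlinarith
  rcases hex2 with h2 | h2 | h2
  · have hex3 : c₂ ≤ 3 ∨ c₃ ≤ 3 := by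
      rcases q₂ with q | q
      · exact Or.inl q
      · rcases q₃ with q' | q'
        · exact Or.inr q'
        · exfalso; subst h2; omega
    rcases hex3 with h3 | h3
    · exact num3_sorted h₁ h₂ h₃ hs h2 h3
    · exact (num3_sorted h₁ h₃ h₂ (by omega) h2 h3).swap23
  · have hex3 : c₁ ≤ 3 ∨ c₃ ≤ 3 := by
      rcases q₁ with q | q
      · exact Or.inl q
      · rcases q₃ with q' | q'
        · exact Or.inr q'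
        · exfalso; subst h2; omega
    rcases hex3 with h3 | h3
    · exact (num3_sorted h₂ h₁ h₃ (by omega) h2 h3).swap12
    · exact ((num3_sorted h₂ h₃ h₁ (by omega) h2 h3).swap23).swap12
  · have hex3 : c₁ ≤ 3 ∨ c₂ ≤ 3 := by
      rcases q₁ with q | q
      · exact Or.inl q
      · rcases q₂ with q' | q'
        · exact Or.inr q'
        · exfalso; subst h2; omega
    rcases hex3 with h3 | h3
    · exact ((num3_sorted h₃ h₁ h₂ (by omega) h2 h3).swap12).swap23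
    · exact (((num3_sorted h₃ h₂ h₁ (by omega) h2 h3).swap12).swap23).swap12

theorem num4 {n c₁ m₁ ε₁ u₁ c₂ m₂ ε₂ u₂ c₃ m₃ ε₃ u₃ c₄ m₄ ε₄ u₄ : ℕ} (h₁ : NC n c₁ m₁ ε₁ u₁)
    (h₂ : NC n c₂ m₂ ε₂ u₂) (h₃ : NC n c₃ m₃ ε₃ u₃) (h₄ : NC n c₄ m₄ ε₄ u₄)
    (hs : u₁ + u₂ + u₃ + u₄ + 1 ≤ n) : False := by
  have f₁ := h₁.four_le
  have f₂ := h₂.four_le
  have f₃ := h₃.four_le
  have f₄ := h₄.four_le
  omega

theorem num60 {c m ε u : ℕ} (h : NC 60 c m ε u) (hu : Ok u) :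
    ε = 2 ∧ (c = 2 ∨ c = 3 ∨ c = 5) := by
  obtain ⟨hn, hc, hε, hm, hu', hmε⟩ := h
  unfold Ok at hu
  rcases hε with rfl | rfl
  · exfalso
    rw [mul_one] at hn
    rcases hu with rfl | rfl | rfl
    · have : m = 45 := by omega
      subst this; omega
    · have : m = 40 := by omega
      subst this; omega
    · have : m = 36 := by omega
      subst this; omega
  · refine ⟨rfl, ?_⟩
    have hn' : 60 = 2 * (m * c) := by rw [hn]; ring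
    rcases hu with rfl | rfl | rfl
    · have : m = 15 := by omega
      subst this; omega
    · have : m = 10 := by omega
      subst this; omega
    · have : m = 6 := by omega
      subst this; omega

theorem num12 {c m ε u : ℕ} (h : NC 12 c m ε u) (hu : Ok12 u) : c = 2 ∨ c = 3 := by
  obtain ⟨hn, hc, hε, hm, hu', hmε⟩ := h
  unfold Ok12 at hu
  rcases hε with rfl | rfl
  · rw [mul_one] at hn
    rcases hu with rfl | rfl | rfl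
    · have : m = 9 := by omega
      subst this; omega
    · have : m = 8 := by omega
      subst this; omega
    · have : m = 4 := by omega
      subst this; omega
  · have hn' : 12 = 2 * (m * c) := by rw [hn]; ring
    rcases hu with rfl | rfl | rfl
    · have : m = 3 := by omega
      subst this; omega
    · have : m = 2 := by omega
      subst this; omega
    · omega

end Cfsg.Agent.Lib.Helper12.KleinNum
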