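import Mathlib
import Cfsg.Agent.Lib.Helper12.KleinNum

/-!
Klein-type class counting (helper12).

A finite non-abelian group in which the centralizer of every non-central element is abelian
and in which a conjugate of a non-central `g` commuting with `g` is `g` or `g⁻¹` has order
`12ζ`, `24ζ` or `60ζ` (`ζ` the order of the centre) or has an abelian centralizer of index two.
-/

set_option autoImplicit false

namespace Cfsg.Agent.Lib.Helper12.Klein

open Subgroup
open Cfsg.Agent.Lib.Helper12.KleinNum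

variable {Γ : Type*} [Group Γ]

/-- The hypotheses of the counting argument. -/
structure KH (Γ : Type*) [Group Γ] : Prop where
  h1 : ∀ g : Γ, g ∉ center Γ → ∀ a b : Γ, Commute a g → Commute b g → Commute a b
  h2 : ∀ g : Γ, g ∉ center Γ → ∀ n : Γ, Commute (n * g * n⁻¹) g →
    n * g * n⁻¹ = g ∨ n * g * n⁻¹ = g⁻¹

/-- The block of `g`: non-central elements commuting with `g`. -/
def B (g : Γ) : Set Γ := {h | h ∉ center Γ ∧ Commute h g}

/-- The union of the conjugates of the block of `g`. -/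
def U (g : Γ) : Set Γ := {h | ∃ k : Γ, k * h * k⁻¹ ∈ B g}

theorem conj_mem_center_iff (k h : Γ) : k * h * k⁻¹ ∈ center Γ ↔ h ∈ center Γ := by
  constructor
  · intro hh
    have := (inferInstance : (center Γ).Normal).conj_mem _ hh k⁻¹
    simpa [mul_assoc] using this
  · intro hh
    exact (inferInstance : (center Γ).Normal).conj_mem _ hh k

theorem self_mem_B {g : Γ} (hg : g ∉ center Γ) : g ∈ B g := ⟨hg, Commute.refl g⟩

theorem block_eq (K : KH Γ) {g h : Γ} (hg : g ∉ center Γ) (hh : h ∈ B g) : B h = B g := by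
  ext k
  constructor
  · rintro ⟨hk, hkh⟩
    exact ⟨hk, K.h1 h hh.1 k g hkh hh.2.symm⟩
  · rintro ⟨hk, hkg⟩
    exact ⟨hk, K.h1 g hg k h hkg hh.2⟩

theorem conj_block (k c x : Γ) : k * c * k⁻¹ ∈ B (k * x * k⁻¹) ↔ c ∈ B x := by
  unfold B
  simp only [Set.mem_ofPred_eq, conj_mem_center_iff, Commute.conj_iff]

theorem conj_swap (K : KH Γ) {g h₀ : Γ} (hg : g ∉ center Γ) (hh : h₀ ∈ B g) (m : Γ) :
    m * h₀ * m⁻¹ ∈ B g ↔ m * g * m⁻¹ ∈ B g := by
  constructor
  · intro hm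
    have e := block_eq K hg hm
    rw [← e, conj_block, block_eq K hg hh]
    exact self_mem_B hg
  · intro hm
    have e := block_eq K hg hm
    rw [← e, conj_block]
    exact hh

/-- The extended centralizer: elements conjugating `g` to `g` or `g⁻¹`. -/
def Nsub (g : Γ) : Subgroup Γ where
  carrier := {n | n * g * n⁻¹ = g ∨ n * g * n⁻¹ = g⁻¹}
  mul_mem' := by
    intro n m hn hm
    have e : n * m * g * (n * m)⁻¹ = n * (m * g * m⁻¹) * n⁻¹ := by group
    have e' : n * g⁻¹ * n⁻¹ = (n * g * n⁻¹)⁻¹ := by group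
    simp only [Set.mem_ofPred_eq] at hn hm ⊢
    rw [e]
    rcases hm with hm | hm
    · rw [hm]; exact hn
    · rw [hm, e']
      rcases hn with hn | hn
      · right; rw [hn]
      · left; rw [hn, inv_inv]
  one_mem' := by simp
  inv_mem' := by
    intro n hn
    simp only [Set.mem_ofPred_eq] at hn ⊢
    rw [inv_inv]
    rcases hn with hn | hn
    · left
      have : n⁻¹ * (n * g * n⁻¹) * n = g := by group
      rw [hn] at this; exact this
    · right
      have : n⁻¹ * (n * g * n⁻¹) * n = g := by group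
      rw [hn] at this
      have e : n⁻¹ * g * n = (n⁻¹ * g⁻¹ * n)⁻¹ := by group
      rw [e, this]

theorem mem_Nsub {g n : Γ} : n ∈ Nsub g ↔ (n * g * n⁻¹ = g ∨ n * g * n⁻¹ = g⁻¹) := Iff.rfl

theorem mem_Nsub_iff (K : KH Γ) {g : Γ} (hg : g ∉ center Γ) (n : Γ) :
    n ∈ Nsub g ↔ n * g * n⁻¹ ∈ B g := by
  rw [mem_Nsub]
  constructor
  · intro h
    refine ⟨(conj_mem_center_iff n g).not.mpr hg, ?_⟩
    rcases h with h | h
    · rw [h]
    · rw [h]; exact (Commute.refl g).inv_left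
  · intro h
    exact K.h2 g hg n h.2

theorem centralizer_le_Nsub (g : Γ) : centralizer ({g} : Set Γ) ≤ Nsub g := by
  intro n hn
  rw [mem_centralizer_singleton_iff] at hn
  rw [mem_Nsub]
  left
  rw [hn, mul_inv_cancel_right]

/-- The fibre count. -/
theorem count [Finite Γ] (K : KH Γ) {g : Γ} (hg : g ∉ center Γ) :
    Nat.card (U g) * Nat.card (Nsub g) = Nat.card Γ * Nat.card (B g) := by
  classical
  have hex : ∀ h : U g, ∃ k : Γ, k * h.1 * k⁻¹ ∈ B g := fun h => h.2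
  choose k₀ hk₀ using hex
  have e1 : {p : Γ × Γ // p.1 * p.2 * p.1⁻¹ ∈ B g} ≃ Γ × B g :=
    { toFun := fun p => (p.1.1, ⟨p.1.1 * p.1.2 * p.1.1⁻¹, p.2⟩)
      invFun := fun q => ⟨(q.1, q.1⁻¹ * q.2.1 * q.1), by
        have : q.1 * (q.1⁻¹ * q.2.1 * q.1) * q.1⁻¹ = q.2.1 := by group
        rw [this]; exact q.2.2⟩
      left_inv := fun p => by
        apply Subtype.ext
        apply Prod.ext
        · rfl
        · show p.1.1⁻¹ * (p.1.1 * p.1.2 * p.1.1⁻¹) * p.1.1 = p.1.2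
          group
      right_inv := fun q => by
        apply Prod.ext
        · rfl
        · apply Subtype.ext
          show q.1 * (q.1⁻¹ * q.2.1 * q.1) * q.1⁻¹ = q.2.1
          group }
  have e2 : {p : Γ × Γ // p.1 * p.2 * p.1⁻¹ ∈ B g} ≃ U g × Nsub g :=
    { toFun := fun p => (⟨p.1.2, ⟨p.1.1, p.2⟩⟩, ⟨p.1.1 * (k₀ ⟨p.1.2, ⟨p.1.1, p.2⟩⟩)⁻¹, by
        rw [mem_Nsub_iff K hg]
        have h0 := hk₀ ⟨p.1.2, ⟨p.1.1, p.2⟩⟩
        rw [← conj_swap K hg h0]
        have e : p.1.1 * (k₀ ⟨p.1.2, ⟨p.1.1, p.2⟩⟩)⁻¹ *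
            (k₀ ⟨p.1.2, ⟨p.1.1, p.2⟩⟩ * p.1.2 * (k₀ ⟨p.1.2, ⟨p.1.1, p.2⟩⟩)⁻¹) *
            (p.1.1 * (k₀ ⟨p.1.2, ⟨p.1.1, p.2⟩⟩)⁻¹)⁻¹ = p.1.1 * p.1.2 * p.1.1⁻¹ := by group
        rw [e]; exact p.2⟩)
      invFun := fun q => ⟨(q.2.1 * k₀ q.1, q.1.1), by
        have h0 := hk₀ q.1
        have h1 := (mem_Nsub_iff K hg q.2.1).mp q.2.2
        rw [← conj_swap K hg h0] at h1
        have e : q.2.1 * k₀ q.1 * q.1.1 * (q.2.1 * k₀ q.1)⁻¹
            = q.2.1 * (k₀ q.1 * q.1.1 * (k₀ q.1)⁻¹) * q.2.1⁻¹ := by group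
        show q.2.1 * k₀ q.1 * q.1.1 * (q.2.1 * k₀ q.1)⁻¹ ∈ B g
        rw [e]; exact h1⟩
      left_inv := fun p => by
        apply Subtype.ext
        apply Prod.ext
        · show p.1.1 * (k₀ ⟨p.1.2, ⟨p.1.1, p.2⟩⟩)⁻¹ * k₀ ⟨p.1.2, ⟨p.1.1, p.2⟩⟩ = p.1.1
          rw [inv_mul_cancel_right]
        · rfl
      right_inv := fun q => by
        apply Prod.ext
        · rfl
        · apply Subtype.ext
          show q.2.1 * k₀ q.1 * (k₀ q.1)⁻¹ = q.2.1
          rw [mul_inv_cancel_right] }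
  rw [← Nat.card_prod, ← Nat.card_prod]
  exact Nat.card_congr (e2.symm.trans e1)

theorem card_B [Finite Γ] (g : Γ) :
    Nat.card (B g) + Nat.card (center Γ) = Nat.card (centralizer ({g} : Set Γ)) := by
  have e : B g = ((centralizer ({g} : Set Γ) : Subgroup Γ) : Set Γ) \ (center Γ : Set Γ) := by
    ext h
    simp only [B, Set.mem_ofPred_eq, Set.mem_sdiff, SetLike.mem_coe, mem_centralizer_singleton_iff]
    constructor
    · rintro ⟨h1, h2⟩; exact ⟨h2, h1⟩
    · rintro ⟨h1, h2⟩; exact ⟨h2, h1⟩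
  have hsub : (center Γ : Set Γ) ⊆ ((centralizer ({g} : Set Γ) : Subgroup Γ) : Set Γ) :=
    center_le_centralizer _
  have := Set.ncard_sdiff_add_ncard_of_subset hsub
  rw [← e] at this
  exact this

theorem nsub_card [Finite Γ] (g : Γ) :
    Nat.card (Nsub g) = Nat.card (centralizer ({g} : Set Γ)) ∨
    (Nat.card (Nsub g) = 2 * Nat.card (centralizer ({g} : Set Γ)) ∧
      ∃ n, ¬ Commute n g ∧ n * g * n⁻¹ = g⁻¹) := by
  by_cases h : ∃ n, ¬ Commute n g ∧ n * g * n⁻¹ = g⁻¹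
  · right
    refine ⟨?_, h⟩
    obtain ⟨n₀, hn₀, hn₀'⟩ := h
    have hle := centralizer_le_Nsub g
    have hidx : ((centralizer ({g} : Set Γ)).subgroupOf (Nsub g)).index = 2 := by
      rw [index_eq_two_iff]
      refine ⟨⟨n₀, Or.inr hn₀'⟩, ?_⟩
      intro b
      rw [mem_subgroupOf, mem_subgroupOf, mem_centralizer_singleton_iff,
        mem_centralizer_singleton_iff]
      by_cases hb : (b : Γ) * g = g * b
      · right
        refine ⟨hb, ?_⟩
        intro hc
        apply hn₀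
        show n₀ * g = g * n₀
        have hc' : (b : Γ) * n₀ * g = g * (b * n₀) := hc
        rw [mul_assoc, ← mul_assoc g, ← hb, mul_assoc] at hc'
        exact mul_left_cancel hc'
      · left
        refine ⟨?_, hb⟩
        have hb2 : (b : Γ) * g * (b : Γ)⁻¹ = g⁻¹ := by
          rcases b.2 with h1 | h1
          · exfalso; apply hb
            exact mul_inv_eq_iff_eq_mul.mp h1
          · exact h1
        show (b : Γ) * n₀ * g = g * (b * n₀)
        have e : (b : Γ) * n₀ * g = (b * (n₀ * g * n₀⁻¹) * (b : Γ)⁻¹) * (b * n₀) := by group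
        have e' : (b : Γ) * g⁻¹ * (b : Γ)⁻¹ = ((b : Γ) * g * (b : Γ)⁻¹)⁻¹ := by group
        rw [e, hn₀', e', hb2, inv_inv]
    have h1 := card_mul_index ((centralizer ({g} : Set Γ)).subgroupOf (Nsub g))
    rw [hidx, Nat.card_congr (subgroupOfEquivOfLe hle).toEquiv] at h1
    rw [← h1, mul_comm]
  · left
    have : Nsub g = centralizer ({g} : Set Γ) := by
      apply le_antisymm _ (centralizer_le_Nsub g)
      intro n hn
      rw [mem_centralizer_singleton_iff]
      rcases hn with h1 | h1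
      · rw [← h1, inv_mul_cancel_right, h1]
      · by_contra hc
        exact h ⟨n, hc, h1⟩
    rw [this]

theorem center_iff_centralizer (g : Γ) : g ∈ center Γ ↔ centralizer ({g} : Set Γ) = ⊤ := by
  constructor
  · intro h
    rw [eq_top_iff]
    intro k _
    rw [mem_centralizer_singleton_iff]
    exact (mem_center_iff.mp h k)
  · intro h
    rw [mem_center_iff]
    intro k
    have : k ∈ centralizer ({g} : Set Γ) := by rw [h]; exact mem_top k
    rw [mem_centralizer_singleton_iff] at this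
    exact this

theorem class_data [Finite Γ] (K : KH Γ) {g : Γ} (hg : g ∉ center Γ) :
    ∃ c m ε u : ℕ, NC (Nat.card Γ / Nat.card (center Γ)) c m ε u ∧
      Nat.card (centralizer ({g} : Set Γ)) = Nat.card (center Γ) * c ∧
      (U g).ncard = Nat.card (center Γ) * u ∧
      Nat.card Γ = Nat.card (center Γ) * (m * ε * c) ∧
      (Nsub g).index = m ∧
      (ε = 2 → ∃ n, ¬ Commute n g ∧ n * g * n⁻¹ = g⁻¹) := by
  have hζ : 0 < Nat.card (center Γ) := Nat.card_pos
  have hb := card_B g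
  have hb1 : 1 ≤ Nat.card (B g) := by
    have : Nonempty (B g) := ⟨⟨g, self_mem_B hg⟩⟩
    exact Nat.card_pos
  obtain ⟨c, hc⟩ : Nat.card (center Γ) ∣ Nat.card (centralizer ({g} : Set Γ)) :=
    card_dvd_of_le (center_le_centralizer _)
  have hc2 : 2 ≤ c := by
    by_contra hcon
    have : c ≤ 1 := by omega
    have : Nat.card (center Γ) * c ≤ Nat.card (center Γ) * 1 := Nat.mul_le_mul_left _ this
    omega
  have hcount := count K hg
  have hidx := card_mul_index (Nsub g)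
  have hνpos : 0 < Nat.card (Nsub g) := Nat.card_pos
  have hNpos : 0 < Nat.card Γ := Nat.card_pos
  have hmpos : 1 ≤ (Nsub g).index := by
    rcases Nat.eq_zero_or_pos (Nsub g).index with h0 | h0
    · rw [h0, mul_zero] at hidx; omega
    · exact h0
  -- u₀ = m * b
  have hu0 : Nat.card (U g) = (Nsub g).index * Nat.card (B g) := by
    have : Nat.card (U g) * Nat.card (Nsub g)
        = (Nsub g).index * Nat.card (B g) * Nat.card (Nsub g) := by
      rw [hcount, ← hidx]; ring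
    exact Nat.eq_of_mul_eq_mul_right hνpos this
  have hbc : Nat.card (B g) + Nat.card (center Γ) = Nat.card (center Γ) * c := by rw [← hc]; exact hb
  have hne_top : Nat.card (centralizer ({g} : Set Γ)) ≠ Nat.card Γ := by
    intro h
    exact hg ((center_iff_centralizer g).mpr (eq_top_of_card_eq _ h))
  have key : ∀ ε : ℕ, (ε = 1 ∨ ε = 2) →
      Nat.card (Nsub g) = ε * Nat.card (centralizer ({g} : Set Γ)) →
      (ε = 2 → ∃ n, ¬ Commute n g ∧ n * g * n⁻¹ = g⁻¹) →
      ∃ c m ε u : ℕ, NC (Nat.card Γ / Nat.card (center Γ)) c m ε u ∧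
      Nat.card (centralizer ({g} : Set Γ)) = Nat.card (center Γ) * c ∧
      (U g).ncard = Nat.card (center Γ) * u ∧
      Nat.card Γ = Nat.card (center Γ) * (m * ε * c) ∧
      (Nsub g).index = m ∧
      (ε = 2 → ∃ n, ¬ Commute n g ∧ n * g * n⁻¹ = g⁻¹) := by
    intro ε hε hν hex
    have hN : Nat.card Γ = Nat.card (center Γ) * ((Nsub g).index * ε * c) := by
      rw [← hidx, hν, hc]; ring
    have hc1 : c - 1 + 1 = c := by omega
    refine ⟨c, (Nsub g).index, ε, (Nsub g).index * (c - 1), ⟨?_, hc2, hε, hmpos, ?_, ?_⟩,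
      hc, ?_, hN, rfl, hex⟩
    · rw [hN, Nat.mul_div_cancel_left _ hζ]
    · calc (Nsub g).index * (c - 1) + (Nsub g).index = (Nsub g).index * (c - 1 + 1) := by ring
        _ = (Nsub g).index * c := by rw [hc1]
    · by_contra hcon
      have h1 : (Nsub g).index * ε = 1 := by
        have : 1 ≤ (Nsub g).index * ε := by
          rcases hε with rfl | rfl
          · omega
          · omega
        omega
      apply hne_top
      rw [hN, h1, one_mul, hc]
    · rw [← Nat.card_coe_set_eq, hu0]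
      have : Nat.card (B g) = Nat.card (center Γ) * (c - 1) := by
        have : Nat.card (center Γ) * c = Nat.card (center Γ) * (c - 1) + Nat.card (center Γ) := by
          calc Nat.card (center Γ) * c = Nat.card (center Γ) * (c - 1 + 1) := by rw [hc1]
            _ = _ := by ring
        omega
      rw [this]; ring
  rcases nsub_card g with h | ⟨h, hex⟩
  · exact key 1 (Or.inl rfl) (by rw [h, one_mul]) (fun h => by omega)
  · exact key 2 (Or.inr rfl) h (fun _ => hex)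

theorem U_subset (g : Γ) : U g ⊆ ((center Γ : Set Γ))ᶜ := by
  rintro h ⟨k, hk⟩ hc
  exact hk.1 ((conj_mem_center_iff k h).mpr hc)

theorem mem_U_self {g : Γ} (hg : g ∉ center Γ) : g ∈ U g :=
  ⟨1, by simpa using self_mem_B hg⟩

theorem U_eq_of_mem (K : KH Γ) {g h : Γ} (hg : g ∉ center Γ) (hh : h ∈ U g) : U h = U g := by
  obtain ⟨k₀, hk₀⟩ := hh
  have e := block_eq K hg hk₀
  ext y
  constructor
  · rintro ⟨k, hk⟩
    refine ⟨k₀ * k, ?_⟩
    have h1 : k₀ * (k * y * k⁻¹) * k₀⁻¹ ∈ B (k₀ * h * k₀⁻¹) := (conj_block k₀ _ h).mpr hk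
    rw [e] at h1
    have e2 : k₀ * k * y * (k₀ * k)⁻¹ = k₀ * (k * y * k⁻¹) * k₀⁻¹ := by group
    rw [e2]; exact h1
  · rintro ⟨k, hk⟩
    refine ⟨k₀⁻¹ * k, ?_⟩
    rw [← e] at hk
    have e2 : k * y * k⁻¹ = k₀ * (k₀⁻¹ * k * y * (k₀⁻¹ * k)⁻¹) * k₀⁻¹ := by group
    rw [e2] at hk
    exact (conj_block k₀ _ h).mp hk

theorem U_disjoint (K : KH Γ) {g g' : Γ} (hg : g ∉ center Γ) (hg' : g' ∉ center Γ)
    (h : g' ∉ U g) : Disjoint (U g) (U g') := by
  rw [Set.disjoint_left]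
  intro y hy hy'
  have e1 := U_eq_of_mem K hg hy
  have e2 := U_eq_of_mem K hg' hy'
  apply h
  rw [← e1, e2]
  exact mem_U_self hg'


/-- **Klein-type counting.** -/
theorem klein [Finite Γ] (K : KH Γ) (hna : ∃ g : Γ, g ∉ center Γ) :
    (∃ g : Γ, g ∉ center Γ ∧ 2 * Nat.card (centralizer ({g} : Set Γ)) = Nat.card Γ) ∨
    (Nat.card Γ = 12 * Nat.card (center Γ) ∧ ∀ g : Γ, g ∉ center Γ →
      (Nat.card (centralizer ({g} : Set Γ)) = 2 * Nat.card (center Γ) ∨
       Nat.card (centralizer ({g} : Set Γ)) = 3 * Nat.card (center Γ))) ∨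
    (Nat.card Γ = 24 * Nat.card (center Γ) ∧ ∃ g : Γ, g ∉ center Γ ∧ (Nsub g).index = 3 ∧
      (U g).ncard = 9 * Nat.card (center Γ)) ∨
    (Nat.card Γ = 60 * Nat.card (center Γ) ∧ ∀ g : Γ, g ∉ center Γ →
      (Nat.card (centralizer ({g} : Set Γ)) = 2 * Nat.card (center Γ) ∨
       Nat.card (centralizer ({g} : Set Γ)) = 3 * Nat.card (center Γ) ∨
       Nat.card (centralizer ({g} : Set Γ)) = 5 * Nat.card (center Γ)) ∧
      ∃ n, ¬ Commute n g ∧ n * g * n⁻¹ = g⁻¹) := by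
  classical
  have hζ : 0 < Nat.card (center Γ) := Nat.card_pos
  have hNn : Nat.card Γ = Nat.card (center Γ) * (Nat.card Γ / Nat.card (center Γ)) :=
    (Nat.mul_div_cancel' (card_subgroup_dvd_card _)).symm
  have hcancel : ∀ a b : ℕ, Nat.card (center Γ) * a = Nat.card (center Γ) * b → a = b :=
    fun a b h => Nat.eq_of_mul_eq_mul_left hζ h
  have htot : ((center Γ : Set Γ)ᶜ).ncard + Nat.card (center Γ)
      = Nat.card (center Γ) * (Nat.card Γ / Nat.card (center Γ)) := by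
    have h := Set.ncard_add_ncard_compl (center Γ : Set Γ)
    have e : (center Γ : Set Γ).ncard = Nat.card (center Γ) := (Nat.card_coe_set_eq _).symm
    rw [← hNn, ← h, e, add_comm]
  have caseA : ∀ (g : Γ) (c m ε : ℕ), g ∉ center Γ →
      Nat.card (centralizer ({g} : Set Γ)) = Nat.card (center Γ) * c →
      Nat.card Γ = Nat.card (center Γ) * (m * ε * c) → m * ε = 2 →
      ∃ g : Γ, g ∉ center Γ ∧ 2 * Nat.card (centralizer ({g} : Set Γ)) = Nat.card Γ := by
    intro g c m ε hg ha hN h2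
    refine ⟨g, hg, ?_⟩
    rw [ha, hN, h2]; ring
  obtain ⟨g₁, hg₁⟩ := hna
  obtain ⟨c₁, m₁, ε₁, u₁, nc₁, ha₁, hu₁, hN₁, hi₁, hx₁⟩ := class_data K hg₁
  by_cases h1 : U g₁ = (center Γ : Set Γ)ᶜ
  · exfalso
    rw [← h1, hu₁] at htot
    have : u₁ + 1 = Nat.card Γ / Nat.card (center Γ) := hcancel _ _ (by rw [← htot]; ring)
    exact num1 nc₁ this
  obtain ⟨g₂, hg₂, hg₂'⟩ : ∃ g₂, g₂ ∉ center Γ ∧ g₂ ∉ U g₁ := by
    by_contra hcon
    push Not at hcon
    exact h1 (Set.Subset.antisymm (U_subset g₁) (fun y hy => hcon y hy))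
  obtain ⟨c₂, m₂, ε₂, u₂, nc₂, ha₂, hu₂, hN₂, hi₂, hx₂⟩ := class_data K hg₂
  have d12 := U_disjoint K hg₁ hg₂ hg₂'
  by_cases h2 : U g₁ ∪ U g₂ = (center Γ : Set Γ)ᶜ
  · rw [← h2, Set.ncard_union_eq d12, hu₁, hu₂] at htot
    have : u₁ + u₂ + 1 = Nat.card Γ / Nat.card (center Γ) := hcancel _ _ (by rw [← htot]; ring)
    rcases num2 nc₁ nc₂ this with (h | h) | ⟨h, o₁, o₂⟩
    · exact Or.inl (caseA g₁ c₁ m₁ ε₁ hg₁ ha₁ hN₁ h)
    · exact Or.inl (caseA g₂ c₂ m₂ ε₂ hg₂ ha₂ hN₂ h)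
    · right; left
      refine ⟨by rw [hNn, h]; ring, ?_⟩
      intro g hg
      obtain ⟨c, m, ε, u, nc, ha, hu, hN, hi, hx⟩ := class_data K hg
      have hgU : g ∈ U g₁ ∪ U g₂ := by
        rw [h2]; exact hg
      have hOk : Ok12 u := by
        rcases hgU with hgU | hgU
        · have e := U_eq_of_mem K hg₁ hgU
          rw [e, hu₁] at hu
          rw [← hcancel _ _ hu]; exact o₁
        · have e := U_eq_of_mem K hg₂ hgU
          rw [e, hu₂] at hu
          rw [← hcancel _ _ hu]; exact o₂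
      rw [h] at nc
      rw [ha]
      rcases num12 nc hOk with rfl | rfl
      · left; ring
      · right; ring
  obtain ⟨g₃, hg₃, hg₃'⟩ : ∃ g₃, g₃ ∉ center Γ ∧ g₃ ∉ U g₁ ∪ U g₂ := by
    by_contra hcon
    push Not at hcon
    exact h2 (Set.Subset.antisymm (Set.union_subset (U_subset g₁) (U_subset g₂))
      (fun y hy => hcon y hy))
  obtain ⟨c₃, m₃, ε₃, u₃, nc₃, ha₃, hu₃, hN₃, hi₃, hx₃⟩ := class_data K hg₃
  have d13 := U_disjoint K hg₁ hg₃ (fun h => hg₃' (Or.inl h))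
  have d23 := U_disjoint K hg₂ hg₃ (fun h => hg₃' (Or.inr h))
  have d123 : Disjoint (U g₁ ∪ U g₂) (U g₃) := Set.disjoint_union_left.mpr ⟨d13, d23⟩
  by_cases h3 : U g₁ ∪ U g₂ ∪ U g₃ = (center Γ : Set Γ)ᶜ
  · rw [← h3, Set.ncard_union_eq d123, Set.ncard_union_eq d12, hu₁, hu₂, hu₃] at htot
    have hsum : u₁ + u₂ + u₃ + 1 = Nat.card Γ / Nat.card (center Γ) :=
      hcancel _ _ (by rw [← htot]; ring)
    obtain ⟨e₁, e₂, e₃, hout⟩ := num3 nc₁ nc₂ nc₃ hsum
    subst e₁ e₂ e₃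
    rcases hout with (h | h | h) | ⟨h, o₁, o₂, o₃⟩ | ⟨h, h' | h' | h'⟩ | ⟨h, o₁, o₂, o₃⟩
    · exact Or.inl (caseA g₁ c₁ m₁ 2 hg₁ ha₁ hN₁ (by rw [h]))
    · exact Or.inl (caseA g₂ c₂ m₂ 2 hg₂ ha₂ hN₂ (by rw [h]))
    · exact Or.inl (caseA g₃ c₃ m₃ 2 hg₃ ha₃ hN₃ (by rw [h]))
    · right; left
      refine ⟨by rw [hNn, h]; ring, ?_⟩
      intro g hg
      obtain ⟨c, m, ε, u, nc, ha, hu, hN, hi, hx⟩ := class_data K hg
      have hgU : g ∈ U g₁ ∪ U g₂ ∪ U g₃ := by
        rw [h3]; exact hg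
      have hOk : Ok12 u := by
        rcases hgU with (hgU | hgU) | hgU
        · have e := U_eq_of_mem K hg₁ hgU
          rw [e, hu₁] at hu
          rw [← hcancel _ _ hu]; exact o₁
        · have e := U_eq_of_mem K hg₂ hgU
          rw [e, hu₂] at hu
          rw [← hcancel _ _ hu]; exact o₂
        · have e := U_eq_of_mem K hg₃ hgU
          rw [e, hu₃] at hu
          rw [← hcancel _ _ hu]; exact o₃
      rw [h] at nc
      rw [ha]
      rcases num12 nc hOk with rfl | rfl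
      · left; ring
      · right; ring
    · right; right; left
      refine ⟨by rw [hNn, h]; ring, g₁, hg₁, by rw [hi₁, h'.1], by rw [hu₁, h'.2]; ring⟩
    · right; right; left
      refine ⟨by rw [hNn, h]; ring, g₂, hg₂, by rw [hi₂, h'.1], by rw [hu₂, h'.2]; ring⟩
    · right; right; left
      refine ⟨by rw [hNn, h]; ring, g₃, hg₃, by rw [hi₃, h'.1], by rw [hu₃, h'.2]; ring⟩
    · right; right; right
      refine ⟨by rw [hNn, h]; ring, ?_⟩
      intro g hg
      obtain ⟨c, m, ε, u, nc, ha, hu, hN, hi, hx⟩ := class_data K hg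
      have hgU : g ∈ U g₁ ∪ U g₂ ∪ U g₃ := by
        rw [h3]; exact hg
      have hOk : Ok u := by
        rcases hgU with (hgU | hgU) | hgU
        · have e := U_eq_of_mem K hg₁ hgU
          rw [e, hu₁] at hu
          rw [← hcancel _ _ hu]; exact o₁
        · have e := U_eq_of_mem K hg₂ hgU
          rw [e, hu₂] at hu
          rw [← hcancel _ _ hu]; exact o₂
        · have e := U_eq_of_mem K hg₃ hgU
          rw [e, hu₃] at hu
          rw [← hcancel _ _ hu]; exact o₃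
      rw [h] at nc
      obtain ⟨hε, hc⟩ := num60 nc hOk
      refine ⟨?_, hx hε⟩
      rw [ha]
      rcases hc with rfl | rfl | rfl
      · left; ring
      · right; left; ring
      · right; right; ring
  exfalso
  obtain ⟨g₄, hg₄, hg₄'⟩ : ∃ g₄, g₄ ∉ center Γ ∧ g₄ ∉ U g₁ ∪ U g₂ ∪ U g₃ := by
    by_contra hcon
    push Not at hcon
    exact h3 (Set.Subset.antisymm
      (Set.union_subset (Set.union_subset (U_subset g₁) (U_subset g₂)) (U_subset g₃))
      (fun y hy => hcon y hy))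
  obtain ⟨c₄, m₄, ε₄, u₄, nc₄, ha₄, hu₄, hN₄, hi₄, hx₄⟩ := class_data K hg₄
  have d14 := U_disjoint K hg₁ hg₄ (fun h => hg₄' (Or.inl (Or.inl h)))
  have d24 := U_disjoint K hg₂ hg₄ (fun h => hg₄' (Or.inl (Or.inr h)))
  have d34 := U_disjoint K hg₃ hg₄ (fun h => hg₄' (Or.inr h))
  have d1234 : Disjoint (U g₁ ∪ U g₂ ∪ U g₃) (U g₄) :=
    Set.disjoint_union_left.mpr ⟨Set.disjoint_union_left.mpr ⟨d14, d24⟩, d34⟩
  have hle : (U g₁ ∪ U g₂ ∪ U g₃ ∪ U g₄).ncard ≤ ((center Γ : Set Γ)ᶜ).ncard :=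
    Set.ncard_le_ncard (Set.union_subset
      (Set.union_subset (Set.union_subset (U_subset g₁) (U_subset g₂)) (U_subset g₃))
      (U_subset g₄))
  rw [Set.ncard_union_eq d1234, Set.ncard_union_eq d123, Set.ncard_union_eq d12, hu₁, hu₂, hu₃,
    hu₄] at hle
  have hle2 : Nat.card (center Γ) * (u₁ + u₂ + u₃ + u₄ + 1)
      ≤ Nat.card (center Γ) * (Nat.card Γ / Nat.card (center Γ)) := by
    rw [← htot]
    have : Nat.card (center Γ) * (u₁ + u₂ + u₃ + u₄ + 1)
        = Nat.card (center Γ) * u₁ + Nat.card (center Γ) * u₂ + Nat.card (center Γ) * u₃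
          + Nat.card (center Γ) * u₄ + Nat.card (center Γ) := by ring
    rw [this]
    omega
  exact num4 nc₁ nc₂ nc₃ nc₄ (Nat.le_of_mul_le_mul_left hle2 hζ)

end Cfsg.Agent.Lib.Helper12.Klein
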