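import Mathlib
import Cfsg.Agent.Lib.Helper12.FpfRing
import Cfsg.Agent.Lib.Helper12.Klein

/-!
Orders of fixed-point-free groups with central traces generated by elements of order three
(helper12): such a non-abelian group has order `24` or `120`.
-/

set_option autoImplicit false

namespace Cfsg.Agent.Lib.Helper12.TwoDimOrder

open Subgroup
open Cfsg.Agent.Lib.Helper12.FpfRing
open Cfsg.Agent.Lib.Helper12.Klein

theorem perm_eq_one_of_sign {α : Type*} [Fintype α] [DecidableEq α] (hα : Fintype.card α = 3)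
    (σ : Equiv.Perm α) (hs : Equiv.Perm.sign σ = 1) (i : α) (hi : σ i = i) : σ = 1 := by
  by_contra hne
  have h2 := Equiv.Perm.two_le_card_support_of_ne_one hne
  have hsub : σ.support ⊆ Finset.univ.erase i := by
    intro x hx
    rw [Finset.mem_erase]
    refine ⟨?_, Finset.mem_univ _⟩
    rintro rfl
    exact (Equiv.Perm.mem_support.mp hx) hi
  have hc : σ.support.card ≤ 2 := by
    have := Finset.card_le_card hsub
    rw [Finset.card_erase_of_mem (Finset.mem_univ _), Finset.card_univ, hα] at this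
    exact this
  have h3 : σ.support.card = 2 := le_antisymm hc h2
  have := (Equiv.Perm.card_support_eq_two.mp h3).sign_eq
  rw [hs] at this
  exact absurd this (by decide)

/-- A subgroup of index three of a group generated by elements of order three is normal. -/
theorem normal_of_index_three {Γ : Type*} [Group Γ] [Finite Γ] (P : Subgroup Γ)
    (hP : P.index = 3) (hgen : Subgroup.closure {x : Γ | x ^ 3 = 1} = ⊤) : P.Normal := by
  classical
  haveI : Fintype (Γ ⧸ P) := Fintype.ofFinite _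
  have hcard : Fintype.card (Γ ⧸ P) = 3 := by
    rw [← Nat.card_eq_fintype_card]; exact hP
  have hψ : ∀ g : Γ, Equiv.Perm.sign (MulAction.toPermHom Γ (Γ ⧸ P) g) = 1 := by
    have : Subgroup.closure {x : Γ | x ^ 3 = 1}
        ≤ (Equiv.Perm.sign.comp (MulAction.toPermHom Γ (Γ ⧸ P))).ker := by
      rw [Subgroup.closure_le]
      intro x hx
      rw [SetLike.mem_coe, MonoidHom.mem_ker]
      have h3 : ((Equiv.Perm.sign.comp (MulAction.toPermHom Γ (Γ ⧸ P))) x) ^ 3 = 1 := by
        rw [← map_pow, hx, map_one]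
      rcases Int.units_eq_one_or ((Equiv.Perm.sign.comp (MulAction.toPermHom Γ (Γ ⧸ P))) x)
        with h | h
      · exact h
      · rw [h] at h3; exact absurd h3 (by decide)
    intro g
    have h1 := this (by rw [hgen]; exact mem_top g)
    exact MonoidHom.mem_ker.mp h1
  have hP1 : ∀ y ∈ P, MulAction.toPermHom Γ (Γ ⧸ P) y = 1 := by
    intro y hy
    apply perm_eq_one_of_sign hcard _ (hψ y) (QuotientGroup.mk 1)
    show y • (QuotientGroup.mk 1 : Γ ⧸ P) = QuotientGroup.mk 1
    rw [MulAction.Quotient.smul_mk, QuotientGroup.eq]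
    simpa using hy
  constructor
  intro y hy k
  have h1 : MulAction.toPermHom Γ (Γ ⧸ P) (k * y * k⁻¹) = 1 := by
    rw [map_mul, map_mul, hP1 y hy, mul_one, ← map_mul, mul_inv_cancel, map_one]
  have h2 : (k * y * k⁻¹) • (QuotientGroup.mk 1 : Γ ⧸ P) = QuotientGroup.mk 1 := by
    have := congrArg (fun σ : Equiv.Perm (Γ ⧸ P) => σ (QuotientGroup.mk 1 : Γ ⧸ P)) h1
    simpa using this
  rw [MulAction.Quotient.smul_mk, QuotientGroup.eq] at h2
  have h3 : (k * y * k⁻¹)⁻¹ ∈ P := by simpa using h2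
  exact (inv_mem_iff).mp h3

variable {Γ : Type*} [Group Γ] {E : Type*} [Ring E] [Nontrivial E]

theorem center_iff {ρ : Γ →* E} (hf : IsFpfR ρ) (h2 : TwoDim ρ)
    (hna : ∃ a b : Γ, a * b ≠ b * a) (g : Γ) : g ∈ center Γ ↔ g ^ 2 = 1 := by
  constructor
  · intro hg
    by_contra hg2
    obtain ⟨a, b, hab⟩ := hna
    have ha : Commute a g := (mem_center_iff.mp hg a)
    have hb : Commute b g := (mem_center_iff.mp hg b)
    exact hab (comm_of_twoDim hf h2 hg2 ha hb).eq
  · intro hg
    rw [mem_center_iff]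
    intro k
    by_cases h1 : g = 1
    · rw [h1, mul_one, one_mul]
    · exact invol_central hf h1 hg k

theorem kh_of_twoDim {ρ : Γ →* E} (hf : IsFpfR ρ) (h2 : TwoDim ρ)
    (hna : ∃ a b : Γ, a * b ≠ b * a) : KH Γ :=
  ⟨fun g hg _ _ ha hb => comm_of_twoDim hf h2 ((center_iff hf h2 hna g).not.mp hg) ha hb,
    fun _ _ _ hc => conj_of_twoDim hf h2 hc⟩

/-- **Order theorem.** -/
theorem order_of_twoDim [Finite Γ] {ρ : Γ →* E} (hf : IsFpfR ρ) (h2 : TwoDim ρ)
    (hna : ∃ a b : Γ, a * b ≠ b * a) (hgen : Subgroup.closure {g : Γ | g ^ 3 = 1} = ⊤) :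
    (Nat.card Γ = 24 ∧ ∀ w : Γ, w ^ 4 = 1 ∨ w ^ 6 = 1) ∨
    (Nat.card Γ = 120 ∧ (∀ w : Γ, w ^ 4 = 1 ∨ w ^ 6 = 1 ∨ w ^ 10 = 1) ∧
      ∀ x : Γ, x ^ 2 ≠ 1 → ∃ v : Γ, v * x * v⁻¹ = x⁻¹ ∧ v ^ 4 = 1 ∧ v ^ 2 ≠ 1) := by
  have hZ := center_iff hf h2 hna
  have hK := kh_of_twoDim hf h2 hna
  have hnc : ∃ g : Γ, g ∉ center Γ := by
    obtain ⟨a, b, hab⟩ := hna
    refine ⟨a, fun ha => hab ?_⟩
    exact (mem_center_iff.mp ha b).symm
  have hk := klein hK hnc
  have heven : 2 ∣ Nat.card Γ := by
    rcases hk with ⟨g, -, h⟩ | ⟨h, -⟩ | ⟨h, -⟩ | ⟨h, -⟩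
    · exact ⟨_, h.symm⟩
    · rw [h]; exact ⟨6 * Nat.card (center Γ), by ring⟩
    · rw [h]; exact ⟨12 * Nat.card (center Γ), by ring⟩
    · rw [h]; exact ⟨30 * Nat.card (center Γ), by ring⟩
  haveI : Fact (Nat.Prime 2) := ⟨Nat.prime_two⟩
  obtain ⟨z, hz⟩ := exists_prime_orderOf_dvd_card' (G := Γ) 2 heven
  have hz1 : z ≠ 1 := by
    intro h; rw [h, orderOf_one] at hz; omega
  have hz2 : z ^ 2 = 1 := by rw [← hz]; exact pow_orderOf_eq_one z
  have hζ : Nat.card (center Γ) = 2 := by
    rw [Nat.card_eq_two_iff]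
    refine ⟨⟨1, one_mem _⟩, ⟨z, (hZ z).mpr hz2⟩, ?_, ?_⟩
    · intro h
      exact hz1 (congrArg Subtype.val h).symm
    · ext ⟨y, hy⟩
      simp only [Set.mem_insert_iff, Set.mem_singleton_iff, Set.mem_univ, iff_true]
      by_cases hy1 : y = 1
      · left; exact Subtype.ext hy1
      · right
        exact Subtype.ext (invol_unique hf hy1 ((hZ y).mp hy) hz1 hz2)
  rw [hζ] at hk
  have hpowc : ∀ w : Γ, w ^ Nat.card (centralizer ({w} : Set Γ)) = 1 := by
    intro w
    have hmem : w ∈ centralizer ({w} : Set Γ) := by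
      rw [mem_centralizer_singleton_iff]
    have := pow_card_eq_one' (G := centralizer ({w} : Set Γ)) (x := ⟨w, hmem⟩)
    exact congrArg Subtype.val this
  rcases hk with ⟨g, hg, h⟩ | ⟨h, hall⟩ | ⟨h, g, hg, hidx, hU⟩ | ⟨h, hall⟩
  · -- an abelian centralizer of index two
    exfalso
    have hi : (centralizer ({g} : Set Γ)).index = 2 := by
      have := card_mul_index (centralizer ({g} : Set Γ))
      have hpos : 0 < Nat.card (centralizer ({g} : Set Γ)) := Nat.card_pos
      rw [← h] at this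
      have e : Nat.card (centralizer ({g} : Set Γ)) * (centralizer ({g} : Set Γ)).index
          = Nat.card (centralizer ({g} : Set Γ)) * 2 := by rw [this]; ring
      exact Nat.eq_of_mul_eq_mul_left hpos e
    have hle : Subgroup.closure {x : Γ | x ^ 3 = 1} ≤ centralizer ({g} : Set Γ) := by
      rw [Subgroup.closure_le]
      intro x hx
      have h1 := mul_self_mem_of_index_two hi x⁻¹
      have h3 : x⁻¹ * x⁻¹ = x := by
        have hx' : x ^ 3 = 1 := hx
        rw [← mul_inv_rev, inv_eq_iff_mul_eq_one, ← pow_two, ← pow_succ]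
        exact hx'
      rw [h3] at h1
      exact h1
    rw [hgen, top_le_iff] at hle
    exact hg ((center_iff_centralizer g).mpr hle)
  · left
    refine ⟨by rw [h], ?_⟩
    intro w
    by_cases hw : w ^ 2 = 1
    · left
      have : w ^ 4 = (w ^ 2) ^ 2 := by rw [← pow_mul]
      rw [this, hw, one_pow]
    · have hw' : w ∉ center Γ := (hZ w).not.mpr hw
      have hpow := hpowc w
      rcases hall w hw' with e | e
      · left; rw [e] at hpow; exact hpow
      · right; rw [e] at hpow; exact hpow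
  · -- order 48 is impossible
    exfalso
    have hnorm := normal_of_index_three (Nsub g) hidx hgen
    have hcardP : Nat.card (Nsub g) = 16 := by
      have := card_mul_index (Nsub g)
      rw [hidx, h] at this
      omega
    have hsub : U g ⊆ ((Nsub g : Subgroup Γ) : Set Γ) \ (center Γ : Set Γ) := by
      intro y hy
      refine ⟨?_, U_subset g hy⟩
      obtain ⟨k, hk⟩ := hy
      have h1 : k * y * k⁻¹ ∈ Nsub g := by
        apply centralizer_le_Nsub g
        rw [mem_centralizer_singleton_iff]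
        exact hk.2.eq
      have h2 := hnorm.conj_mem _ h1 k⁻¹
      have e : k⁻¹ * (k * y * k⁻¹) * k⁻¹⁻¹ = y := by group
      rw [e] at h2
      exact h2
    have hcen : (center Γ : Set Γ) ⊆ ((Nsub g : Subgroup Γ) : Set Γ) :=
      (center_le_centralizer _).trans (centralizer_le_Nsub g)
    have h1 := Set.ncard_le_ncard hsub
    have h2 := Set.ncard_sdiff_add_ncard_of_subset hcen
    have e1 : ((Nsub g : Subgroup Γ) : Set Γ).ncard = 16 := by
      rw [← hcardP]; exact (Nat.card_coe_set_eq _).symm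
    have e2 : (center Γ : Set Γ).ncard = 2 := by
      rw [← hζ]; exact (Nat.card_coe_set_eq _).symm
    rw [e1, e2] at h2
    rw [hU] at h1
    omega
  · right
    refine ⟨by rw [h], ?_, ?_⟩
    · intro w
      by_cases hw : w ^ 2 = 1
      · left
        have : w ^ 4 = (w ^ 2) ^ 2 := by rw [← pow_mul]
        rw [this, hw, one_pow]
      · have hw' : w ∉ center Γ := (hZ w).not.mpr hw
        have hpow := hpowc w
        rcases (hall w hw').1 with e | e | e
        · left; rw [e] at hpow; exact hpow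
        · right; left; rw [e] at hpow; exact hpow
        · right; right; rw [e] at hpow; exact hpow
    · intro x hx
      have hx' : x ∉ center Γ := (hZ x).not.mpr hx
      obtain ⟨v, hv, hv'⟩ := (hall x hx').2
      have hv2 : v ^ 2 ≠ 1 := by
        intro hc
        exact hv (mem_center_iff.mp ((hZ v).mpr hc) x).symm
      refine ⟨v, hv', ?_, hv2⟩
      by_contra hv4
      have hvv : (v ^ 2) ^ 2 ≠ 1 := by
        rw [← pow_mul]; exact hv4
      have hnc2 : v ^ 2 ∉ center Γ := (hZ (v ^ 2)).not.mpr hvv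
      have c1 : Commute v (v ^ 2) := (Commute.refl v).pow_right 2
      have c2 : Commute x (v ^ 2) := by
        have e : v ^ 2 * x * (v ^ 2)⁻¹ = v * (v * x * v⁻¹) * v⁻¹ := by
          rw [pow_two]; group
        have e' : v * x⁻¹ * v⁻¹ = (v * x * v⁻¹)⁻¹ := by group
        rw [hv', e', hv', inv_inv] at e
        have : v ^ 2 * x = x * v ^ 2 := mul_inv_eq_iff_eq_mul.mp e
        exact this.symm
      exact hv (hK.h1 (v ^ 2) hnc2 v x c1 c2)

end Cfsg.Agent.Lib.Helper12.TwoDimOrder
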