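import Mathlib
import Cfsg.Agent.Lib.Helper12.FpfRing
import Cfsg.Agent.Lib.Helper12.TwoDimOrder
import Cfsg.Agent.Lib.Helper12.Frame

/-!
Two quaternion frames normalized by the same element of order three (helper12).

If `x` of order three permutes cyclically two frames `(s, t, st)` and `(s', t', s't')` of a
fixed-point-free group and `s'` is not in the group of the first frame, then the group generated
by `x` and the frames has order `120` and, after a cyclic relabelling, `2 s' = s + γ t + (1-γ) st`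
with `γ² = γ + 1`.  Consequently `x` permutes cyclically at most two frame groups.
-/

set_option autoImplicit false
set_option linter.unusedSimpArgs false
set_option linter.style.haveILetI false

namespace Cfsg.Agent.Lib.Helper12.Golden

open Cfsg.Agent.Lib.Helper12.FpfRing
open Cfsg.Agent.Lib.Helper12.Frame
open Cfsg.Agent.Lib.Helper12.TwoDimOrder

/-! ### numeric lemmas in a commutative ring -/

theorem golden_num {R : Type*} [CommRing R] (a b c : R) (h1 : a + b + c = 2)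
    (h2 : a * a + b * b + c * c = 4)
    (ha : a = -1 ∨ a * a + a - 1 = 0 ∨ a * a - a - 1 = 0)
    (hb : b = -1 ∨ b * b + b - 1 = 0 ∨ b * b - b - 1 = 0)
    (hc : c = -1 ∨ c * c + c - 1 = 0 ∨ c * c - c - 1 = 0) : (12 : R) = 0 := by
  rcases ha with ha | ha | ha <;> rcases hb with hb | hb | hb <;> rcases hc with hc | hc | hc <;>
    grind

theorem trace_zero {R : Type*} [CommRing R] (two : ∀ r : R, 2 * r = 0 → r = 0) (a b c : R)
    (h1 : a + b + c = 2) (h2 : a * a + b * b + c * c = 4) (hb0 : b * (b - 2) = 0 → b = 0)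
    (hc2 : c ≠ 2) : a ≠ 0 := by
  intro ha
  subst ha
  have h : 2 * (b * (b - 2)) = 0 := by
    linear_combination h2 - (c + 2 - b) * h1
  have hb := hb0 (two _ h)
  subst hb
  apply hc2
  linear_combination h1

theorem trace_num {R : Type*} [CommRing R] (two : ∀ r : R, 2 * r = 0 → r = 0) (a b c : R)
    (h1 : a + b + c = 2) (h2 : a * a + b * b + c * c = 4)
    (ha : a = 0 ∨ a = -1 ∨ a = 1 ∨ a * a + a - 1 = 0 ∨ a * a - a - 1 = 0)
    (hb : b = 0 ∨ b = -1 ∨ b = 1 ∨ b * b + b - 1 = 0 ∨ b * b - b - 1 = 0)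
    (hc : c = 0 ∨ c = -1 ∨ c = 1 ∨ c * c + c - 1 = 0 ∨ c * c - c - 1 = 0)
    (ha0 : a * (a - 2) = 0 → a = 0) (hb0 : b * (b - 2) = 0 → b = 0)
    (hc0 : c * (c - 2) = 0 → c = 0) (ha2 : a ≠ 2) (hb2 : b ≠ 2) (hc2 : c ≠ 2) :
    (a = 1 ∨ b = 1 ∨ c = 1) ∨ (12 : R) = 0 := by
  have na : a ≠ 0 := trace_zero two a b c h1 h2 hb0 hc2
  have nb : b ≠ 0 := trace_zero two b a c (by rw [← h1]; ring) (by rw [← h2]; ring) ha0 hc2
  have nc : c ≠ 0 := trace_zero two c a b (by rw [← h1]; ring) (by rw [← h2]; ring) ha0 hb2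
  rcases ha with ha | ha | ha | ha | ha
  · exact absurd ha na
  rotate_left
  · exact Or.inl (Or.inl ha)
  all_goals
    rcases hb with hb | hb | hb | hb | hb
    · exact absurd hb nb
    rotate_left
    · exact Or.inl (Or.inr (Or.inl hb))
    all_goals
      rcases hc with hc | hc | hc | hc | hc
      · exact absurd hc nc
      rotate_left
      · exact Or.inl (Or.inr (Or.inr hc))
      all_goals
        right
        apply golden_num a b c h1 h2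
        · first | exact Or.inl ha | exact Or.inr (Or.inl ha) | exact Or.inr (Or.inr ha)
        · first | exact Or.inl hb | exact Or.inr (Or.inl hb) | exact Or.inr (Or.inr hb)
        · first | exact Or.inl hc | exact Or.inr (Or.inl hc) | exact Or.inr (Or.inr hc)

theorem trace_num24 {R : Type*} [CommRing R] (two : ∀ r : R, 2 * r = 0 → r = 0) (a b c : R)
    (h1 : a + b + c = 2) (h2 : a * a + b * b + c * c = 4)
    (ha : a = 0 ∨ a = -1 ∨ a = 1) (hb : b = 0 ∨ b = -1 ∨ b = 1) (hc : c = 0 ∨ c = -1 ∨ c = 1)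
    (ha0 : a * (a - 2) = 0 → a = 0) (hb0 : b * (b - 2) = 0 → b = 0)
    (ha2 : a ≠ 2) (hb2 : b ≠ 2) (hc2 : c ≠ 2) : (12 : R) = 0 := by
  have na : a ≠ 0 := trace_zero two a b c h1 h2 hb0 hc2
  have nb : b ≠ 0 := trace_zero two b a c (by rw [← h1]; ring) (by rw [← h2]; ring) ha0 hc2
  have nc : c ≠ 0 := trace_zero two c a b (by rw [← h1]; ring) (by rw [← h2]; ring) ha0 hb2
  have ha' : a * a = 1 := by
    rcases ha with ha | ha | ha
    · exact absurd ha na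
    · rw [ha]; ring
    · rw [ha]; ring
  have hb' : b * b = 1 := by
    rcases hb with hb | hb | hb
    · exact absurd hb nb
    · rw [hb]; ring
    · rw [hb]; ring
  have hc' : c * c = 1 := by
    rcases hc with hc | hc | hc
    · exact absurd hc nc
    · rw [hc]; ring
    · rw [hc]; ring
  rw [ha', hb', hc'] at h2
  linear_combination (-12 : R) * h2

section Good

variable {Γ : Type*} [Group Γ] {E : Type*} [Ring E]

/-- `ρ w` is a quaternion with coefficients in `R`, and `ρ w⁻¹` is its conjugate. -/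
def Good (ρ : Γ →* E) (S T : E) (R : Subring E) (w : Γ) : Prop :=
  ∃ c₀ ∈ R, ∃ c₁ ∈ R, ∃ c₂ ∈ R, ∃ c₃ ∈ R,
    ρ w = qd S T c₀ c₁ c₂ c₃ ∧ ρ w⁻¹ = qd S T c₀ (-c₁) (-c₂) (-c₃)

theorem good_one (ρ : Γ →* E) (S T : E) (R : Subring E) : Good ρ S T R 1 := by
  refine ⟨1, R.one_mem, 0, R.zero_mem, 0, R.zero_mem, 0, R.zero_mem, ?_, ?_⟩
  · rw [map_one]; unfold qd; simp
  · rw [inv_one, map_one]; unfold qd; simp

theorem good_inv {ρ : Γ →* E} {S T : E} {R : Subring E} {w : Γ} (h : Good ρ S T R w) :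
    Good ρ S T R w⁻¹ := by
  obtain ⟨c₀, h₀, c₁, h₁, c₂, h₂, c₃, h₃, e, e'⟩ := h
  refine ⟨c₀, h₀, -c₁, R.neg_mem h₁, -c₂, R.neg_mem h₂, -c₃, R.neg_mem h₃, e', ?_⟩
  rw [inv_inv, neg_neg, neg_neg, neg_neg]; exact e

theorem good_mul {ρ : Γ →* E} {S T : E} {R : Subring E} (F : RF S T)
    (hRcomm : ∀ a ∈ R, ∀ b ∈ R, a * b = b * a) (hRcen : ∀ a ∈ R, Cen S T a) {w w' : Γ}
    (h : Good ρ S T R w) (h' : Good ρ S T R w') : Good ρ S T R (w * w') := by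
  obtain ⟨c₀, hc₀, c₁, hc₁, c₂, hc₂, c₃, hc₃, e, e'⟩ := h
  obtain ⟨d₀, hd₀, d₁, hd₁, d₂, hd₂, d₃, hd₃, f, f'⟩ := h'
  refine ⟨c₀ * d₀ - c₁ * d₁ - c₂ * d₂ - c₃ * d₃, ?_, c₀ * d₁ + c₁ * d₀ + c₂ * d₃ - c₃ * d₂, ?_,
    c₀ * d₂ - c₁ * d₃ + c₂ * d₀ + c₃ * d₁, ?_, c₀ * d₃ + c₁ * d₂ - c₂ * d₁ + c₃ * d₀, ?_, ?_, ?_⟩
  · exact R.sub_mem (R.sub_mem (R.sub_mem (R.mul_mem hc₀ hd₀) (R.mul_mem hc₁ hd₁))
      (R.mul_mem hc₂ hd₂)) (R.mul_mem hc₃ hd₃)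
  · exact R.sub_mem (R.add_mem (R.add_mem (R.mul_mem hc₀ hd₁) (R.mul_mem hc₁ hd₀))
      (R.mul_mem hc₂ hd₃)) (R.mul_mem hc₃ hd₂)
  · exact R.add_mem (R.add_mem (R.sub_mem (R.mul_mem hc₀ hd₂) (R.mul_mem hc₁ hd₃))
      (R.mul_mem hc₂ hd₀)) (R.mul_mem hc₃ hd₁)
  · exact R.add_mem (R.sub_mem (R.add_mem (R.mul_mem hc₀ hd₃) (R.mul_mem hc₁ hd₂))
      (R.mul_mem hc₂ hd₁)) (R.mul_mem hc₃ hd₀)
  · rw [map_mul, e, f]
    exact qd_mul F _ _ _ _ (hRcen _ hd₀) (hRcen _ hd₁) (hRcen _ hd₂) (hRcen _ hd₃)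
  · rw [mul_inv_rev, map_mul, f', e', qd_mul F _ _ _ _ (hRcen _ hc₀) (hRcen _ (R.neg_mem hc₁))
      (hRcen _ (R.neg_mem hc₂)) (hRcen _ (R.neg_mem hc₃))]
    have k00 := hRcomm d₀ hd₀ c₀ hc₀
    have k01 := hRcomm d₀ hd₀ c₁ hc₁
    have k02 := hRcomm d₀ hd₀ c₂ hc₂
    have k03 := hRcomm d₀ hd₀ c₃ hc₃
    have k10 := hRcomm d₁ hd₁ c₀ hc₀
    have k11 := hRcomm d₁ hd₁ c₁ hc₁
    have k12 := hRcomm d₁ hd₁ c₂ hc₂
    have k13 := hRcomm d₁ hd₁ c₃ hc₃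
    have k20 := hRcomm d₂ hd₂ c₀ hc₀
    have k21 := hRcomm d₂ hd₂ c₁ hc₁
    have k22 := hRcomm d₂ hd₂ c₂ hc₂
    have k23 := hRcomm d₂ hd₂ c₃ hc₃
    have k30 := hRcomm d₃ hd₃ c₀ hc₀
    have k31 := hRcomm d₃ hd₃ c₁ hc₁
    have k32 := hRcomm d₃ hd₃ c₂ hc₂
    have k33 := hRcomm d₃ hd₃ c₃ hc₃
    congr 1
    · simp only [mul_neg, neg_mul, neg_neg, k00, k01, k02, k03, k10, k11, k12, k13, k20, k21, k22,
        k23, k30, k31, k32, k33]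
    · simp only [mul_neg, neg_mul, neg_neg, k00, k01, k02, k03, k10, k11, k12, k13, k20, k21, k22,
        k23, k30, k31, k32, k33]
      abel
    · simp only [mul_neg, neg_mul, neg_neg, k00, k01, k02, k03, k10, k11, k12, k13, k20, k21, k22,
        k23, k30, k31, k32, k33]
      abel
    · simp only [mul_neg, neg_mul, neg_neg, k00, k01, k02, k03, k10, k11, k12, k13, k20, k21, k22,
        k23, k30, k31, k32, k33]
      abel

theorem twoDim_of_good {ρ : Γ →* E} {S T : E} {R : Subring E} (F : RF S T)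
    (hRcomm : ∀ a ∈ R, ∀ b ∈ R, a * b = b * a) (hRcen : ∀ a ∈ R, Cen S T a) {k : Set Γ}
    (hk : ∀ g ∈ k, Good ρ S T R g) : TwoDim (ρ.comp (Subgroup.closure k).subtype) := by
  have hall : ∀ w ∈ Subgroup.closure k, Good ρ S T R w := by
    intro w hw
    induction hw using Subgroup.closure_induction with
    | mem x hx => exact hk x hx
    | one => exact good_one ρ S T R
    | mul x y _ _ ihx ihy => exact good_mul F hRcomm hRcen ihx ihy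
    | inv x _ ih => exact good_inv ih
  intro w l
  obtain ⟨c₀, hc₀, c₁, hc₁, c₂, hc₂, c₃, hc₃, e, e'⟩ := hall w.1 w.2
  obtain ⟨d₀, hd₀, d₁, hd₁, d₂, hd₂, d₃, hd₃, f, -⟩ := hall l.1 l.2
  show Commute (ρ w.1 + ρ (w.1)⁻¹) (ρ l.1)
  rw [e, e', f, qd_add, add_neg_cancel, add_neg_cancel, add_neg_cancel]
  have e0 : qd S T (c₀ + c₀) 0 0 0 = c₀ + c₀ := by unfold qd; simp
  rw [e0]
  have hcc := R.add_mem hc₀ hc₀
  exact commute_qd (hRcen _ hcc) (hRcomm _ hcc _ hd₀) (hRcomm _ hcc _ hd₁) (hRcomm _ hcc _ hd₂)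
    (hRcomm _ hcc _ hd₃)

theorem closure_props {S T : E} {s : Set E} (hcomm : ∀ x ∈ s, ∀ y ∈ s, x * y = y * x)
    (hcen : ∀ x ∈ s, Cen S T x) :
    (∀ a ∈ Subring.closure s, ∀ b ∈ Subring.closure s, a * b = b * a) ∧
      (∀ a ∈ Subring.closure s, Cen S T a) := by
  have h1 : ∀ a ∈ Subring.closure s, ∀ y ∈ s, Commute a y := by
    intro a ha y hy
    induction ha using Subring.closure_induction with
    | mem x hx => exact hcomm x hx y hy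
    | zero => exact Commute.zero_left y
    | one => exact Commute.one_left y
    | add x z _ _ ihx ihz => exact ihx.add_left ihz
    | neg x _ ih => exact ih.neg_left
    | mul x z _ _ ihx ihz => exact ihx.mul_left ihz
  constructor
  · intro a ha b hb
    induction hb using Subring.closure_induction with
    | mem x hx => exact h1 a ha x hx
    | zero => exact Commute.zero_right a
    | one => exact Commute.one_right a
    | add x z _ _ ihx ihz => exact Commute.add_right ihx ihz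
    | neg x _ ih => exact Commute.neg_right ih
    | mul x z _ _ ihx ihz => exact Commute.mul_right ihx ihz
  · intro a ha
    induction ha using Subring.closure_induction with
    | mem x hx => exact hcen x hx
    | zero => exact Cen.zero S T
    | one => exact Cen.one S T
    | add x z _ _ ihx ihz => exact ihx.add ihz
    | neg x _ ih => exact ih.neg
    | mul x z _ _ ihx ihz => exact ihx.mul ihz

end Good

section Transfer

variable {E : Type*} [Ring E] [Nontrivial E]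

theorem comm3 {b₁ b₂ b₃ : E} (c12 : b₁ * b₂ = b₂ * b₁) (c23 : b₂ * b₃ = b₃ * b₂)
    (c31 : b₃ * b₁ = b₁ * b₃) :
    ∀ x ∈ ({b₁, b₂, b₃} : Set E), ∀ y ∈ ({b₁, b₂, b₃} : Set E), x * y = y * x := by
  intro x hx y hy
  simp only [Set.mem_insert_iff, Set.mem_singleton_iff] at hx hy
  rcases hx with rfl | rfl | rfl <;> rcases hy with rfl | rfl | rfl <;>
    first | rfl | assumption | (symm; assumption)

theorem unit12 (h2u : IsUnit (2 : E)) (h3u : IsUnit (3 : E)) : (12 : E) ≠ 0 := by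
  intro h12
  have : IsUnit (12 : E) := by
    have e : (12 : E) = 2 * 2 * 3 := by norm_num
    rw [e]; exact (h2u.mul h2u).mul h3u
  rw [h12] at this
  exact not_isUnit_zero this

theorem trace_E (h2u : IsUnit (2 : E)) (h3u : IsUnit (3 : E)) {b₁ b₂ b₃ : E}
    (c12 : b₁ * b₂ = b₂ * b₁) (c23 : b₂ * b₃ = b₃ * b₂) (c31 : b₃ * b₁ = b₁ * b₃)
    (hsum : b₁ + b₂ + b₃ = 1) (hsq : b₁ * b₁ + b₂ * b₂ + b₃ * b₃ = 1)
    (t₁ : b₁ + b₁ = 0 ∨ b₁ + b₁ = -1 ∨ b₁ + b₁ = 1 ∨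
      (b₁ + b₁) * (b₁ + b₁) + (b₁ + b₁) - 1 = 0 ∨ (b₁ + b₁) * (b₁ + b₁) - (b₁ + b₁) - 1 = 0)
    (t₂ : b₂ + b₂ = 0 ∨ b₂ + b₂ = -1 ∨ b₂ + b₂ = 1 ∨
      (b₂ + b₂) * (b₂ + b₂) + (b₂ + b₂) - 1 = 0 ∨ (b₂ + b₂) * (b₂ + b₂) - (b₂ + b₂) - 1 = 0)
    (t₃ : b₃ + b₃ = 0 ∨ b₃ + b₃ = -1 ∨ b₃ + b₃ = 1 ∨
      (b₃ + b₃) * (b₃ + b₃) + (b₃ + b₃) - 1 = 0 ∨ (b₃ + b₃) * (b₃ + b₃) - (b₃ + b₃) - 1 = 0)
    (z₁ : (b₁ + b₁) * (b₁ + b₁ - 2) = 0 → b₁ + b₁ = 0)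
    (z₂ : (b₂ + b₂) * (b₂ + b₂ - 2) = 0 → b₂ + b₂ = 0)
    (z₃ : (b₃ + b₃) * (b₃ + b₃ - 2) = 0 → b₃ + b₃ = 0)
    (n₁ : b₁ + b₁ ≠ 2) (n₂ : b₂ + b₂ ≠ 2) (n₃ : b₃ + b₃ ≠ 2) :
    b₁ + b₁ = 1 ∨ b₂ + b₂ = 1 ∨ b₃ + b₃ = 1 := by
  have hcomm := comm3 c12 c23 c31
  letI : CommRing (Subring.closure ({b₁, b₂, b₃} : Set E)) := Subring.closureCommRingOfComm hcomm
  have m₁ : b₁ ∈ Subring.closure ({b₁, b₂, b₃} : Set E) := Subring.subset_closure (by simp)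
  have m₂ : b₂ ∈ Subring.closure ({b₁, b₂, b₃} : Set E) := Subring.subset_closure (by simp)
  have m₃ : b₃ ∈ Subring.closure ({b₁, b₂, b₃} : Set E) := Subring.subset_closure (by simp)
  have two : ∀ r : Subring.closure ({b₁, b₂, b₃} : Set E), 2 * r = 0 → r = 0 := by
    intro r hr
    have : (2 : E) * (r : E) = 0 := congrArg Subtype.val hr
    exact Subtype.ext (h2u.mul_right_eq_zero.mp this)
  have h1 : (b₁ + b₁) + (b₂ + b₂) + (b₃ + b₃) = 2 := by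
    rw [← one_add_one_eq_two, ← hsum]; abel
  have h2 : (b₁ + b₁) * (b₁ + b₁) + (b₂ + b₂) * (b₂ + b₂) + (b₃ + b₃) * (b₃ + b₃) = 4 := by
    have e4 : (4 : E) = 1 + 1 + 1 + 1 := by norm_num
    rw [e4, ← hsq]; noncomm_ring
  have key := trace_num (R := Subring.closure ({b₁, b₂, b₃} : Set E)) two
    ⟨b₁ + b₁, add_mem m₁ m₁⟩ ⟨b₂ + b₂, add_mem m₂ m₂⟩ ⟨b₃ + b₃, add_mem m₃ m₃⟩
    (Subtype.ext h1) (Subtype.ext h2)
    (t₁.imp (fun h => Subtype.ext h) (Or.imp (fun h => Subtype.ext h)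
      (Or.imp (fun h => Subtype.ext h) (Or.imp (fun h => Subtype.ext h) (fun h => Subtype.ext h)))))
    (t₂.imp (fun h => Subtype.ext h) (Or.imp (fun h => Subtype.ext h)
      (Or.imp (fun h => Subtype.ext h) (Or.imp (fun h => Subtype.ext h) (fun h => Subtype.ext h)))))
    (t₃.imp (fun h => Subtype.ext h) (Or.imp (fun h => Subtype.ext h)
      (Or.imp (fun h => Subtype.ext h) (Or.imp (fun h => Subtype.ext h) (fun h => Subtype.ext h)))))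
    (fun h => Subtype.ext (z₁ (congrArg Subtype.val h)))
    (fun h => Subtype.ext (z₂ (congrArg Subtype.val h)))
    (fun h => Subtype.ext (z₃ (congrArg Subtype.val h)))
    (fun h => n₁ (congrArg Subtype.val h)) (fun h => n₂ (congrArg Subtype.val h))
    (fun h => n₃ (congrArg Subtype.val h))
  rcases key with (h | h | h) | h
  · exact Or.inl (congrArg Subtype.val h)
  · exact Or.inr (Or.inl (congrArg Subtype.val h))
  · exact Or.inr (Or.inr (congrArg Subtype.val h))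
  · exact absurd (congrArg Subtype.val h) (unit12 h2u h3u)

theorem trace_E24 (h2u : IsUnit (2 : E)) (h3u : IsUnit (3 : E)) {b₁ b₂ b₃ : E}
    (c12 : b₁ * b₂ = b₂ * b₁) (c23 : b₂ * b₃ = b₃ * b₂) (c31 : b₃ * b₁ = b₁ * b₃)
    (hsum : b₁ + b₂ + b₃ = 1) (hsq : b₁ * b₁ + b₂ * b₂ + b₃ * b₃ = 1)
    (t₁ : b₁ + b₁ = 0 ∨ b₁ + b₁ = -1 ∨ b₁ + b₁ = 1)
    (t₂ : b₂ + b₂ = 0 ∨ b₂ + b₂ = -1 ∨ b₂ + b₂ = 1)
    (t₃ : b₃ + b₃ = 0 ∨ b₃ + b₃ = -1 ∨ b₃ + b₃ = 1)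
    (z₁ : (b₁ + b₁) * (b₁ + b₁ - 2) = 0 → b₁ + b₁ = 0)
    (z₂ : (b₂ + b₂) * (b₂ + b₂ - 2) = 0 → b₂ + b₂ = 0)
    (n₁ : b₁ + b₁ ≠ 2) (n₂ : b₂ + b₂ ≠ 2) (n₃ : b₃ + b₃ ≠ 2) : False := by
  have hcomm := comm3 c12 c23 c31
  letI : CommRing (Subring.closure ({b₁, b₂, b₃} : Set E)) := Subring.closureCommRingOfComm hcomm
  have m₁ : b₁ ∈ Subring.closure ({b₁, b₂, b₃} : Set E) := Subring.subset_closure (by simp)
  have m₂ : b₂ ∈ Subring.closure ({b₁, b₂, b₃} : Set E) := Subring.subset_closure (by simp)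
  have m₃ : b₃ ∈ Subring.closure ({b₁, b₂, b₃} : Set E) := Subring.subset_closure (by simp)
  have two : ∀ r : Subring.closure ({b₁, b₂, b₃} : Set E), 2 * r = 0 → r = 0 := by
    intro r hr
    have : (2 : E) * (r : E) = 0 := congrArg Subtype.val hr
    exact Subtype.ext (h2u.mul_right_eq_zero.mp this)
  have h1 : (b₁ + b₁) + (b₂ + b₂) + (b₃ + b₃) = 2 := by
    rw [← one_add_one_eq_two, ← hsum]; abel
  have h2 : (b₁ + b₁) * (b₁ + b₁) + (b₂ + b₂) * (b₂ + b₂) + (b₃ + b₃) * (b₃ + b₃) = 4 := by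
    have e4 : (4 : E) = 1 + 1 + 1 + 1 := by norm_num
    rw [e4, ← hsq]; noncomm_ring
  have key := trace_num24 (R := Subring.closure ({b₁, b₂, b₃} : Set E)) two
    ⟨b₁ + b₁, add_mem m₁ m₁⟩ ⟨b₂ + b₂, add_mem m₂ m₂⟩ ⟨b₃ + b₃, add_mem m₃ m₃⟩
    (Subtype.ext h1) (Subtype.ext h2)
    (t₁.imp (fun h => Subtype.ext h) (Or.imp (fun h => Subtype.ext h) (fun h => Subtype.ext h)))
    (t₂.imp (fun h => Subtype.ext h) (Or.imp (fun h => Subtype.ext h) (fun h => Subtype.ext h)))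
    (t₃.imp (fun h => Subtype.ext h) (Or.imp (fun h => Subtype.ext h) (fun h => Subtype.ext h)))
    (fun h => Subtype.ext (z₁ (congrArg Subtype.val h)))
    (fun h => Subtype.ext (z₂ (congrArg Subtype.val h)))
    (fun h => n₁ (congrArg Subtype.val h)) (fun h => n₂ (congrArg Subtype.val h))
    (fun h => n₃ (congrArg Subtype.val h))
  exact absurd (congrArg Subtype.val key) (unit12 h2u h3u)

end Transfer

section Tau

variable {Γ : Type*} [Group Γ] {E : Type*} [Ring E] [Nontrivial E]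

theorem tau_ne_two {ρ : Γ →* E} (hf : IsFpfR ρ) {w : Γ} (hw : w ≠ 1) : ρ w + ρ w⁻¹ ≠ 2 := by
  intro h
  rw [← one_add_one_eq_two] at h
  have e : (ρ w - 1) * (ρ w - 1) = 0 := by
    calc (ρ w - 1) * (ρ w - 1) = ρ w * (ρ w + ρ w⁻¹) - ρ w * ρ w⁻¹ - ρ w - ρ w + 1 := by
          noncomm_ring
      _ = ρ w * (1 + 1) - 1 - ρ w - ρ w + 1 := by rw [h, rho_mul_inv]
      _ = 0 := by noncomm_ring
  have h1 := (hf w hw).mul_right_eq_zero.mp e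
  have h2 := hf w hw
  rw [h1] at h2
  exact not_isUnit_zero h2

theorem tau_zero_of {ρ : Γ →* E} (hf : IsFpfR ρ) {w : Γ} (hw : w ≠ 1)
    (h : (ρ w + ρ w⁻¹) * (ρ w + ρ w⁻¹ - 2) = 0) : ρ w + ρ w⁻¹ = 0 := by
  rw [← one_add_one_eq_two] at h
  have r1 := rho_mul_inv ρ w
  have r2 := rho_inv_mul ρ w
  have r1' : ∀ X, ρ w * (ρ w⁻¹ * X) = X := fun X => by rw [← mul_assoc, r1, one_mul]
  have r2' : ∀ X, ρ w⁻¹ * (ρ w * X) = X := fun X => by rw [← mul_assoc, r2, one_mul]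
  have e : (ρ w * ρ w + 1) * ((ρ w - 1) * (ρ w - 1))
      = (ρ w + ρ w⁻¹) * (ρ w + ρ w⁻¹ - (1 + 1)) * (ρ w * ρ w) := by
    simp only [mul_add, add_mul, mul_sub, sub_mul, mul_one, one_mul, mul_assoc, r1, r2, r1', r2']
    abel
  rw [h, zero_mul] at e
  have hu : IsUnit ((ρ w - 1) * (ρ w - 1)) := (hf w hw).mul (hf w hw)
  have e2 := hu.mul_left_eq_zero.mp e
  have e3 : ρ w * ρ w = -1 := eq_neg_of_add_eq_zero_left e2
  have e4 : ρ w⁻¹ = -ρ w := by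
    have : ρ w⁻¹ = ρ w⁻¹ * (-(ρ w * ρ w)) := by rw [e3, neg_neg, mul_one]
    rw [this, mul_neg, ← mul_assoc, r2, one_mul]
  rw [e4]; abel

theorem tau_w {ρ : Γ →* E} (hf : IsFpfR ρ) {s' q : Γ} (hs2 : s' ^ 2 ≠ 1) (hs4 : s' ^ 4 = 1)
    (hq2 : q ^ 2 ≠ 1) (hq4 : q ^ 4 = 1) :
    ρ (s' * q⁻¹) + ρ (s' * q⁻¹)⁻¹ = -(ρ s' * ρ q + ρ q * ρ s') := by
  rw [mul_inv_rev, inv_inv, map_mul, map_mul, inv_of_four hf hq2 hq4, inv_of_four hf hs2 hs4]
  noncomm_ring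

end Tau

section GoldenCore

variable {Γ : Type*} [Group Γ] {E : Type*} [Ring E] [Nontrivial E]

/-- A group frame: `s` of order four such that `s`, `t = x s x⁻¹`, `x t x⁻¹ = s t` form a
quaternion frame. -/
structure IsFrame (x s : Γ) : Prop where
  h4 : s ^ 4 = 1
  h2 : s ^ 2 ≠ 1
  hts : (x * s * x⁻¹) * s * (x * s * x⁻¹)⁻¹ = s⁻¹
  hu : x * (x * s * x⁻¹) * x⁻¹ = s * (x * s * x⁻¹)

omit [Nontrivial E] in
theorem IsFrame.t4 {x s : Γ} (fs : IsFrame x s) : (x * s * x⁻¹) ^ 4 = 1 := by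
  rw [conj_pow, fs.h4]; group

omit [Nontrivial E] in
theorem IsFrame.t2 {x s : Γ} (fs : IsFrame x s) : (x * s * x⁻¹) ^ 2 ≠ 1 := by
  rw [conj_pow]
  intro h
  exact fs.h2 (conj_eq_one_iff.mp h)

omit [Nontrivial E] in
theorem IsFrame.u4 {x s : Γ} (fs : IsFrame x s) : (s * (x * s * x⁻¹)) ^ 4 = 1 := by
  rw [← fs.hu, conj_pow, fs.t4]; group

omit [Nontrivial E] in
theorem IsFrame.u2 {x s : Γ} (fs : IsFrame x s) : (s * (x * s * x⁻¹)) ^ 2 ≠ 1 := by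
  rw [← fs.hu, conj_pow]
  intro h
  exact fs.t2 (conj_eq_one_iff.mp h)

omit [Nontrivial E] in
theorem IsFrame.shift {x s : Γ} (fs : IsFrame x s) : IsFrame x (x * s * x⁻¹) := by
  refine ⟨fs.t4, fs.t2, ?_, ?_⟩
  · have e : x * (x * s * x⁻¹) * x⁻¹ * (x * s * x⁻¹) * (x * (x * s * x⁻¹) * x⁻¹)⁻¹
        = x * ((x * s * x⁻¹) * s * (x * s * x⁻¹)⁻¹) * x⁻¹ := by group
    rw [e, fs.hts]; group
  · have e : x * (s * (x * s * x⁻¹)) * x⁻¹ = (x * s * x⁻¹) * (x * (x * s * x⁻¹) * x⁻¹) := by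
      group
    rw [fs.hu, e, fs.hu]

theorem IsFrame.rf {ρ : Γ →* E} (hf : IsFpfR ρ) {x s : Γ} (fs : IsFrame x s) :
    RF (ρ s) (ρ (x * s * x⁻¹)) := by
  refine ⟨sq_of_four hf fs.h2 fs.h4, sq_of_four hf fs.t2 fs.t4, ?_⟩
  have e : (x * s * x⁻¹) * s = s⁻¹ * (x * s * x⁻¹) := mul_inv_eq_iff_eq_mul.mp fs.hts
  rw [← map_mul, e, map_mul, inv_of_four hf fs.h2 fs.h4, neg_mul]

omit [Nontrivial E] in
theorem frame_xs (ρ : Γ →* E) (x s : Γ) : ρ x * ρ s = ρ (x * s * x⁻¹) * ρ x := by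
  rw [← map_mul, ← map_mul, inv_mul_cancel_right]

omit [Nontrivial E] in
theorem IsFrame.xt (ρ : Γ →* E) {x s : Γ} (fs : IsFrame x s) :
    ρ x * ρ (x * s * x⁻¹) = ρ s * ρ (x * s * x⁻¹) * ρ x := by
  rw [← map_mul, ← map_mul, ← map_mul, ← fs.hu, inv_mul_cancel_right]

/-- The group of a frame. -/
def Qs (x s : Γ) : Subgroup Γ := Subgroup.closure {s, x * s * x⁻¹}

/-- The group generated by `x` and two frames, given by generators of order three. -/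
def Mg (x s s' : Γ) : Subgroup Γ := Subgroup.closure {x, s * x * s⁻¹, s' * x * s'⁻¹}

omit [Nontrivial E] in
theorem s_mem_Qs (x s : Γ) : s ∈ Qs x s := Subgroup.subset_closure (by simp)

omit [Nontrivial E] in
theorem t_mem_Qs (x s : Γ) : x * s * x⁻¹ ∈ Qs x s := Subgroup.subset_closure (by simp)

omit [Nontrivial E] in
theorem x_mem_Mg (x s s' : Γ) : x ∈ Mg x s s' := Subgroup.subset_closure (by simp)

omit [Nontrivial E] in
theorem frame_mem_aux {x s : Γ} (fs : IsFrame x s) (M : Subgroup Γ) (hx : x ∈ M)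
    (hy : s * x * s⁻¹ ∈ M) : s ∈ M := by
  have e : s⁻¹ = x * (s * x * s⁻¹ * x⁻¹) * x⁻¹ := by
    have e1 : x * (s * x * s⁻¹ * x⁻¹) * x⁻¹
        = (x * s * x⁻¹) * (x * (x * s * x⁻¹) * x⁻¹)⁻¹ := by group
    rw [e1, fs.hu]; group
  have h : s⁻¹ ∈ M := by
    rw [e]; exact mul_mem (mul_mem hx (mul_mem hy (inv_mem hx))) (inv_mem hx)
  exact inv_mem_iff.mp h

omit [Nontrivial E] in
theorem s_mem_Mg {x s : Γ} (s' : Γ) (fs : IsFrame x s) : s ∈ Mg x s s' :=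
  frame_mem_aux fs _ (x_mem_Mg x s s') (Subgroup.subset_closure (by simp))

omit [Nontrivial E] in
theorem s'_mem_Mg {x s' : Γ} (s : Γ) (fs' : IsFrame x s') : s' ∈ Mg x s s' :=
  frame_mem_aux fs' _ (x_mem_Mg x s s') (Subgroup.subset_closure (by simp))

omit [Nontrivial E] in
theorem Qs_le {x s : Γ} {M : Subgroup Γ} (hx : x ∈ M) (hs : s ∈ M) : Qs x s ≤ M := by
  unfold Qs
  rw [Subgroup.closure_le]
  intro y hy
  rcases hy with rfl | hy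
  · exact hs
  · rw [Set.mem_singleton_iff] at hy
    rw [hy]
    exact mul_mem (mul_mem hx hs) (inv_mem hx)

theorem w_sq_ne {ρ : Γ →* E} (hf : IsFpfR ρ) {x s s' q : Γ} (fs : IsFrame x s)
    (hq : q ∈ Qs x s) (hne : s' ∉ Qs x s) : (s' * q⁻¹) ^ 2 ≠ 1 := by
  intro h
  by_cases h1 : s' * q⁻¹ = 1
  · apply hne
    rw [mul_inv_eq_one.mp h1]; exact hq
  · have hz2 : (s ^ 2) ^ 2 = 1 := by rw [← pow_mul]; exact fs.h4
    have h3 := invol_unique hf h1 h fs.h2 hz2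
    apply hne
    have h4 : s' = s ^ 2 * q := by rw [← h3]; group
    rw [h4]
    exact mul_mem (pow_mem (s_mem_Qs x s) 2) hq

/-- **Golden step.** -/
theorem golden_core [Finite Γ] {ρ : Γ →* E} (hf : IsFpfR ρ) {x s s' : Γ} (hx1 : x ≠ 1)
    (hx3 : x ^ 3 = 1) (fs : IsFrame x s) (fs' : IsFrame x s') (hne : s' ∉ Qs x s) :
    Nat.card (Mg x s s') = 120 ∧
    ∃ b₁ b₂ b₃ : E, Cen (ρ s) (ρ (x * s * x⁻¹)) b₁ ∧ Cen (ρ s) (ρ (x * s * x⁻¹)) b₂ ∧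
      Cen (ρ s) (ρ (x * s * x⁻¹)) b₃ ∧ b₁ + b₂ + b₃ = 1 ∧
      b₁ * b₁ + b₂ * b₂ + b₃ * b₃ = 1 ∧
      ρ s' = qd (ρ s) (ρ (x * s * x⁻¹)) 0 b₁ b₂ b₃ ∧
      ρ (x * s' * x⁻¹) = qd (ρ s) (ρ (x * s * x⁻¹)) 0 b₃ b₁ b₂ ∧
      ρ s' * ρ (x * s' * x⁻¹) = qd (ρ s) (ρ (x * s * x⁻¹)) 0 b₂ b₃ b₁ ∧
      (b₁ + b₁ = 1 ∨ b₂ + b₂ = 1 ∨ b₃ + b₃ = 1) := by
  have F := fs.rf hf
  have F' := fs'.rf hf
  have h2u : IsUnit (2 : E) := two_unit hf fs.h2 (by rw [← pow_mul]; exact fs.h4)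
  have h3u : IsUnit (3 : E) := three_unit hf hx1 hx3
  have hX := sq_of_cube hf hx1 hx3
  obtain ⟨b₁, b₂, b₃, g₁, g₂, g₃, c12, c23, c31, hsum, hsq, hS', hT', hU'⟩ :=
    frame_two F F' h2u h3u hX (frame_xs ρ x s) (fs.xt ρ) (frame_xs ρ x s') (fs'.xt ρ)
  obtain ⟨a₁, a₂, a₃⟩ := anti F g₁ g₂ g₃
  rw [← hS'] at a₁ a₂ a₃
  obtain ⟨h, hh, hc⟩ := exists_half h2u
  have hcenh : Cen (ρ s) (ρ (x * s * x⁻¹)) h := ⟨hc _, hc _⟩
  -- the coefficient ring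
  have hcomm : ∀ a ∈ ({b₁, b₂, b₃, h} : Set E), ∀ b ∈ ({b₁, b₂, b₃, h} : Set E),
      a * b = b * a := by
    intro a ha b hb
    simp only [Set.mem_insert_iff, Set.mem_singleton_iff] at ha hb
    rcases ha with rfl | rfl | rfl | rfl <;> rcases hb with rfl | rfl | rfl | rfl <;>
      first | rfl | assumption | (symm; assumption) | exact hc _ | exact (hc _).symm
  have hcen : ∀ a ∈ ({b₁, b₂, b₃, h} : Set E), Cen (ρ s) (ρ (x * s * x⁻¹)) a := by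
    intro a ha
    simp only [Set.mem_insert_iff, Set.mem_singleton_iff] at ha
    rcases ha with rfl | rfl | rfl | rfl <;> assumption
  obtain ⟨hRcomm, hRcen⟩ := closure_props hcomm hcen
  have mb₁ : b₁ ∈ Subring.closure ({b₁, b₂, b₃, h} : Set E) := Subring.subset_closure (by simp)
  have mb₂ : b₂ ∈ Subring.closure ({b₁, b₂, b₃, h} : Set E) := Subring.subset_closure (by simp)
  have mb₃ : b₃ ∈ Subring.closure ({b₁, b₂, b₃, h} : Set E) := Subring.subset_closure (by simp)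
  have mh : h ∈ Subring.closure ({b₁, b₂, b₃, h} : Set E) := Subring.subset_closure (by simp)
  have hXq := frame_x_qd hh (frame_x F h2u hX (frame_xs ρ x s) (fs.xt ρ))
  have gx : Good ρ (ρ s) (ρ (x * s * x⁻¹)) (Subring.closure ({b₁, b₂, b₃, h} : Set E)) x := by
    refine ⟨-h, neg_mem mh, -h, neg_mem mh, -h, neg_mem mh, -h, neg_mem mh, hXq, ?_⟩
    rw [inv_of_cube hf hx1 hx3, hXq]
    unfold qd
    simp only [neg_neg, neg_mul]
    have e1 : (1 : E) = h + h := hh.symm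
    rw [e1]
    abel
  have gs : Good ρ (ρ s) (ρ (x * s * x⁻¹)) (Subring.closure ({b₁, b₂, b₃, h} : Set E)) s := by
    refine ⟨0, zero_mem _, 1, one_mem _, 0, zero_mem _, 0, zero_mem _, qd_S _ _, ?_⟩
    rw [inv_of_four hf fs.h2 fs.h4]
    unfold qd
    simp
  have gs' : Good ρ (ρ s) (ρ (x * s * x⁻¹)) (Subring.closure ({b₁, b₂, b₃, h} : Set E)) s' := by
    refine ⟨0, zero_mem _, b₁, mb₁, b₂, mb₂, b₃, mb₃, hS', ?_⟩
    rw [inv_of_four hf fs'.h2 fs'.h4, hS', qd_neg, neg_zero]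
  have hk : ∀ g ∈ ({x, s * x * s⁻¹, s' * x * s'⁻¹} : Set Γ),
      Good ρ (ρ s) (ρ (x * s * x⁻¹)) (Subring.closure ({b₁, b₂, b₃, h} : Set E)) g := by
    intro g hg
    rcases hg with rfl | rfl | hg
    · exact gx
    · exact good_mul F hRcomm hRcen (good_mul F hRcomm hRcen gs gx) (good_inv gs)
    · rw [Set.mem_singleton_iff] at hg
      rw [hg]
      exact good_mul F hRcomm hRcen (good_mul F hRcomm hRcen gs' gx) (good_inv gs')
  have h2d : TwoDim (ρ.comp (Mg x s s').subtype) := twoDim_of_good F hRcomm hRcen hk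
  have mx := x_mem_Mg x s s'
  have ms := s_mem_Mg s' fs
  have ms' := s'_mem_Mg s fs'
  have mt : x * s * x⁻¹ ∈ Mg x s s' := mul_mem (mul_mem mx ms) (inv_mem mx)
  have hna : ∃ a b : Mg x s s', a * b ≠ b * a := by
    refine ⟨⟨x * s * x⁻¹, mt⟩, ⟨s, ms⟩, fun hab => ?_⟩
    have hab' : (x * s * x⁻¹) * s = s * (x * s * x⁻¹) := congrArg Subtype.val hab
    have h1 := fs.hts
    rw [hab', mul_inv_cancel_right] at h1
    apply fs.h2
    rw [pow_two]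
    exact mul_eq_one_iff_eq_inv.mpr h1
  have hgen : Subgroup.closure {g : Mg x s s' | g ^ 3 = 1} = ⊤ := by
    have h0 := Subgroup.closure_closure_coe_preimage
      (k := ({x, s * x * s⁻¹, s' * x * s'⁻¹} : Set Γ))
    rw [eq_top_iff]
    have hsub : ((↑) : Subgroup.closure ({x, s * x * s⁻¹, s' * x * s'⁻¹} : Set Γ) → Γ) ⁻¹'
        ({x, s * x * s⁻¹, s' * x * s'⁻¹} : Set Γ) ⊆ {g : Mg x s s' | g ^ 3 = 1} := by
      rintro ⟨g, hg⟩ hgk
      have hgk' : g ∈ ({x, s * x * s⁻¹, s' * x * s'⁻¹} : Set Γ) := hgk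
      have h3 : g ^ 3 = 1 := by
        rcases hgk' with rfl | rfl | hgk'
        · exact hx3
        · rw [conj_pow, hx3]; group
        · rw [Set.mem_singleton_iff] at hgk'
          rw [hgk', conj_pow, hx3]; group
      exact Subtype.ext h3
    exact h0.symm.le.trans (Subgroup.closure_mono hsub)
  have hord := order_of_twoDim (fpf_comp hf (Mg x s s')) h2d hna hgen
  -- the three traces
  have ms_Q := s_mem_Qs x s
  have mt_Q := t_mem_Qs x s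
  have mu_Q : s * (x * s * x⁻¹) ∈ Qs x s := mul_mem ms_Q mt_Q
  have n₁ := w_sq_ne hf fs ms_Q hne
  have n₂ := w_sq_ne hf fs mt_Q hne
  have n₃ := w_sq_ne hf fs mu_Q hne
  have τ₁ : ρ (s' * s⁻¹) + ρ (s' * s⁻¹)⁻¹ = b₁ + b₁ := by
    rw [tau_w hf fs'.h2 fs'.h4 fs.h2 fs.h4, a₁, neg_neg]
  have τ₂ : ρ (s' * (x * s * x⁻¹)⁻¹) + ρ (s' * (x * s * x⁻¹)⁻¹)⁻¹ = b₂ + b₂ := by
    rw [tau_w hf fs'.h2 fs'.h4 fs.t2 fs.t4, a₂, neg_neg]
  have τ₃ : ρ (s' * (s * (x * s * x⁻¹))⁻¹) + ρ (s' * (s * (x * s * x⁻¹))⁻¹)⁻¹ = b₃ + b₃ := by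
    rw [tau_w hf fs'.h2 fs'.h4 fs.u2 fs.u4, map_mul, a₃, neg_neg]
  have one_ne : ∀ w : Γ, w ^ 2 ≠ 1 → w ≠ 1 := by
    intro w hw h1
    exact hw (by rw [h1, one_pow])
  have z₁ : (b₁ + b₁) * (b₁ + b₁ - 2) = 0 → b₁ + b₁ = 0 := by
    rw [← τ₁]; exact tau_zero_of hf (one_ne _ n₁)
  have z₂ : (b₂ + b₂) * (b₂ + b₂ - 2) = 0 → b₂ + b₂ = 0 := by
    rw [← τ₂]; exact tau_zero_of hf (one_ne _ n₂)
  have z₃ : (b₃ + b₃) * (b₃ + b₃ - 2) = 0 → b₃ + b₃ = 0 := by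
    rw [← τ₃]; exact tau_zero_of hf (one_ne _ n₃)
  have k₁ : b₁ + b₁ ≠ 2 := by
    rw [← τ₁]; exact tau_ne_two hf (one_ne _ n₁)
  have k₂ : b₂ + b₂ ≠ 2 := by
    rw [← τ₂]; exact tau_ne_two hf (one_ne _ n₂)
  have k₃ : b₃ + b₃ ≠ 2 := by
    rw [← τ₃]; exact tau_ne_two hf (one_ne _ n₃)
  have mw₁ : s' * s⁻¹ ∈ Mg x s s' := mul_mem ms' (inv_mem ms)
  have mw₂ : s' * (x * s * x⁻¹)⁻¹ ∈ Mg x s s' := mul_mem ms' (inv_mem mt)
  have mw₃ : s' * (s * (x * s * x⁻¹))⁻¹ ∈ Mg x s s' := mul_mem ms' (inv_mem (mul_mem ms mt))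
  rcases hord with ⟨h24, hw⟩ | ⟨h120, hw, -⟩
  · exfalso
    have t24 : ∀ w : Γ, w ∈ Mg x s s' → w ^ 2 ≠ 1 →
        ρ w + ρ w⁻¹ = 0 ∨ ρ w + ρ w⁻¹ = -1 ∨ ρ w + ρ w⁻¹ = 1 := by
      intro w hwM hw2
      rcases hw ⟨w, hwM⟩ with h4 | h6
      · have h4' : w ^ 4 = 1 := congrArg Subtype.val h4
        exact Or.inl (tau_four hf hw2 h4')
      · have h6' : w ^ 6 = 1 := congrArg Subtype.val h6
        by_cases h3 : w ^ 3 = 1
        · exact Or.inr (Or.inl (tau_three hf (one_ne _ hw2) h3))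
        · exact Or.inr (Or.inr (tau_six hf hw2 h6' h3))
    have t₁ := t24 _ mw₁ n₁
    have t₂ := t24 _ mw₂ n₂
    have t₃ := t24 _ mw₃ n₃
    rw [τ₁] at t₁
    rw [τ₂] at t₂
    rw [τ₃] at t₃
    exact trace_E24 h2u h3u c12 c23 c31 hsum hsq t₁ t₂ t₃ z₁ z₂ k₁ k₂ k₃
  · refine ⟨h120, b₁, b₂, b₃, g₁, g₂, g₃, hsum, hsq, hS', hT', hU', ?_⟩
    have t120 : ∀ w : Γ, w ∈ Mg x s s' → w ^ 2 ≠ 1 →
        ρ w + ρ w⁻¹ = 0 ∨ ρ w + ρ w⁻¹ = -1 ∨ ρ w + ρ w⁻¹ = 1 ∨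
        (ρ w + ρ w⁻¹) * (ρ w + ρ w⁻¹) + (ρ w + ρ w⁻¹) - 1 = 0 ∨
        (ρ w + ρ w⁻¹) * (ρ w + ρ w⁻¹) - (ρ w + ρ w⁻¹) - 1 = 0 := by
      intro w hwM hw2
      apply tau_cases hf hw2
      rcases hw ⟨w, hwM⟩ with h4 | h6 | h10
      · exact Or.inl (congrArg Subtype.val h4)
      · exact Or.inr (Or.inl (congrArg Subtype.val h6))
      · exact Or.inr (Or.inr (congrArg Subtype.val h10))
    have t₁ := t120 _ mw₁ n₁
    have t₂ := t120 _ mw₂ n₂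
    have t₃ := t120 _ mw₃ n₃
    rw [τ₁] at t₁
    rw [τ₂] at t₂
    rw [τ₃] at t₃
    exact trace_E h2u h3u c12 c23 c31 hsum hsq t₁ t₂ t₃ z₁ z₂ z₃ k₁ k₂ k₃

end GoldenCore

end Cfsg.Agent.Lib.Helper12.Golden
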