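import Mathlib
import Cfsg.Agent.Lib.Helper12.FpfRing
import Cfsg.Agent.Lib.Helper12.TwoDimOrder
import Cfsg.Agent.Lib.Helper12.Frame
import Cfsg.Agent.Lib.Helper12.Golden

/-!
At most two frame groups for an element of order three (helper12).

Normal form of a second frame relative to a first one (golden ratio coordinates) and the
consequence that an element of order three of a fixed-point-free group cannot permute cyclically
three frames generating pairwise different groups.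
-/

set_option autoImplicit false
set_option linter.unusedSimpArgs false
set_option linter.style.haveILetI false

namespace Cfsg.Agent.Lib.Helper12.GoldenK

open Cfsg.Agent.Lib.Helper12.FpfRing
open Cfsg.Agent.Lib.Helper12.Frame
open Cfsg.Agent.Lib.Helper12.TwoDimOrder
open Cfsg.Agent.Lib.Helper12.Golden

section Normal

variable {Γ : Type*} [Group Γ] {E : Type*} [Ring E] [Nontrivial E]

omit [Nontrivial E] in
theorem Qs_conj {x s : Γ} (fs : IsFrame x s) {y : Γ} (hy : y ∈ Qs x s) :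
    x * y * x⁻¹ ∈ Qs x s := by
  unfold Qs at hy ⊢
  induction hy using Subgroup.closure_induction with
  | mem z hz =>
    rcases hz with rfl | hz
    · exact Subgroup.subset_closure (by simp)
    · rw [Set.mem_singleton_iff] at hz
      rw [hz, fs.hu]
      exact mul_mem (Subgroup.subset_closure (by simp)) (Subgroup.subset_closure (by simp))
  | one => simp
  | mul a b _ _ iha ihb =>
    have e : x * (a * b) * x⁻¹ = (x * a * x⁻¹) * (x * b * x⁻¹) := by group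
    rw [e]; exact mul_mem iha ihb
  | inv a _ ih =>
    have e : x * a⁻¹ * x⁻¹ = (x * a * x⁻¹)⁻¹ := by group
    rw [e]; exact inv_mem ih

omit [Nontrivial E] in
theorem Qs_le_of {x s : Γ} {Q : Subgroup Γ} (hs : s ∈ Q) (ht : x * s * x⁻¹ ∈ Q) : Qs x s ≤ Q := by
  unfold Qs
  rw [Subgroup.closure_le]
  intro y hy
  rcases hy with rfl | hy
  · exact hs
  · rw [Set.mem_singleton_iff] at hy
    rw [hy]; exact ht

omit [Nontrivial E] in
theorem Qs_shift {x s : Γ} (fs : IsFrame x s) : Qs x (x * s * x⁻¹) = Qs x s := by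
  apply le_antisymm
  · apply Qs_le_of (t_mem_Qs x s)
    rw [fs.hu]
    exact mul_mem (s_mem_Qs x s) (t_mem_Qs x s)
  · apply Qs_le_of _ (s_mem_Qs x _)
    have hmem : (x * (x * s * x⁻¹) * x⁻¹) * (x * s * x⁻¹)⁻¹ ∈ Qs x (x * s * x⁻¹) :=
      mul_mem (t_mem_Qs x _) (inv_mem (s_mem_Qs x _))
    have e : (x * (x * s * x⁻¹) * x⁻¹) * (x * s * x⁻¹)⁻¹ = s := by
      rw [fs.hu]; group
    rw [e] at hmem
    exact hmem

omit [Nontrivial E] in
theorem conj3 {x : Γ} (hx3 : x ^ 3 = 1) (g : Γ) :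
    x * (x * (x * g * x⁻¹) * x⁻¹) * x⁻¹ = g := by
  have h1 : x * x * x = 1 := by rw [← hx3]; simp [pow_succ]
  have e : x * (x * (x * g * x⁻¹) * x⁻¹) * x⁻¹ = (x * x * x) * g * (x * x * x)⁻¹ := by group
  rw [e, h1]; group

omit [Nontrivial E] in
theorem gold_rel (h2u : IsUnit (2 : E)) {p q r : E} (hsum : p + q + r = 1)
    (hsq : p * p + q * q + r * r = 1) (hp : p + p = 1) :
    (q + q) * (q + q) = (q + q) + 1 ∧ r + r = 1 - (q + q) := by
  have hr : r + r = 1 - (q + q) := by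
    have e1 : (p + p) + (q + q) + (r + r) = 1 + 1 := by
      have : (p + p) + (q + q) + (r + r) = (p + q + r) + (p + q + r) := by abel
      rw [this, hsum]
    have e2 : r + r = ((p + p) + (q + q) + (r + r)) - (p + p) - (q + q) := by abel
    rw [e2, e1, hp]; abel
  refine ⟨?_, hr⟩
  have e : (p + p) * (p + p) + (q + q) * (q + q) + (r + r) * (r + r) = 1 + 1 + 1 + 1 := by
    have : (p + p) * (p + p) + (q + q) * (q + q) + (r + r) * (r + r)
        = (p * p + q * q + r * r) + (p * p + q * q + r * r) + (p * p + q * q + r * r)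
          + (p * p + q * q + r * r) := by noncomm_ring
    rw [this, hsq]
  rw [hp, hr] at e
  have e2 : (2 : E) * ((q + q) * (q + q) - (q + q) - 1) = 0 := by
    rw [two_mul]
    have : (q + q) * (q + q) - (q + q) - 1 + ((q + q) * (q + q) - (q + q) - 1)
        = (1 * 1 + (q + q) * (q + q) + (1 - (q + q)) * (1 - (q + q))) - (1 + 1 + 1 + 1) := by
      noncomm_ring
    rw [this, e, sub_self]
  have e3 := h2u.mul_right_eq_zero.mp e2
  have e4 : (q + q) * (q + q) - ((q + q) + 1) = 0 := by rw [← e3]; abel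
  exact sub_eq_zero.mp e4

/-- **Normal form** of a second frame. -/
theorem golden_normal [Finite Γ] {ρ : Γ →* E} (hf : IsFpfR ρ) {x s s' : Γ} (hx1 : x ≠ 1)
    (hx3 : x ^ 3 = 1) (fs : IsFrame x s) (fs' : IsFrame x s') (hne : s' ∉ Qs x s) :
    ∃ s'' : Γ, IsFrame x s'' ∧ Qs x s'' = Qs x s' ∧ ∃ γ : E, Cen (ρ s) (ρ (x * s * x⁻¹)) γ ∧
      γ * γ = γ + 1 ∧
      ρ s'' + ρ s'' = qd (ρ s) (ρ (x * s * x⁻¹)) 0 1 γ (1 - γ) ∧
      ρ (x * s'' * x⁻¹) + ρ (x * s'' * x⁻¹) = qd (ρ s) (ρ (x * s * x⁻¹)) 0 (1 - γ) 1 γ ∧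
      ρ (s'' * (x * s'' * x⁻¹)) + ρ (s'' * (x * s'' * x⁻¹))
        = qd (ρ s) (ρ (x * s * x⁻¹)) 0 γ (1 - γ) 1 := by
  have h2u : IsUnit (2 : E) := two_unit hf fs.h2 (by rw [← pow_mul]; exact fs.h4)
  obtain ⟨-, b₁, b₂, b₃, g₁, g₂, g₃, hsum, hsq, hS', hT', hU', hcase⟩ :=
    golden_core hf hx1 hx3 fs fs' hne
  rcases hcase with hp | hp | hp
  · obtain ⟨hγ, hr⟩ := gold_rel h2u hsum hsq hp
    refine ⟨s', fs', rfl, b₂ + b₂, g₂.add g₂, hγ, ?_, ?_, ?_⟩
    · rw [hS', qd_add, add_zero, hp, hr]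
    · rw [hT', qd_add, add_zero, hp, hr]
    · rw [map_mul, hU', qd_add, add_zero, hp, hr]
  · have hsum' : b₂ + b₃ + b₁ = 1 := by rw [← hsum]; abel
    have hsq' : b₂ * b₂ + b₃ * b₃ + b₁ * b₁ = 1 := by rw [← hsq]; abel
    obtain ⟨hγ, hr⟩ := gold_rel h2u hsum' hsq' hp
    have fs'' := fs'.shift.shift
    refine ⟨x * (x * s' * x⁻¹) * x⁻¹, fs'', ?_, b₃ + b₃, g₃.add g₃, hγ, ?_, ?_, ?_⟩
    · rw [Qs_shift fs'.shift, Qs_shift fs']
    · rw [fs'.hu, map_mul, hU', qd_add, add_zero, hp, hr]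
    · rw [conj3 hx3, hS', qd_add, add_zero, hp, hr]
    · rw [← fs''.hu, conj3 hx3, hT', qd_add, add_zero, hp, hr]
  · have hsum' : b₃ + b₁ + b₂ = 1 := by rw [← hsum]; abel
    have hsq' : b₃ * b₃ + b₁ * b₁ + b₂ * b₂ = 1 := by rw [← hsq]; abel
    obtain ⟨hγ, hr⟩ := gold_rel h2u hsum' hsq' hp
    have fs'' := fs'.shift
    refine ⟨x * s' * x⁻¹, fs'', Qs_shift fs', b₁ + b₁, g₁.add g₁, hγ, ?_, ?_, ?_⟩
    · rw [hT', qd_add, add_zero, hp, hr]
    · rw [fs'.hu, map_mul, hU', qd_add, add_zero, hp, hr]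
    · rw [← fs''.hu, conj3 hx3, hS', qd_add, add_zero, hp, hr]

end Normal

section KThree

variable {Γ : Type*} [Group Γ] {E : Type*} [Ring E] [Nontrivial E]

theorem gold_comm {R : Type*} [CommRing R] (a b : R) (G : a * a = a + 1) (G' : b * b = b + 1)
    (H : (b * a + a * b - (b + b) + (1 + 1) = 0) ∨ b = a + (1 + 1) ∨ b = a - (1 + 1)) :
    (8 : R) = 0 := by
  rcases H with H | H | H <;> grind

theorem gold_E (h2u : IsUnit (2 : E)) {a b : E} (hc : a * b = b * a) (G : a * a = a + 1)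
    (G' : b * b = b + 1)
    (H : (b * a + a * b - (b + b) + (1 + 1) = 0) ∨ b = a + (1 + 1) ∨ b = a - (1 + 1)) :
    False := by
  have hcomm : ∀ x ∈ ({a, b} : Set E), ∀ y ∈ ({a, b} : Set E), x * y = y * x := by
    intro x hx y hy
    simp only [Set.mem_insert_iff, Set.mem_singleton_iff] at hx hy
    rcases hx with rfl | rfl <;> rcases hy with rfl | rfl <;>
      first | rfl | assumption | (symm; assumption)
  letI : CommRing (Subring.closure ({a, b} : Set E)) := Subring.closureCommRingOfComm hcomm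
  have ma : a ∈ Subring.closure ({a, b} : Set E) := Subring.subset_closure (by simp)
  have mb : b ∈ Subring.closure ({a, b} : Set E) := Subring.subset_closure (by simp)
  have key := gold_comm (R := Subring.closure ({a, b} : Set E)) ⟨a, ma⟩ ⟨b, mb⟩
    (Subtype.ext G) (Subtype.ext G')
    (H.imp (fun h => Subtype.ext h) (Or.imp (fun h => Subtype.ext h) (fun h => Subtype.ext h)))
  have h8 : (8 : E) = 0 := congrArg Subtype.val key
  have hu : IsUnit (8 : E) := by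
    have e : (8 : E) = 2 * 2 * 2 := by norm_num
    rw [e]; exact (h2u.mul h2u).mul h2u
  rw [h8] at hu
  exact not_isUnit_zero hu

omit [Nontrivial E] in
theorem anti_coords {S T P Q p₁ p₂ p₃ q₁ q₂ q₃ : E} (F : RF S T) (h2u : IsUnit (2 : E))
    (gp₁ : Cen S T p₁) (gp₂ : Cen S T p₂) (gp₃ : Cen S T p₃)
    (gq₁ : Cen S T q₁) (gq₂ : Cen S T q₂) (gq₃ : Cen S T q₃)
    (hP : P + P = qd S T 0 p₁ p₂ p₃) (hQ : Q + Q = qd S T 0 q₁ q₂ q₃)
    (hPQ : P * Q + Q * P = -1) :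
    (p₁ * q₁ + p₂ * q₂ + p₃ * q₃) + (q₁ * p₁ + q₂ * p₂ + q₃ * p₃) = 1 + 1 + 1 + 1 ∧
    (p₂ * q₃ - p₃ * q₂) + (q₂ * p₃ - q₃ * p₂) = 0 := by
  have z := Cen.zero S T
  have e : (P + P) * (Q + Q) + (Q + Q) * (P + P) = -(1 + 1 + 1 + 1) := by
    have : (P + P) * (Q + Q) + (Q + Q) * (P + P)
        = (P * Q + Q * P) + (P * Q + Q * P) + (P * Q + Q * P) + (P * Q + Q * P) := by
      noncomm_ring
    rw [this, hPQ]; abel
  have hm : (-(1 + 1 + 1 + 1) : E) = qd S T (-(1 + 1 + 1 + 1)) 0 0 0 := qd_scalar S T _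
  rw [hP, hQ, qd_mul F _ _ _ _ z gq₁ gq₂ gq₃, qd_mul F _ _ _ _ z gp₁ gp₂ gp₃, qd_add, hm] at e
  have o := Cen.one S T
  obtain ⟨e₀, e₁, -, -⟩ := qd_inj F h2u
    (by repeat' (first | assumption | apply Cen.add | apply Cen.sub | apply Cen.mul | apply Cen.neg))
    (by repeat' (first | assumption | apply Cen.add | apply Cen.sub | apply Cen.mul | apply Cen.neg))
    (by repeat' (first | assumption | apply Cen.add | apply Cen.sub | apply Cen.mul | apply Cen.neg))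
    (by repeat' (first | assumption | apply Cen.add | apply Cen.sub | apply Cen.mul | apply Cen.neg))
    (by repeat' (first | assumption | apply Cen.add | apply Cen.sub | apply Cen.mul | apply Cen.neg))
    z z z e
  simp only [zero_mul, mul_zero, zero_add, add_zero, zero_sub, sub_zero] at e₀ e₁
  constructor
  · have e' := congrArg Neg.neg e₀
    rw [neg_neg] at e'
    rw [← e']; abel
  · exact e₁

omit [Nontrivial E] in
theorem conjS_qd {S T c₀ c₁ c₂ c₃ : E} (F : RF S T) (h₀ : Cen S T c₀) (h₁ : Cen S T c₁)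
    (h₂ : Cen S T c₂) (h₃ : Cen S T c₃) :
    S * qd S T c₀ c₁ c₂ c₃ * S = qd S T (-c₀) (-c₁) c₂ c₃ := by
  unfold qd
  simp only [mul_add, add_mul, mul_sub, sub_mul, mul_neg, neg_mul, mul_assoc, F.hS, F.hT, F.hTS,
    F.SS, F.TT, F.TS, h₀.sl, h₁.sl, h₂.sl, h₃.sl, h₀.tl, h₁.tl, h₂.tl, h₃.tl, h₀.sl', h₁.sl',
    h₂.sl', h₃.sl', h₀.tl', h₁.tl', h₂.tl', h₃.tl', mul_one, one_mul, neg_neg]

/-- the case where the two second frames have first vectors at angle `2π/3` -/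
theorem case_a {ρ : Γ →* E} (hf : IsFpfR ρ) {x s a b : Γ} (hx1 : x ≠ 1) (hx3 : x ^ 3 = 1)
    (fs : IsFrame x s) {γ γ' : E} (gγ : Cen (ρ s) (ρ (x * s * x⁻¹)) γ)
    (gγ' : Cen (ρ s) (ρ (x * s * x⁻¹)) γ') (hb2 : b ^ 2 ≠ 1) (hb4 : b ^ 4 = 1)
    (ha2 : a ^ 2 ≠ 1) (ha4 : a ^ 4 = 1)
    (db : ρ b + ρ b = qd (ρ s) (ρ (x * s * x⁻¹)) 0 1 γ' (1 - γ'))
    (da : ρ a + ρ a = qd (ρ s) (ρ (x * s * x⁻¹)) 0 1 γ (1 - γ))
    (hab : ρ b * ρ a + ρ a * ρ b = -1) :
    γ' = γ + (1 + 1) ∨ γ' = γ - (1 + 1) := by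
  have F := fs.rf hf
  have h2u : IsUnit (2 : E) := two_unit hf fs.h2 (by rw [← pow_mul]; exact fs.h4)
  have hX := sq_of_cube hf hx1 hx3
  obtain ⟨h, hh, hc⟩ := exists_half h2u
  have hx2 := frame_x F h2u hX (frame_xs ρ x s) (fs.xt ρ)
  have hXq := frame_x_qd hh hx2
  have z := Cen.zero (ρ s) (ρ (x * s * x⁻¹))
  have o := Cen.one (ρ s) (ρ (x * s * x⁻¹))
  have hτ : ρ (b * a⁻¹) + ρ (b * a⁻¹)⁻¹ = 1 := by
    rw [tau_w hf hb2 hb4 ha2 ha4, hab, neg_neg]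
  obtain ⟨w, hw⟩ : ∃ w : Γ, w = s * (b * a⁻¹) * s⁻¹ := ⟨_, rfl⟩
  have hW : ρ w = ρ s * (ρ b * ρ a) * ρ s := by
    rw [hw, map_mul, map_mul, map_mul, inv_of_four hf ha2 ha4, inv_of_four hf fs.h2 fs.h4]
    noncomm_ring
  have hWi : ρ w + ρ w⁻¹ = 1 := by
    have e : w⁻¹ = s * (b * a⁻¹)⁻¹ * s⁻¹ := by rw [hw]; group
    have e2 : ρ w + ρ w⁻¹ = ρ s * (ρ (b * a⁻¹) + ρ (b * a⁻¹)⁻¹) * ρ s⁻¹ := by
      rw [e, hw, map_mul, map_mul, map_mul ρ (s * (b * a⁻¹)⁻¹) s⁻¹, map_mul ρ s (b * a⁻¹)⁻¹]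
      noncomm_ring
    rw [e2, hτ, mul_one, rho_mul_inv]
  have hWW : ρ w * ρ w = ρ w - 1 := by
    have e : ρ w * ρ w = ρ w * (ρ w + ρ w⁻¹) - ρ w * ρ w⁻¹ := by rw [mul_add]; abel
    rw [e, hWi, rho_mul_inv, mul_one]
  have hD : ρ w + ρ w + ρ w + ρ w = ρ s * ((ρ b + ρ b) * (ρ a + ρ a)) * ρ s := by
    rw [hW]; noncomm_ring
  rw [db, da, qd_mul F _ _ _ _ z o gγ (o.sub gγ), conjS_qd F
    (by repeat' (first | assumption | apply Cen.add | apply Cen.sub | apply Cen.mul | apply Cen.neg))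
    (by repeat' (first | assumption | apply Cen.add | apply Cen.sub | apply Cen.mul | apply Cen.neg))
    (by repeat' (first | assumption | apply Cen.add | apply Cen.sub | apply Cen.mul | apply Cen.neg))
    (by repeat' (first | assumption | apply Cen.add | apply Cen.sub | apply Cen.mul | apply Cen.neg))]
    at hD
  have gA : Cen (ρ s) (ρ (x * s * x⁻¹)) (-(0 * 0 - 1 * 1 - γ' * γ - (1 - γ') * (1 - γ))) := by
    repeat' (first | assumption | apply Cen.add | apply Cen.sub | apply Cen.mul | apply Cen.neg)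
  have hD' : ρ w + ρ w + ρ w + ρ w = qd (ρ s) (ρ (x * s * x⁻¹))
      (-(0 * 0 - 1 * 1 - γ' * γ - (1 - γ') * (1 - γ))) (γ - γ') (γ - γ') (γ - γ') := by
    rw [hD]
    congr 1 <;> noncomm_ring
  have hXD : ρ x * (ρ w + ρ w + ρ w + ρ w) = (ρ w + ρ w + ρ w + ρ w) * ρ x := by
    rw [hD']
    exact conj_qd F hc hXq (frame_xs ρ x s) (fs.xt ρ) gA (gγ.sub gγ') (gγ.sub gγ') (gγ.sub gγ')
  have hXW : ρ x * ρ w = ρ w * ρ x := by
    have e : (ρ x * ρ w - ρ w * ρ x) + (ρ x * ρ w - ρ w * ρ x) + (ρ x * ρ w - ρ w * ρ x)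
        + (ρ x * ρ w - ρ w * ρ x) = 0 := by
      have : (ρ x * ρ w - ρ w * ρ x) + (ρ x * ρ w - ρ w * ρ x) + (ρ x * ρ w - ρ w * ρ x)
          + (ρ x * ρ w - ρ w * ρ x)
          = ρ x * (ρ w + ρ w + ρ w + ρ w) - (ρ w + ρ w + ρ w + ρ w) * ρ x := by noncomm_ring
      rw [this, hXD, sub_self]
    exact sub_eq_zero.mp (four_cancel h2u e)
  by_cases hwx : w * w = x
  · left
    have e1 : ρ w = ρ x + 1 := by
      have e : ρ w * ρ w = ρ x := by rw [← map_mul, hwx]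
      rw [hWW] at e
      rw [← e]; abel
    have e2 : ρ w + ρ w + ρ w + ρ w = qd (ρ s) (ρ (x * s * x⁻¹)) (1 + 1) (-(1 + 1)) (-(1 + 1))
        (-(1 + 1)) := by
      have : ρ w + ρ w + ρ w + ρ w = (ρ x + ρ x) + (ρ x + ρ x) + (1 + 1 + 1 + 1) := by
        rw [e1]; abel
      rw [this, hx2]; unfold qd; noncomm_ring
    rw [hD'] at e2
    obtain ⟨-, q₁, -, -⟩ := qd_inj F h2u gA (gγ.sub gγ') (gγ.sub gγ') (gγ.sub gγ') (o.add o)
      (o.add o).neg (o.add o).neg (o.add o).neg e2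
    have e3 : γ' = γ - (γ - γ') := by abel
    rw [e3, q₁]; abel
  · right
    have hu : IsUnit (ρ w * ρ w - ρ x) := by
      have hne : w * w * x⁻¹ ≠ 1 := fun h => hwx (mul_inv_eq_one.mp h)
      have e' : ρ (w * w * x⁻¹) * ρ x = ρ w * ρ w := by
        rw [← map_mul, inv_mul_cancel_right, map_mul]
      have e : ρ w * ρ w - ρ x = (ρ (w * w * x⁻¹) - 1) * ρ x := by
        rw [sub_mul, one_mul, e']
      rw [e]; exact (hf _ hne).mul (isUnit_rho ρ x)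
    have e0 : (ρ w * ρ w - ρ x) * (ρ w + ρ x) = 0 := by
      rw [hWW]
      have : (ρ w - 1 - ρ x) * (ρ w + ρ x)
          = ρ w * ρ w - ρ w - ρ x * ρ x - ρ x + (ρ w * ρ x - ρ x * ρ w) := by noncomm_ring
      rw [this, hWW, hX, hXW]; abel
    have e1 : ρ w = -ρ x := eq_neg_of_add_eq_zero_left (hu.mul_right_eq_zero.mp e0)
    have e2 : ρ w + ρ w + ρ w + ρ w = qd (ρ s) (ρ (x * s * x⁻¹)) (1 + 1) (1 + 1) (1 + 1)
        (1 + 1) := by
      have : ρ w + ρ w + ρ w + ρ w = -((ρ x + ρ x) + (ρ x + ρ x)) := by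
        rw [e1]; abel
      rw [this, hx2]; unfold qd; noncomm_ring
    rw [hD'] at e2
    obtain ⟨-, q₁, -, -⟩ := qd_inj F h2u gA (gγ.sub gγ') (gγ.sub gγ') (gγ.sub gγ') (o.add o)
      (o.add o) (o.add o) (o.add o) e2
    have e3 : γ' = γ - (γ - γ') := by abel
    rw [e3, q₁]

omit [Nontrivial E] in
theorem eq_of_nc {a b c : E} (h : a = b) (hc : c = b - a) : c = 0 := by
  rw [hc, h, sub_self]

/-- **At most two frame groups.** -/
theorem K_three [Finite Γ] {ρ : Γ →* E} (hf : IsFpfR ρ) {x s₁ s₂ s₃ : Γ} (hx1 : x ≠ 1)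
    (hx3 : x ^ 3 = 1) (f₁ : IsFrame x s₁) (f₂ : IsFrame x s₂) (f₃ : IsFrame x s₃)
    (h12 : s₂ ∉ Qs x s₁) (h13 : s₃ ∉ Qs x s₁) (h23 : s₃ ∉ Qs x s₂) : False := by
  have F := f₁.rf hf
  have h2u : IsUnit (2 : E) := two_unit hf f₁.h2 (by rw [← pow_mul]; exact f₁.h4)
  obtain ⟨a, fa, hQa, γ, gγ, hγ, da, dat, dau⟩ := golden_normal hf hx1 hx3 f₁ f₂ h12
  obtain ⟨b, fb, hQb, γ', gγ', hγ', db, dbt, dbu⟩ := golden_normal hf hx1 hx3 f₁ f₃ h13
  have hba : b ∉ Qs x a := by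
    intro hb
    apply h23
    have h1 : Qs x b ≤ Qs x a := Qs_le_of hb (Qs_conj fa hb)
    rw [hQa, hQb] at h1
    exact h1 (s_mem_Qs x s₃)
  obtain ⟨-, b₁, b₂, b₃, g₁, g₂, g₃, -, -, hS', -, -, hcase⟩ := golden_core hf hx1 hx3 fa fb hba
  obtain ⟨a₁, a₂, a₃⟩ := anti (fa.rf hf) g₁ g₂ g₃
  rw [← hS'] at a₁ a₂ a₃
  have o := Cen.one (ρ s₁) (ρ (x * s₁ * x⁻¹))
  rcases hcase with hp | hp | hp
  · rw [hp] at a₁
    have key := case_a hf hx1 hx3 f₁ gγ gγ' fb.h2 fb.h4 fa.h2 fa.h4 db da a₁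
    have hc : γ * γ' = γ' * γ := by
      rcases key with h | h <;> rw [h] <;> noncomm_ring
    exact gold_E h2u hc hγ hγ' (Or.inr key)
  · rw [hp] at a₂
    obtain ⟨e₀, e₁⟩ := anti_coords F h2u o gγ' (o.sub gγ') (o.sub gγ) o gγ db dat a₂
    have hc : γ * γ' = γ' * γ := by
      have e : γ * γ' - γ' * γ = 0 := by
        apply eq_of_nc e₁
        noncomm_ring
      exact sub_eq_zero.mp e
    refine gold_E h2u hc hγ hγ' (Or.inl ?_)
    apply eq_of_nc e₀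
    noncomm_ring
  · rw [hp, ← map_mul] at a₃
    obtain ⟨e₀, e₁⟩ := anti_coords F h2u o gγ' (o.sub gγ') gγ (o.sub gγ) o db dau a₃
    have hc : γ' * γ = γ * γ' := by
      have e : γ' * γ - γ * γ' = 0 := by
        apply eq_of_nc e₁
        noncomm_ring
      exact sub_eq_zero.mp e
    refine gold_E h2u hc hγ' hγ (Or.inl ?_)
    apply eq_of_nc e₀
    noncomm_ring

end KThree

end Cfsg.Agent.Lib.Helper12.GoldenK
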