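import Mathlib
import Cfsg.Agent.Lib.Helper12.FpfLin

/-!
A non-abelian normal subgroup of a linear group that is regular on the non-zero vectors is
irreducible (helper12).
-/

set_option autoImplicit false

namespace Cfsg.Agent.Lib.Helper12.FpfLin

variable {p : ℕ} [Fact p.Prime] {V : Type*} [AddCommGroup V] [Module (ZMod p) V] [Finite V]
variable {G : Type*} [Group G]

/-- Graph lemma: a minimal invariant subspace meeting `W₁ ⊕ W₂` diagonally is the graph of a map. -/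
theorem graph_existsUnique {ρ : G →* (V ≃ₗ[ZMod p] V)} {N : Subgroup G}
    {W₁ W₂ W₃ : Submodule (ZMod p) V} (h1 : MinInv ρ N W₁) (h2 : MinInv ρ N W₂)
    (h3 : MinInv ρ N W₃) (h12 : W₁ ⊓ W₂ = ⊥) {a u : V} (ha : a ∈ W₁) (ha0 : a ≠ 0) (hu : u ∈ W₂)
    (h : a + u ∈ W₃) : ∀ w ∈ W₁, ∃! y, y ∈ W₂ ∧ w + y ∈ W₃ := by
  have h32 : W₃ ⊓ W₂ = ⊥ := by
    rcases h3.eq_or_disjoint h2 with e | e
    · exfalso
      apply ha0
      have : a ∈ W₂ := by
        have h' : a + u ∈ W₂ := e ▸ h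
        have := W₂.sub_mem h' hu
        simpa using this
      have : a ∈ W₁ ⊓ W₂ := ⟨ha, this⟩
      rw [h12] at this
      exact (Submodule.mem_bot _).mp this
    · exact e
  let S : Submodule (ZMod p) V :=
    { carrier := {w | w ∈ W₁ ∧ ∃ y ∈ W₂, w + y ∈ W₃}
      add_mem' := by
        rintro w w' ⟨hw, y, hy, hwy⟩ ⟨hw', y', hy', hwy'⟩
        refine ⟨W₁.add_mem hw hw', y + y', W₂.add_mem hy hy', ?_⟩
        have := W₃.add_mem hwy hwy'
        rwa [add_add_add_comm] at this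
      zero_mem' := ⟨W₁.zero_mem, 0, W₂.zero_mem, by rw [add_zero]; exact W₃.zero_mem⟩
      smul_mem' := by
        rintro c w ⟨hw, y, hy, hwy⟩
        refine ⟨W₁.smul_mem c hw, c • y, W₂.smul_mem c hy, ?_⟩
        rw [← smul_add]
        exact W₃.smul_mem c hwy }
  have hSle : S ≤ W₁ := fun w hw => hw.1
  have hSinv : Inv ρ N S := by
    rintro n hn w ⟨hw, y, hy, hwy⟩
    refine ⟨h1.2.1 n hn w hw, ρ n y, h2.2.1 n hn y hy, ?_⟩
    rw [← map_add]
    exact h3.2.1 n hn _ hwy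
  have hSa : a ∈ S := ⟨ha, u, hu, h⟩
  have hS : S = W₁ := by
    rcases h1.2.2 S hSle hSinv with e | e
    · exfalso
      rw [e] at hSa
      exact ha0 ((Submodule.mem_bot _).mp hSa)
    · exact e
  intro w hw
  have hwS : w ∈ S := by rw [hS]; exact hw
  obtain ⟨-, y, hy, hwy⟩ := hwS
  refine ⟨y, ⟨hy, hwy⟩, ?_⟩
  rintro y' ⟨hy', hwy'⟩
  have hd : y' - y ∈ W₃ ⊓ W₂ := by
    refine ⟨?_, W₂.sub_mem hy' hy⟩
    have := W₃.sub_mem hwy' hwy
    simpa using this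
  rw [h32] at hd
  exact sub_eq_zero.mp ((Submodule.mem_bot _).mp hd)

/-- The graph map as a linear, equivariant map. -/
theorem exists_equivariant {ρ : G →* (V ≃ₗ[ZMod p] V)} {N : Subgroup G}
    {W₁ W₂ W₃ : Submodule (ZMod p) V} (h1 : MinInv ρ N W₁) (h2 : MinInv ρ N W₂)
    (h3 : MinInv ρ N W₃) (h12 : W₁ ⊓ W₂ = ⊥) {a u : V} (ha : a ∈ W₁) (ha0 : a ≠ 0) (hu : u ∈ W₂)
    (h : a + u ∈ W₃) :
    ∃ φ : W₁ →ₗ[ZMod p] W₂, (∀ n ∈ N, ∀ w : W₁, ∀ hw : ρ n (w : V) ∈ W₁,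
      ((φ ⟨ρ n (w : V), hw⟩ : W₂) : V) = ρ n ((φ w : W₂) : V)) ∧ ((φ ⟨a, ha⟩ : W₂) : V) = u := by
  classical
  have hg := graph_existsUnique h1 h2 h3 h12 ha ha0 hu h
  choose F hF hFu using hg
  have huniq : ∀ (w : V) (hw : w ∈ W₁) (y : V), y ∈ W₂ → w + y ∈ W₃ → y = F w hw :=
    fun w hw y hy hwy => hFu w hw y ⟨hy, hwy⟩
  let φ₀ : W₁ →+ W₂ :=
    { toFun := fun w => ⟨F w w.2, (hF w w.2).1⟩
      map_zero' := by
        apply Subtype.ext
        exact (huniq 0 W₁.zero_mem 0 W₂.zero_mem (by rw [add_zero]; exact W₃.zero_mem)).symm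
      map_add' := by
        intro w w'
        apply Subtype.ext
        refine (huniq _ (w + w').2 _ (W₂.add_mem (hF w w.2).1 (hF w' w'.2).1) ?_).symm
        have := W₃.add_mem (hF w w.2).2 (hF w' w'.2).2
        rw [add_add_add_comm] at this
        exact this }
  refine ⟨φ₀.toZModLinearMap p, ?_, ?_⟩
  · intro n hn w hw
    show F (ρ n (w : V)) hw = ρ n (F w w.2)
    refine (huniq _ hw _ (h2.2.1 n hn _ (hF w w.2).1) ?_).symm
    rw [← map_add]
    exact h3.2.1 n hn _ (hF w w.2).2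
  · show F a ha = u
    exact (huniq a ha u hu h).symm

/-- A non-abelian normal subgroup of a group regular on the non-zero vectors is irreducible. -/
theorem irreducible_of_normal {ρ : G →* (V ≃ₗ[ZMod p] V)} (hf : IsFpf ρ) (ht : IsTrans ρ)
    (N : Subgroup G) [N.Normal] (hN : ¬ ∀ a ∈ N, ∀ b ∈ N, a * b = b * a)
    (W : Submodule (ZMod p) V) (hW : Inv ρ N W) : W = ⊥ ∨ W = ⊤ := by
  classical
  by_contra hcon
  push Not at hcon
  obtain ⟨hW0, hWtop⟩ := hcon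
  obtain ⟨W₁, hle, h1⟩ := exists_minInv ρ N W hW0 hW
  have hW₁top : W₁ ≠ ⊤ := by
    intro e
    apply hWtop
    rw [eq_top_iff, ← e]
    exact hle
  obtain ⟨a, ha, ha0⟩ := Submodule.exists_mem_ne_zero_of_ne_bot h1.1
  obtain ⟨u, hu⟩ : ∃ u : V, u ∉ W₁ := by
    by_contra hall
    push Not at hall
    exact hW₁top (eq_top_iff.mpr (fun v _ => hall v))
  have hu0 : u ≠ 0 := fun e => hu (e ▸ W₁.zero_mem)
  -- translates
  have htr : ∀ v : V, v ≠ 0 → ∃ W' : Submodule (ZMod p) V, MinInv ρ N W' ∧ v ∈ W' := by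
    intro v hv
    obtain ⟨g, hg⟩ := ht a v ha0 hv
    exact ⟨_, h1.map g, ⟨a, ha, hg⟩⟩
  obtain ⟨W₂, h2, hu2⟩ := htr u hu0
  have h12 : W₁ ⊓ W₂ = ⊥ := by
    rcases h1.eq_or_disjoint h2 with e | e
    · exact absurd (e ▸ hu2) hu
    · exact e
  have h21 : W₂ ⊓ W₁ = ⊥ := by rw [inf_comm]; exact h12
  haveI : Nontrivial W₁ := by
    rw [Submodule.nontrivial_iff_ne_bot]; exact h1.1
  -- restriction of N to W₁
  let r : N →* Module.End (ZMod p) W₁ :=
    { toFun := fun n => (ρ (n : G) : V →ₗ[ZMod p] V).restrict (fun v hv => h1.2.1 n n.2 v hv)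
      map_one' := by
        ext w
        exact rho_one ρ _
      map_mul' := by
        intro n m
        ext w
        exact rho_mul ρ _ _ _ }
  have hr : ∀ (n : N) (w : W₁), ((r n w : W₁) : V) = ρ (n : G) (w : V) := fun n w => rfl
  have hirr : ∀ W' : Submodule (ZMod p) W₁, (∀ m : N, ∀ w ∈ W', r m w ∈ W') → W' = ⊥ ∨ W' = ⊤ := by
    intro W' hW'
    have hle' : W'.map W₁.subtype ≤ W₁ := by
      rintro _ ⟨w, _, rfl⟩
      exact w.2
    have hinv' : Inv ρ N (W'.map W₁.subtype) := by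
      rintro n hn _ ⟨w, hw, rfl⟩
      exact ⟨r ⟨n, hn⟩ w, hW' ⟨n, hn⟩ w hw, rfl⟩
    rcases h1.2.2 _ hle' hinv' with e | e
    · left
      apply Submodule.map_injective_of_injective W₁.injective_subtype
      rw [e, Submodule.map_bot]
    · right
      rw [eq_top_iff]
      intro w _
      have : (w : V) ∈ W'.map W₁.subtype := by rw [e]; exact w.2
      obtain ⟨w', hw', e'⟩ := this
      have : w' = w := Subtype.ext e'
      rw [← this]
      exact hw'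
  -- transitivity of the commutant
  have htrans : ∀ b : V, b ∈ W₁ → b ≠ 0 → ∃ f : Module.End (ZMod p) W₁,
      (∀ m, f * r m = r m * f) ∧ ((f ⟨a, ha⟩ : W₁) : V) = b := by
    intro b hb hb0
    have hau : a + u ≠ 0 := by
      intro e
      apply hu
      have : u = -a := eq_neg_of_add_eq_zero_right e
      rw [this]
      exact W₁.neg_mem ha
    have hub : u + b ≠ 0 := by
      intro e
      apply hu
      have : u = -b := eq_neg_of_add_eq_zero_left e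
      rw [this]
      exact W₁.neg_mem hb
    obtain ⟨W₃, h3, hau3⟩ := htr _ hau
    obtain ⟨W₄, h4, hub4⟩ := htr _ hub
    obtain ⟨φ, hφ, hφa⟩ := exists_equivariant h1 h2 h3 h12 ha ha0 hu2 hau3
    obtain ⟨ψ, hψ, hψu⟩ := exists_equivariant h2 h1 h4 h21 hu2 hu0 hb hub4
    refine ⟨ψ ∘ₗ φ, ?_, ?_⟩
    · intro m
      ext w
      show ((ψ (φ (r m w)) : W₁) : V) = ρ (m : G) ((ψ (φ w) : W₁) : V)
      have e1 : φ (r m w) = ⟨ρ (m : G) ((φ w : W₂) : V), h2.2.1 m m.2 _ (φ w).2⟩ := by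
        apply Subtype.ext
        exact hφ m m.2 w (h1.2.1 m m.2 _ w.2)
      rw [e1]
      exact hψ m m.2 (φ w) _
    · show ((ψ (φ ⟨a, ha⟩) : W₁) : V) = b
      have e1 : φ ⟨a, ha⟩ = ⟨u, hu2⟩ := Subtype.ext hφa
      rw [e1]
      exact hψu
  apply hN
  intro n hn m hm
  have hna : ρ n a ≠ 0 := fun e => ha0 ((LinearEquiv.map_eq_zero_iff _).mp e)
  have hma : ρ m a ≠ 0 := fun e => ha0 ((LinearEquiv.map_eq_zero_iff _).mp e)
  obtain ⟨fn, hfn, hfna⟩ := htrans (ρ n a) (h1.2.1 n hn a ha) hna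
  obtain ⟨fm, hfm, hfma⟩ := htrans (ρ m a) (h1.2.1 m hm a ha) hma
  have hcomm := commutant_comm r hirr fn fm hfn hfm
  have hfna' : fn ⟨a, ha⟩ = r ⟨n, hn⟩ ⟨a, ha⟩ := Subtype.ext hfna
  have hfma' : fm ⟨a, ha⟩ = r ⟨m, hm⟩ ⟨a, ha⟩ := Subtype.ext hfma
  have key : r ⟨n, hn⟩ (r ⟨m, hm⟩ ⟨a, ha⟩) = r ⟨m, hm⟩ (r ⟨n, hn⟩ ⟨a, ha⟩) := by
    have e1 : r ⟨n, hn⟩ (r ⟨m, hm⟩ ⟨a, ha⟩) = fm (fn ⟨a, ha⟩) := by
      rw [← hfma', ← Module.End.mul_apply, ← hfm, Module.End.mul_apply, hfna']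
    have e2 : r ⟨m, hm⟩ (r ⟨n, hn⟩ ⟨a, ha⟩) = fn (fm ⟨a, ha⟩) := by
      rw [← hfna', ← Module.End.mul_apply, ← hfn, Module.End.mul_apply, hfma']
    rw [e1, e2, ← Module.End.mul_apply, ← Module.End.mul_apply, hcomm]
  have key' : ρ (n * m) a = ρ (m * n) a := by
    rw [rho_mul, rho_mul]
    exact congrArg Subtype.val key
  exact eq_of_apply_eq hf ha0 key'

end Cfsg.Agent.Lib.Helper12.FpfLin
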