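import Mathlib
import Cfsg.Agent.Lib.Helper12.FpfIrr

/-!
Linear groups `H ≤ GL(V)` over `ZMod p` that are regular on the non-zero vectors (helper12):
translation to `IsFpf` / `IsTrans`, irreducibility of non-abelian normal subgroups, and
commutativity of their centralisers.
-/

set_option autoImplicit false

namespace Cfsg.Agent.Lib.Helper12.FpfLin

variable {p : ℕ} [Fact p.Prime] {V : Type*} [AddCommGroup V] [Module (ZMod p) V] [Finite V]

theorem fpf_of_reg (H : Subgroup (V ≃ₗ[ZMod p] V))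
    (hreg : ∀ v w : V, v ≠ 0 → w ≠ 0 → ∃! h : H, (h : V ≃ₗ[ZMod p] V) v = w) :
    IsFpf H.subtype := by
  intro g hg v hv
  by_contra hv0
  obtain ⟨h, -, huniq⟩ := hreg v v hv0 hv0
  have h1 : g = h := huniq g hv
  have h2 : (1 : H) = h := huniq 1 rfl
  exact hg (h1.trans h2.symm)

theorem trans_of_reg (H : Subgroup (V ≃ₗ[ZMod p] V))
    (hreg : ∀ v w : V, v ≠ 0 → w ≠ 0 → ∃! h : H, (h : V ≃ₗ[ZMod p] V) v = w) :
    IsTrans H.subtype := by
  intro v w hv hw
  obtain ⟨h, hh, -⟩ := hreg v w hv hw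
  exact ⟨h, hh⟩

theorem subgroupComm_iff {G : Type*} [Group G] (N : Subgroup G) :
    IsMulCommutative N ↔ ∀ a ∈ N, ∀ b ∈ N, a * b = b * a := by
  constructor
  · intro h a ha b hb
    have := h.is_comm.comm (⟨a, ha⟩ : N) ⟨b, hb⟩
    exact congrArg Subtype.val this
  · intro h
    exact ⟨⟨fun a b => Subtype.ext (h a a.2 b b.2)⟩⟩

/-- If some subgroup is not commutative, `V` is nontrivial. -/
theorem nontrivial_of_noncomm (H : Subgroup (V ≃ₗ[ZMod p] V)) (N : Subgroup H)
    (hN : ¬ IsMulCommutative N) : Nontrivial V := by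
  by_contra hV
  rw [not_nontrivial_iff_subsingleton] at hV
  apply hN
  rw [subgroupComm_iff]
  have hH : ∀ h : H, h = 1 := by
    intro h
    apply Subtype.ext
    apply LinearEquiv.ext
    intro v
    exact Subsingleton.elim _ _
  intro a _ b _
  rw [hH a, hH b]

/-- A non-abelian normal subgroup of a regular linear group is irreducible. -/
theorem irreducible_of_reg (H : Subgroup (V ≃ₗ[ZMod p] V))
    (hreg : ∀ v w : V, v ≠ 0 → w ≠ 0 → ∃! h : H, (h : V ≃ₗ[ZMod p] V) v = w)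
    (N : Subgroup H) (hNn : N.Normal) (hNna : ¬ IsMulCommutative N)
    (W : Submodule (ZMod p) V)
    (hW : ∀ n ∈ N, ∀ v ∈ W, ((n : H) : V ≃ₗ[ZMod p] V) v ∈ W) : W = ⊥ ∨ W = ⊤ := by
  haveI := hNn
  refine irreducible_of_normal (fpf_of_reg H hreg) (trans_of_reg H hreg) N ?_ W hW
  rwa [← subgroupComm_iff]

/-- The centraliser of a non-abelian normal subgroup of a regular linear group is commutative. -/
theorem centralizer_comm_of_reg (H : Subgroup (V ≃ₗ[ZMod p] V))
    (hreg : ∀ v w : V, v ≠ 0 → w ≠ 0 → ∃! h : H, (h : V ≃ₗ[ZMod p] V) v = w)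
    (N : Subgroup H) (hNn : N.Normal) (hNna : ¬ IsMulCommutative N) :
    ∀ c ∈ Subgroup.centralizer (N : Set H), ∀ c' ∈ Subgroup.centralizer (N : Set H),
      c * c' = c' * c := by
  haveI : Nontrivial V := nontrivial_of_noncomm H N hNna
  let r : N →* Module.End (ZMod p) V :=
    { toFun := fun n => (((n : H) : V ≃ₗ[ZMod p] V) : V →ₗ[ZMod p] V)
      map_one' := by ext v; rfl
      map_mul' := fun a b => by ext v; rfl }
  have hirr : ∀ W : Submodule (ZMod p) V, (∀ m : N, ∀ w ∈ W, r m w ∈ W) → W = ⊥ ∨ W = ⊤ := by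
    intro W hW
    exact irreducible_of_reg H hreg N hNn hNna W (fun n hn v hv => hW ⟨n, hn⟩ v hv)
  intro c hc c' hc'
  let f : H → Module.End (ZMod p) V := fun h => ((h : V ≃ₗ[ZMod p] V) : V →ₗ[ZMod p] V)
  have hfc : ∀ c ∈ Subgroup.centralizer (N : Set H), ∀ m, f c * r m = r m * f c := by
    intro c hc m
    have := Subgroup.mem_centralizer_iff.mp hc (m : H) m.2
    ext v
    show (c : V ≃ₗ[ZMod p] V) (((m : H) : V ≃ₗ[ZMod p] V) v)
      = ((m : H) : V ≃ₗ[ZMod p] V) ((c : V ≃ₗ[ZMod p] V) v)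
    have h2 := congrArg (fun h : H => (h : V ≃ₗ[ZMod p] V) v) this
    exact h2.symm
  have := commutant_comm r hirr (f c) (f c') (hfc c hc) (hfc c' hc')
  apply Subtype.ext
  apply LinearEquiv.ext
  intro v
  exact congrArg (fun e : Module.End (ZMod p) V => e v) this

end Cfsg.Agent.Lib.Helper12.FpfLin
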