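import Mathlib
import Cfsg.Agent.Lib.Helper12.FpfReg

/-!
# Quaternion normal subgroups of groups regular on non-zero vectors (helper12)

* `q8_ind`, `q8_ind'`: induction principle for a group isomorphic to `QuaternionGroup 2`
  (every element is a word `x^i * y^j` in two non-commuting elements).
* `index_dvd_card_of_stabilizer_eq`: if all point stabilisers equal `K` then `K.index` divides
  the number of points.
* `card_of_reg`: `|H| + 1 = |V|` for `H` regular on the non-zero vectors.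
* `quat_normal`: if `H ≤ GL(V)` over `ZMod p` is regular on the non-zero vectors and has a normal
  subgroup isomorphic to the quaternion group of order 8, then `p ≠ 2`, `|V| = p ^ 2` and
  `p + 1 ∣ 24`.
-/

set_option autoImplicit false

namespace Cfsg.Agent.Lib.Helper12.QuatReg

open QuaternionGroup Cfsg.Agent.Lib.Helper12.FpfLin

set_option maxRecDepth 100000 in
theorem q8_words : ∀ x y g : QuaternionGroup 2, x * y ≠ y * x →
    g = 1 ∨ g = x * 1 ∨ g = x * (x * 1) ∨ g = x * (x * (x * 1)) ∨ g = y ∨ g = x * y ∨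
      g = x * (x * y) ∨ g = x * (x * (x * y)) := by decide

set_option maxRecDepth 100000 in
theorem q8_pairs_card :
    Fintype.card {r : QuaternionGroup 2 × QuaternionGroup 2 // r.1 * r.2 ≠ r.2 * r.1} = 24 := by
  decide

theorem q8_center : ∀ q : QuaternionGroup 2, (∀ r, q * r = r * q) → q = 1 ∨ q = a 1 * a 1 := by
  decide

theorem q8_conj : ∀ g : QuaternionGroup 2,
    g * a 1 * g⁻¹ = a 1 ∨ g * a 1 * g⁻¹ = a 1 * a 1 * a 1 := by
  decide

theorem q8_ind {x y : QuaternionGroup 2} (hxy : x * y ≠ y * x) (P : QuaternionGroup 2 → Prop)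
    (h1 : P 1) (hy : P y) (hx : ∀ g, P g → P (x * g)) : ∀ g, P g := by
  intro g
  rcases q8_words x y g hxy with h | h | h | h | h | h | h | h <;> rw [h]
  · exact h1
  · exact hx _ h1
  · exact hx _ (hx _ h1)
  · exact hx _ (hx _ (hx _ h1))
  · exact hy
  · exact hx _ hy
  · exact hx _ (hx _ hy)
  · exact hx _ (hx _ (hx _ hy))

theorem q8_ind' {K : Type*} [Group K] (e : K ≃* QuaternionGroup 2) {x y : K}
    (hxy : x * y ≠ y * x) (P : K → Prop)
    (h1 : P 1) (hy : P y) (hx : ∀ g, P g → P (x * g)) : ∀ g, P g := by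
  intro g
  have h := q8_ind (x := e x) (y := e y)
    (by rw [← map_mul, ← map_mul]; exact fun h => hxy (e.injective h))
    (fun q => P (e.symm q)) (by simpa using h1) (by simpa using hy)
    (fun q hq => by simpa using hx _ hq) (e g)
  simpa using h

/-- If every point stabiliser is `K`, then the index of `K` divides the number of points. -/
theorem index_dvd_card_of_stabilizer_eq {G Ω : Type*} [Group G] [MulAction G Ω] [Finite Ω]
    (K : Subgroup G) (h : ∀ ω : Ω, MulAction.stabilizer G ω = K) : K.index ∣ Nat.card Ω := by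
  classical
  have e := MulAction.selfEquivSigmaOrbitsQuotientStabilizer G Ω
  haveI : Fintype (Quotient (MulAction.orbitRel G Ω)) := Fintype.ofFinite _
  haveI : Finite (Σ ω : Quotient (MulAction.orbitRel G Ω), G ⧸ MulAction.stabilizer G ω.out) :=
    Finite.of_equiv _ e
  haveI : ∀ ω : Quotient (MulAction.orbitRel G Ω), Finite (G ⧸ MulAction.stabilizer G ω.out) :=
    fun ω => Finite.of_injective (fun x => (⟨ω, x⟩ : Σ ω : Quotient (MulAction.orbitRel G Ω),
          G ⧸ MulAction.stabilizer G ω.out)) (fun x y hxy => by simpa using hxy)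
  rw [Nat.card_congr e, Nat.card_sigma]
  have h2 : ∀ ω : Quotient (MulAction.orbitRel G Ω),
      Nat.card (G ⧸ MulAction.stabilizer G ω.out) = K.index := fun ω => by
    rw [h]; rfl
  simp only [h2, Finset.sum_const, smul_eq_mul]
  exact dvd_mul_left _ _

/-- Non-commuting pairs of elements of a subgroup. -/
def NCPair {H : Type*} [Group H] (N : Subgroup H) : Type _ :=
  {q : H × H // q.1 ∈ N ∧ q.2 ∈ N ∧ q.1 * q.2 ≠ q.2 * q.1}

/-- Conjugation action on the non-commuting pairs of a normal subgroup. -/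
instance ncAction {H : Type*} [Group H] (N : Subgroup H) [hN : N.Normal] :
    MulAction H (NCPair N) where
  smul h q := ⟨(h * q.1.1 * h⁻¹, h * q.1.2 * h⁻¹), hN.conj_mem _ q.2.1 h,
    hN.conj_mem _ q.2.2.1 h, fun hh => q.2.2.2 (by
      have h1 : h * (q.1.1 * q.1.2) * h⁻¹ = h * (q.1.2 * q.1.1) * h⁻¹ := by
        simpa [mul_assoc] using hh
      simpa using h1)⟩
  one_smul q := Subtype.ext (Prod.ext (by show 1 * q.1.1 * 1⁻¹ = q.1.1; simp)
    (by show 1 * q.1.2 * 1⁻¹ = q.1.2; simp))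
  mul_smul g h q := Subtype.ext (Prod.ext
    (by show (g * h) * q.1.1 * (g * h)⁻¹ = g * (h * q.1.1 * h⁻¹) * g⁻¹; simp [mul_assoc])
    (by show (g * h) * q.1.2 * (g * h)⁻¹ = g * (h * q.1.2 * h⁻¹) * g⁻¹; simp [mul_assoc]))

theorem nc_smul_fst {H : Type*} [Group H] (N : Subgroup H) [hN : N.Normal] (h : H)
    (q : NCPair N) : (h • q).1.1 = h * q.1.1 * h⁻¹ := rfl

theorem nc_smul_snd {H : Type*} [Group H] (N : Subgroup H) [hN : N.Normal] (h : H)
    (q : NCPair N) : (h • q).1.2 = h * q.1.2 * h⁻¹ := rfl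

theorem nc_stab {H : Type*} [Group H] (N : Subgroup H) [hN : N.Normal]
    (e : N ≃* QuaternionGroup 2) (q : NCPair N) :
    MulAction.stabilizer H q = Subgroup.centralizer (N : Set H) := by
  ext h
  rw [MulAction.mem_stabilizer_iff, Subgroup.mem_centralizer_iff]
  constructor
  · intro hq
    have h1 : h * q.1.1 * h⁻¹ = q.1.1 := by rw [← nc_smul_fst, hq]
    have h2 : h * q.1.2 * h⁻¹ = q.1.2 := by rw [← nc_smul_snd, hq]
    have h1' : q.1.1 * h = h * q.1.1 := by
      rw [mul_inv_eq_iff_eq_mul] at h1; exact h1.symm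
    have h2' : q.1.2 * h = h * q.1.2 := by
      rw [mul_inv_eq_iff_eq_mul] at h2; exact h2.symm
    intro n hn
    have hxy : (⟨q.1.1, q.2.1⟩ : N) * ⟨q.1.2, q.2.2.1⟩ ≠ ⟨q.1.2, q.2.2.1⟩ * ⟨q.1.1, q.2.1⟩ :=
      fun hh => q.2.2.2 (congrArg Subtype.val hh)
    exact q8_ind' e hxy (fun n : N => (n : H) * h = h * (n : H)) (by simp) h2'
      (fun g hg => by
        show q.1.1 * (g : H) * h = h * (q.1.1 * (g : H))
        rw [mul_assoc, hg, ← mul_assoc, h1', mul_assoc]) ⟨n, hn⟩
  · intro hc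
    apply Subtype.ext
    apply Prod.ext
    · rw [nc_smul_fst, mul_inv_eq_iff_eq_mul]; exact (hc _ q.2.1).symm
    · rw [nc_smul_snd, mul_inv_eq_iff_eq_mul]; exact (hc _ q.2.2.1).symm

theorem nc_card {H : Type*} [Group H] (N : Subgroup H) (e : N ≃* QuaternionGroup 2) :
    Nat.card (NCPair N) = 24 := by
  let f : NCPair N ≃
      {r : QuaternionGroup 2 × QuaternionGroup 2 // r.1 * r.2 ≠ r.2 * r.1} :=
    { toFun := fun q => ⟨(e ⟨q.1.1, q.2.1⟩, e ⟨q.1.2, q.2.2.1⟩), fun h => q.2.2.2 (by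
        rw [← map_mul, ← map_mul] at h
        exact congrArg Subtype.val (e.injective h))⟩
      invFun := fun r => ⟨((e.symm r.1.1 : H), (e.symm r.1.2 : H)), (e.symm r.1.1).2,
        (e.symm r.1.2).2, fun h => r.2 (by
          have h1 : e.symm r.1.1 * e.symm r.1.2 = e.symm r.1.2 * e.symm r.1.1 := Subtype.ext h
          rw [← map_mul, ← map_mul] at h1
          exact e.symm.injective h1)⟩
      left_inv := fun q => Subtype.ext (Prod.ext (by simp) (by simp))
      right_inv := fun r => Subtype.ext (Prod.ext (by simp) (by simp)) }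
  rw [Nat.card_congr f, Nat.card_eq_fintype_card, q8_pairs_card]

/-- A central subgroup of a quaternion group of order 8 lies in a normal abelian subgroup that
is not central. -/
theorem q8_no_central_max {K : Type*} [Group K] (e : K ≃* QuaternionGroup 2) (A : Subgroup K)
    (hA : ∀ x ∈ A, ∀ k : K, x * k = k * x) :
    ∃ B : Subgroup K, B.Normal ∧ IsMulCommutative B ∧ A ≤ B ∧ ∃ b ∈ B, ∃ k : K, b * k ≠ k * b := by
  have hZn : (Subgroup.zpowers (a 1 : QuaternionGroup 2)).Normal := by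
    constructor
    intro n hn g
    obtain ⟨k, rfl⟩ := Subgroup.mem_zpowers_iff.1 hn
    have h1 : g * a 1 ^ k * g⁻¹ = (g * a 1 * g⁻¹) ^ k := by
      rw [conj_zpow]
    rw [h1]
    apply Subgroup.zpow_mem
    rcases q8_conj g with h | h <;> rw [h]
    · exact Subgroup.mem_zpowers _
    · exact Subgroup.mul_mem _ (Subgroup.mul_mem _ (Subgroup.mem_zpowers _)
        (Subgroup.mem_zpowers _)) (Subgroup.mem_zpowers _)
  refine ⟨(Subgroup.zpowers (a 1 : QuaternionGroup 2)).comap e.toMonoidHom, hZn.comap _,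
    ⟨⟨fun x y => ?_⟩⟩, ?_, e.symm (a 1), ?_, e.symm (xa 0), ?_⟩
  · apply Subtype.ext
    apply e.injective
    obtain ⟨i, hi⟩ := Subgroup.mem_zpowers_iff.1 (Subgroup.mem_comap.1 x.2)
    obtain ⟨j, hj⟩ := Subgroup.mem_zpowers_iff.1 (Subgroup.mem_comap.1 y.2)
    have hi' : e (x : K) = a 1 ^ i := hi.symm
    have hj' : e (y : K) = a 1 ^ j := hj.symm
    show e ((x : K) * (y : K)) = e ((y : K) * (x : K))
    rw [map_mul, map_mul, hi', hj', ← zpow_add, ← zpow_add, add_comm]
  · intro x hx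
    rw [Subgroup.mem_comap]
    have hc : ∀ r, e x * r = r * e x := by
      intro r
      have h1 := hA x hx (e.symm r)
      have h2 := congrArg e h1
      simpa using h2
    show e x ∈ Subgroup.zpowers (a 1 : QuaternionGroup 2)
    rcases q8_center (e x) hc with h | h <;> rw [h]
    · exact Subgroup.one_mem _
    · exact Subgroup.mul_mem _ (Subgroup.mem_zpowers _) (Subgroup.mem_zpowers _)
  · rw [Subgroup.mem_comap]
    show e (e.symm (a 1)) ∈ Subgroup.zpowers (a 1 : QuaternionGroup 2)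
    rw [MulEquiv.apply_symm_apply]
    exact Subgroup.mem_zpowers _
  · rw [← map_mul, ← map_mul]
    intro h
    exact absurd (e.symm.injective h) (by decide)

variable {p : ℕ} [Fact p.Prime] {V : Type*} [AddCommGroup V] [Module (ZMod p) V] [Finite V]

/-- `|H| + 1 = |V|` for `H` regular on the non-zero vectors. -/
theorem card_of_reg [Nontrivial V] (H : Subgroup (V ≃ₗ[ZMod p] V))
    (hreg : ∀ v w : V, v ≠ 0 → w ≠ 0 → ∃! h : H, (h : V ≃ₗ[ZMod p] V) v = w) :
    Nat.card H + 1 = Nat.card V := by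
  classical
  obtain ⟨v₀, hv₀⟩ := exists_ne (0 : V)
  have hbij : Function.Bijective (fun h : H =>
      (⟨(h : V ≃ₗ[ZMod p] V) v₀, fun h0 => hv₀ (by simpa using h0)⟩ : {v : V // v ≠ 0})) := by
    constructor
    · intro h h' hh
      have h1 : (h : V ≃ₗ[ZMod p] V) v₀ = (h' : V ≃ₗ[ZMod p] V) v₀ := congrArg Subtype.val hh
      have h2 : (h' : V ≃ₗ[ZMod p] V) v₀ ≠ 0 := fun h0 => hv₀ (by simpa using h0)
      exact (hreg v₀ _ hv₀ h2).unique h1 rfl
    · rintro ⟨w, hw⟩
      obtain ⟨h, hh, -⟩ := hreg v₀ w hv₀ hw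
      exact ⟨h, Subtype.ext hh⟩
  rw [Nat.card_congr (Equiv.ofBijective _ hbij), ← Finite.card_option,
    Nat.card_congr (Equiv.optionSubtypeNe (0 : V))]

/-- An involution of a fixed-point-free group acts as `-1`. -/
theorem invol_neg {G : Type*} [Group G] {ρ : G →* (V ≃ₗ[ZMod p] V)} (hf : IsFpf ρ) {z : G}
    (hz2 : z * z = 1) (hz1 : z ≠ 1) (v : V) : ρ z v = -v := by
  have h1 : ρ z (ρ z v + v) = ρ z v + v := by
    rw [map_add, ← rho_mul, hz2, rho_one, add_comm]
  have h2 := hf z hz1 _ h1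
  exact eq_neg_of_add_eq_zero_left h2

/-- If `H ≤ GL(V)` over `ZMod p` is regular on the non-zero vectors and has a normal subgroup
isomorphic to the quaternion group of order 8, then `p` is odd, `|V| = p ^ 2` and
`p + 1 ∣ 24`. -/
theorem quat_normal (H : Subgroup (V ≃ₗ[ZMod p] V))
    (hreg : ∀ v w : V, v ≠ 0 → w ≠ 0 → ∃! h : H, (h : V ≃ₗ[ZMod p] V) v = w)
    (N : Subgroup H) (hNn : N.Normal) (e : N ≃* QuaternionGroup 2) :
    (2 : ZMod p) ≠ 0 ∧ Nat.card V = p ^ 2 ∧ (p + 1) ∣ 24 := by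
  classical
  obtain ⟨sN, hsN⟩ : ∃ sN : N, sN = e.symm (a 1) := ⟨_, rfl⟩
  obtain ⟨tN, htN⟩ : ∃ tN : N, tN = e.symm (xa 0) := ⟨_, rfl⟩
  have hst : sN * tN ≠ tN * sN := by
    rw [hsN, htN, ← map_mul, ← map_mul]
    intro h
    exact absurd (e.symm.injective h) (by decide)
  have hss : sN * sN * (sN * sN) = 1 := by
    rw [hsN, ← map_mul, ← map_mul,
      show (a 1 : QuaternionGroup 2) * a 1 * (a 1 * a 1) = 1 from by decide, map_one]
  have htt : tN * tN = sN * sN := by
    rw [hsN, htN, ← map_mul, ← map_mul,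
      show (xa 0 : QuaternionGroup 2) * xa 0 = a 1 * a 1 from by decide]
  have hstz : sN * tN = tN * sN * (sN * sN) := by
    rw [hsN, htN]
    simp only [← map_mul]
    rw [show (a 1 : QuaternionGroup 2) * xa 0 = xa 0 * a 1 * (a 1 * a 1) from by decide]
  have hz1 : sN * sN ≠ 1 := by
    rw [hsN, ← map_mul]
    intro h
    rw [← map_one e.symm] at h
    exact absurd (e.symm.injective h) (by decide)
  have hNna : ¬ IsMulCommutative N := fun h => hst (mul_comm' sN tN)
  haveI : Nontrivial V := nontrivial_of_noncomm H N hNna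
  have hf := fpf_of_reg H hreg
  haveI : Finite H := finite_of_fpf hf
  obtain ⟨s, hs⟩ : ∃ s : V ≃ₗ[ZMod p] V, s = ((sN : H) : V ≃ₗ[ZMod p] V) := ⟨_, rfl⟩
  obtain ⟨t, ht⟩ : ∃ t : V ≃ₗ[ZMod p] V, t = ((tN : H) : V ≃ₗ[ZMod p] V) := ⟨_, rfl⟩
  have hzneg : ∀ v, s (s v) = -v := by
    intro v
    have h1 := invol_neg hf (z := ((sN * sN : N) : H))
      (by exact_mod_cast congrArg Subtype.val hss) (fun h => hz1 (Subtype.ext h)) v
    rw [hs]; exact h1
  have htneg : ∀ v, t (t v) = -v := by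
    intro v
    have h2 : ((tN * tN : N) : H) = ((sN * sN : N) : H) := congrArg Subtype.val htt
    have h3 := congrArg (fun g : H => (g : V ≃ₗ[ZMod p] V) v) h2
    rw [← hzneg v, hs, ht]; exact h3
  have hanti : ∀ v, s (t v) = -(t (s v)) := by
    intro v
    have h2 : ((sN * tN : N) : H) = ((tN * sN * (sN * sN) : N) : H) := congrArg Subtype.val hstz
    have h3 := congrArg (fun g : H => (g : V ≃ₗ[ZMod p] V) v) h2
    have h4 : s (t v) = t (s (s (s v))) := by rw [hs, ht]; exact h3
    rw [h4, hzneg, map_neg]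
  have h2ne : (2 : ZMod p) ≠ 0 := by
    intro h2
    obtain ⟨v₀, hv₀⟩ := exists_ne (0 : V)
    have h3 : s (s v₀) = v₀ := by
      rw [hzneg]
      have h4 : (2 : ZMod p) • v₀ = 0 := by rw [h2, zero_smul]
      rw [two_smul] at h4
      exact (eq_neg_of_add_eq_zero_left h4).symm
    rw [hs] at h3
    exact hv₀ (hf ((sN * sN : N) : H) (fun h => hz1 (Subtype.ext h)) v₀ h3)
  obtain ⟨ca, cb, hab⟩ := ZMod.sq_add_sq p (-1)
  have hab' : ca * ca + cb * cb = -1 := by rw [← hab]; ring
  obtain ⟨U, hU⟩ : ∃ U : V →ₗ[ZMod p] V, ∀ v, U v = ca • s v + cb • t v :=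
    ⟨ca • (s : V →ₗ[ZMod p] V) + cb • (t : V →ₗ[ZMod p] V), fun v => rfl⟩
  have hUU : ∀ v, U (U v) = v := by
    intro v
    rw [hU (U v), hU v]
    simp only [map_add, map_smul, hzneg, htneg, hanti]
    have h1 : (ca * ca + cb * cb) • v = -v := by rw [hab', neg_one_smul]
    have h2 : ca • (ca • -v + cb • -t (s v)) + cb • (ca • t (s v) + cb • -v)
        = -((ca * ca + cb * cb) • v) := by module
    rw [h2, h1, neg_neg]
  obtain ⟨v₀, hv₀⟩ := exists_ne (0 : V)
  obtain ⟨v', hv', ε, hε, hUv⟩ : ∃ v' : V, v' ≠ 0 ∧ ∃ ε : ZMod p, ε * ε = 1 ∧ U v' = ε • v' := by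
    by_cases h : U v₀ + v₀ = 0
    · refine ⟨v₀, hv₀, -1, by ring, ?_⟩
      rw [neg_one_smul]; exact eq_neg_of_add_eq_zero_left h
    · refine ⟨U v₀ + v₀, h, 1, by ring, ?_⟩
      rw [map_add, hUU, one_smul, add_comm]
  obtain ⟨w, hw⟩ : ∃ w : V, w = s (t v') := ⟨_, rfl⟩
  have E1 : ca • s v' + cb • t v' = ε • v' := by rw [← hU]; exact hUv
  have E2 : ca • t v' - cb • s v' = ε • w := by
    have h := congrArg (fun x => s (t x)) E1
    simp only [map_add, map_smul] at h
    have h1 : s (t (s v')) = t v' := by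
      rw [hanti (s v'), hzneg, map_neg, neg_neg]
    have h2 : s (t (t v')) = - s v' := by rw [htneg, map_neg]
    rw [h1, h2, ← hw] at h
    rw [← h]; module
  have hX : s v' = ε • (cb • w - ca • v') := by
    have h : (ca * ca + cb * cb) • s v' = ca • (ε • v') - cb • (ε • w) := by
      rw [← E1, ← E2]; module
    rw [hab', neg_one_smul] at h
    rw [← neg_neg (s v'), h]; module
  have hY : t v' = -(ε • (cb • v' + ca • w)) := by
    have h : (ca * ca + cb * cb) • t v' = cb • (ε • v') + ca • (ε • w) := by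
      rw [← E1, ← E2]; module
    rw [hab', neg_one_smul] at h
    rw [← neg_neg (t v'), h]; module
  have hsw : s w = - t v' := by rw [hw, hzneg]
  have htw : t w = s v' := by
    have h := hanti (t v')
    rw [htneg, map_neg] at h
    rw [hw]; exact (neg_injective h).symm
  obtain ⟨W, hWdef⟩ : ∃ W : Submodule (ZMod p) V, W = Submodule.span (ZMod p) {v', w} :=
    ⟨_, rfl⟩
  have hv'W : v' ∈ W := by rw [hWdef]; exact Submodule.subset_span (by simp)
  have hwW : w ∈ W := by rw [hWdef]; exact Submodule.subset_span (by simp)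
  have hXW : s v' ∈ W := by
    rw [hX]
    exact W.smul_mem _ (W.sub_mem (W.smul_mem _ hwW) (W.smul_mem _ hv'W))
  have hYW : t v' ∈ W := by
    rw [hY]
    exact W.neg_mem (W.smul_mem _ (W.add_mem (W.smul_mem _ hv'W) (W.smul_mem _ hwW)))
  have hsW : ∀ x ∈ W, s x ∈ W := by
    intro x hx
    rw [hWdef] at hx
    obtain ⟨c, d, rfl⟩ := Submodule.mem_span_pair.1 hx
    rw [map_add, map_smul, map_smul, hsw]
    exact W.add_mem (W.smul_mem _ hXW) (W.smul_mem _ (W.neg_mem hYW))
  have htW : ∀ x ∈ W, t x ∈ W := by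
    intro x hx
    rw [hWdef] at hx
    obtain ⟨c, d, rfl⟩ := Submodule.mem_span_pair.1 hx
    rw [map_add, map_smul, map_smul, htw]
    exact W.add_mem (W.smul_mem _ hYW) (W.smul_mem _ hXW)
  have hNW : ∀ n ∈ N, ∀ v ∈ W, ((n : H) : V ≃ₗ[ZMod p] V) v ∈ W := by
    intro n hn
    exact q8_ind' e hst (fun n : N => ∀ v ∈ W, ((n : H) : V ≃ₗ[ZMod p] V) v ∈ W)
      (fun v hv => hv) (fun v hv => by rw [← ht]; exact htW v hv)
      (fun g hg v hv => by
        have h1 := hsW _ (hg v hv)
        rw [hs] at h1; exact h1) ⟨n, hn⟩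
  have hWtop : W = ⊤ := by
    rcases irreducible_of_reg H hreg N hNn hNna W hNW with h | h
    · rw [h] at hv'W
      exact absurd ((Submodule.mem_bot _).1 hv'W) hv'
    · exact h
  have hUw : U w = -(ε • w) := by
    rw [hU, hsw, htw, ← E2]; module
  have hw0 : w ≠ 0 := by
    rw [hw]; simpa using hv'
  have hε0 : ε ≠ 0 := by
    rintro rfl
    simp at hε
  have key0 : ∀ y : ZMod p, (2 * ε * y) • w = 0 → y = 0 := by
    intro y h2
    rcases smul_eq_zero.1 h2 with h3 | h3
    · rcases mul_eq_zero.1 h3 with h4 | h4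
      · rcases mul_eq_zero.1 h4 with h5 | h5
        · exact absurd h5 h2ne
        · exact absurd h5 hε0
      · exact h4
    · exact absurd h3 hw0
  have hind : ∀ c d : ZMod p, c • v' + d • w = 0 → c = 0 ∧ d = 0 := by
    intro c d h
    have h1 := congrArg U h
    rw [map_add, map_smul, map_smul, hUv, hUw, map_zero] at h1
    have h2 : (2 * ε * d) • w = 0 := by
      have h3 : (2 * ε * d) • w = ε • (c • v' + d • w) - (c • ε • v' + d • -(ε • w)) := by
        module
      rw [h3, h, h1]; simp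
    have hd : d = 0 := key0 d h2
    subst hd
    rw [zero_smul, add_zero] at h
    rcases smul_eq_zero.1 h with h3 | h3
    · exact ⟨h3, rfl⟩
    · exact absurd h3 hv'
  have hcard : Nat.card V = p ^ 2 := by
    have hφ : Function.Bijective (fun x : ZMod p × ZMod p => x.1 • v' + x.2 • w) := by
      constructor
      · rintro ⟨c, d⟩ ⟨c', d'⟩ h
        have h' : c • v' + d • w = c' • v' + d' • w := h
        have h1 : (c - c') • v' + (d - d') • w = 0 := by
          have h2 : (c - c') • v' + (d - d') • w = (c • v' + d • w) - (c' • v' + d' • w) := by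
            module
          rw [h2, h', sub_self]
        obtain ⟨h2, h3⟩ := hind _ _ h1
        rw [sub_eq_zero.1 h2, sub_eq_zero.1 h3]
      · intro x
        have hx : x ∈ W := by rw [hWtop]; trivial
        rw [hWdef] at hx
        obtain ⟨c, d, rfl⟩ := Submodule.mem_span_pair.1 hx
        exact ⟨(c, d), rfl⟩
    rw [← Nat.card_congr (Equiv.ofBijective _ hφ), Nat.card_prod, Nat.card_zmod, sq]
  obtain ⟨C, hC⟩ : ∃ C : Subgroup H, C = Subgroup.centralizer (N : Set H) := ⟨_, rfl⟩
  have hCinv : ∀ c ∈ C, ∀ v ∈ Submodule.span (ZMod p) {v'},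
      ((c : H) : V ≃ₗ[ZMod p] V) v ∈ Submodule.span (ZMod p) {v'} := by
    intro c hc v hv
    obtain ⟨k, rfl⟩ := Submodule.mem_span_singleton.1 hv
    rw [map_smul]
    apply Submodule.smul_mem
    rw [hC] at hc
    have hcs : ∀ x, (c : V ≃ₗ[ZMod p] V) (s x) = s ((c : V ≃ₗ[ZMod p] V) x) := by
      intro x
      have h1 := Subgroup.mem_centralizer_iff.1 hc (sN : H) sN.2
      have h2 := congrArg (fun g : H => (g : V ≃ₗ[ZMod p] V) x) h1
      rw [hs]; exact h2.symm
    have hct : ∀ x, (c : V ≃ₗ[ZMod p] V) (t x) = t ((c : V ≃ₗ[ZMod p] V) x) := by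
      intro x
      have h1 := Subgroup.mem_centralizer_iff.1 hc (tN : H) tN.2
      have h2 := congrArg (fun g : H => (g : V ≃ₗ[ZMod p] V) x) h1
      rw [ht]; exact h2.symm
    have hUc : U ((c : V ≃ₗ[ZMod p] V) v') = ε • (c : V ≃ₗ[ZMod p] V) v' := by
      calc U ((c : V ≃ₗ[ZMod p] V) v')
          = ca • s ((c : V ≃ₗ[ZMod p] V) v') + cb • t ((c : V ≃ₗ[ZMod p] V) v') := hU _
        _ = ca • (c : V ≃ₗ[ZMod p] V) (s v') + cb • (c : V ≃ₗ[ZMod p] V) (t v') := by
            rw [hcs, hct]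
        _ = (c : V ≃ₗ[ZMod p] V) (ca • s v' + cb • t v') := by
            rw [map_add, map_smul, map_smul]
        _ = ε • (c : V ≃ₗ[ZMod p] V) v' := by rw [E1, map_smul]
    have hx : (c : V ≃ₗ[ZMod p] V) v' ∈ W := by rw [hWtop]; trivial
    rw [hWdef] at hx
    obtain ⟨x, y, hxy⟩ := Submodule.mem_span_pair.1 hx
    rw [← hxy] at hUc ⊢
    rw [map_add, map_smul, map_smul, hUv, hUw] at hUc
    have h2 : (2 * ε * y) • w = 0 := by
      have h3 : (2 * ε * y) • w = ε • (x • v' + y • w) - (x • ε • v' + y • -(ε • w)) := by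
        module
      rw [h3, hUc, sub_self]
    have hy : y = 0 := key0 y h2
    subst hy
    rw [zero_smul, add_zero]
    exact Submodule.smul_mem _ _ (Submodule.mem_span_singleton_self v')
  have hCcard : Nat.card C ∣ p - 1 := by
    have h := Cfsg.Agent.S0684.card_dvd_of_free H C (Submodule.span (ZMod p) {v'}) hCinv
      (fun c _ v _ hv0 hcv => by
        by_contra hc1
        exact hv0 (hf c hc1 v hcv))
    rwa [finrank_span_singleton hv', pow_one] at h
  haveI := hNn
  haveI : Finite (NCPair N) := by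
    unfold NCPair; infer_instance
  have hidx : C.index ∣ 24 := by
    have h := index_dvd_card_of_stabilizer_eq (G := H) (Ω := NCPair N) C
      (fun q => by rw [hC]; exact nc_stab N e q)
    rwa [nc_card N e] at h
  have hH : Nat.card H + 1 = p ^ 2 := by rw [card_of_reg H hreg, hcard]
  have hidx2 := Subgroup.index_mul_card C
  obtain ⟨k, hk⟩ := hCcard
  have hp1 : 1 ≤ p := (Fact.out : p.Prime).one_le
  have h7 : (p - 1) * (p + 1) + 1 = p ^ 2 := by
    obtain ⟨m, rfl⟩ : ∃ m, p = m + 1 := ⟨p - 1, by omega⟩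
    simp only [Nat.add_sub_cancel]; ring
  have h8 : (p - 1) * (p + 1) = Nat.card H := Nat.add_right_cancel (h7.trans hH.symm)
  have hCpos : 0 < Nat.card C := Nat.card_pos
  have h5 : k * (p + 1) = C.index := by
    apply Nat.eq_of_mul_eq_mul_left hCpos
    rw [← mul_assoc, ← hk, h8, ← hidx2, mul_comm]
  exact ⟨h2ne, hcard, (Dvd.intro_left k h5).trans hidx⟩

end Cfsg.Agent.Lib.Helper12.QuatReg
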