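import Mathlib
import Cfsg.Agent.Lib.Helper12.QuatReg
import Cfsg.Agent.Lib.Helper56.SmallSolvable

/-!
Group-theoretic preliminaries for perfect fixed-point-free groups (helper12): coprime powers,
perfect groups have no solvable quotients, the subgroup generated by the elements of order
three, quaternion groups of order eight and their normalizers.
-/

set_option autoImplicit false

namespace Cfsg.Agent.Lib.Helper12.PerfA

open Subgroup
open Cfsg.Agent.Lib.Helper12.QuatReg

theorem pow_mem_of_coprime {G : Type*} [Group G] (H : Subgroup G) (g : G) {a b : ℕ}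
    (hab : Nat.Coprime a b) (ha : g ^ a ∈ H) (hb : g ^ b ∈ H) : g ∈ H := by
  have h1 : g ^ ((a : ℤ) * Nat.gcdA a b + (b : ℤ) * Nat.gcdB a b) ∈ H := by
    rw [zpow_add, zpow_mul, zpow_mul, zpow_natCast, zpow_natCast]
    exact mul_mem (zpow_mem ha _) (zpow_mem hb _)
  have h2 : Nat.gcd a b = 1 := hab
  rw [← Nat.gcd_eq_gcd_ab, h2, Nat.cast_one, zpow_one] at h1
  exact h1

theorem subsingleton_of_perfect {G H : Type*} [Group G] [Group H] (hperf : commutator G = ⊤)
    (f : G →* H) (hf : Function.Surjective f) [Group.IsSolvable H] : Subsingleton H := by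
  haveI : Group.IsPerfect G := ⟨hperf⟩
  haveI : Group.IsPerfect H := Group.IsPerfect.ofSurjective hf
  by_contra hns
  rw [not_subsingleton_iff_nontrivial] at hns
  exact Group.IsPerfect.not_isSolvable H inferInstance

theorem cubes_normal (G : Type*) [Group G] : (closure {g : G | g ^ 3 = 1}).Normal := by
  constructor
  intro n hn g
  induction hn using closure_induction with
  | mem y hy =>
    apply Subgroup.subset_closure
    have hy' : y ^ 3 = 1 := hy
    show (g * y * g⁻¹) ^ 3 = 1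
    rw [conj_pow, hy']; group
  | one => simp
  | mul a b _ _ iha ihb =>
    have e : g * (a * b) * g⁻¹ = (g * a * g⁻¹) * (g * b * g⁻¹) := by group
    rw [e]; exact mul_mem iha ihb
  | inv a _ ih =>
    have e : g * a⁻¹ * g⁻¹ = (g * a * g⁻¹)⁻¹ := by group
    rw [e]; exact inv_mem ih

/-! ### the quaternion group of order eight -/

set_option maxRecDepth 100000 in
theorem q8_inv : ∀ s t : QuaternionGroup 2, s * t ≠ t * s →
    s * s * s * s = 1 ∧ s * s ≠ 1 ∧ t * s * t⁻¹ = s⁻¹ ∧ t⁻¹ * s * t = s⁻¹ ∧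
      s * t = s⁻¹ * t⁻¹ := by
  decide

set_option maxRecDepth 100000 in
theorem q8_third : ∀ s t u : QuaternionGroup 2, s * t ≠ t * s → t * u ≠ u * t →
    u * s ≠ s * u → u = s * t ∨ u = (s * t)⁻¹ := by
  decide

set_option maxRecDepth 100000 in
theorem q8_comm : ∀ q q' : QuaternionGroup 2, q * q' = q' * q → q' ≠ q → (q = 1 ↔ q' = 1) →
    (q * q = 1 ↔ q' * q' = 1) → q' = q⁻¹ := by
  decide

theorem k8_inv {K : Type*} [Group K] (e : K ≃* QuaternionGroup 2) {s t : K}
    (h : s * t ≠ t * s) :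
    s ^ 4 = 1 ∧ s ^ 2 ≠ 1 ∧ t * s * t⁻¹ = s⁻¹ ∧ t⁻¹ * s * t = s⁻¹ ∧ s * t = s⁻¹ * t⁻¹ := by
  obtain ⟨k1, k2, k3, k4, k5⟩ := q8_inv (e s) (e t)
    (by rw [← map_mul, ← map_mul]; exact fun hh => h (e.injective hh))
  refine ⟨e.injective ?_, fun hh => k2 ?_, e.injective ?_, e.injective ?_, e.injective ?_⟩
  · rw [map_one, ← k1]; simp [pow_succ]
  · rw [← map_mul, ← pow_two, hh, map_one]
  · simpa using k3
  · simpa using k4
  · simpa using k5

theorem k8_third {K : Type*} [Group K] (e : K ≃* QuaternionGroup 2) {s t u : K}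
    (h1 : s * t ≠ t * s) (h2 : t * u ≠ u * t) (h3 : u * s ≠ s * u) :
    u = s * t ∨ u = (s * t)⁻¹ := by
  rcases q8_third (e s) (e t) (e u)
    (by rw [← map_mul, ← map_mul]; exact fun hh => h1 (e.injective hh))
    (by rw [← map_mul, ← map_mul]; exact fun hh => h2 (e.injective hh))
    (by rw [← map_mul, ← map_mul]; exact fun hh => h3 (e.injective hh)) with k | k
  · left; apply e.injective; simpa using k
  · right; apply e.injective; simpa using k

theorem k8_comm {K : Type*} [Group K] (e : K ≃* QuaternionGroup 2) {q q' : K}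
    (hc : q * q' = q' * q) (hne : q' ≠ q) (h1 : q = 1 ↔ q' = 1)
    (h2 : q ^ 2 = 1 ↔ q' ^ 2 = 1) : q' = q⁻¹ := by
  have k := q8_comm (e q) (e q') (by rw [← map_mul, ← map_mul, hc])
    (fun hh => hne (e.injective hh))
    (by rw [EmbeddingLike.map_eq_one_iff, EmbeddingLike.map_eq_one_iff]; exact h1)
    (by rw [← map_mul, ← map_mul, EmbeddingLike.map_eq_one_iff, EmbeddingLike.map_eq_one_iff,
      ← pow_two, ← pow_two]; exact h2)
  apply e.injective; simpa using k

theorem k8_card {K : Type*} [Group K] (e : K ≃* QuaternionGroup 2) : Nat.card K = 8 := by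
  rw [Nat.card_congr e.toEquiv, Nat.card_eq_fintype_card, QuaternionGroup.card]

theorem k8_pgroup {K : Type*} [Group K] (e : K ≃* QuaternionGroup 2) : IsPGroup 2 K :=
  IsPGroup.of_card (n := 3) (by rw [k8_card e]; norm_num)

/-- A non-commuting pair generates. -/
theorem k8_gen {K : Type*} [Group K] (e : K ≃* QuaternionGroup 2) {s t : K}
    (h : s * t ≠ t * s) (g : K) : g ∈ closure ({s, t} : Set K) := by
  apply q8_ind' e h (fun g => g ∈ closure ({s, t} : Set K))
  · exact one_mem _
  · exact Subgroup.subset_closure (by simp)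
  · intro g hg
    exact mul_mem (Subgroup.subset_closure (by simp)) hg

/-- There is a non-commuting pair. -/
theorem k8_exists {K : Type*} [Group K] (e : K ≃* QuaternionGroup 2) :
    ∃ s t : K, s * t ≠ t * s := by
  refine ⟨e.symm (QuaternionGroup.a 1), e.symm (QuaternionGroup.xa 0), ?_⟩
  rw [← map_mul, ← map_mul]
  intro h
  exact absurd (e.symm.injective h) (by decide)

/-- The normalizer of a quaternion group of order eight acts on it through a group of order
dividing `24`. -/
theorem pow24_centralizes {H : Type*} [Group H] [Finite H] (Q : Subgroup H)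
    (e : Q ≃* QuaternionGroup 2) {g : H} (hg : g ∈ normalizer (Q : Set H)) :
    g ^ 24 ∈ centralizer (Q : Set H) := by
  obtain ⟨N, hN⟩ : ∃ N : Subgroup H, N = normalizer (Q : Set H) := ⟨_, rfl⟩
  have hQN : Q ≤ N := by rw [hN]; exact le_normalizer
  haveI : (Q.subgroupOf N).Normal := by
    rw [hN]; exact normal_in_normalizer
  have e' : (Q.subgroupOf N) ≃* QuaternionGroup 2 := (subgroupOfEquivOfLe hQN).trans e
  haveI : Finite (NCPair (Q.subgroupOf N)) := by
    unfold NCPair; infer_instance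
  have hdvd := index_dvd_card_of_stabilizer_eq (centralizer ((Q.subgroupOf N : Subgroup N) : Set N))
    (fun q : NCPair (Q.subgroupOf N) => nc_stab (Q.subgroupOf N) e' q)
  rw [nc_card (Q.subgroupOf N) e'] at hdvd
  have hgN : g ∈ N := by rw [hN]; exact hg
  have hpow : (⟨g, hgN⟩ : N) ^ 24 ∈ centralizer ((Q.subgroupOf N : Subgroup N) : Set N) := by
    obtain ⟨k, hk⟩ := hdvd
    rw [hk, pow_mul]
    exact pow_mem ((centralizer ((Q.subgroupOf N : Subgroup N) : Set N)).pow_index_mem _) _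
  rw [mem_centralizer_iff] at hpow ⊢
  intro q hq
  have h1 := hpow ⟨q, hQN hq⟩ (by rw [SetLike.mem_coe, mem_subgroupOf]; exact hq)
  exact congrArg Subtype.val h1

/-- An element of odd order normalizing but not centralizing a quaternion group of order eight
has order divisible by three and its cube centralizes. -/
theorem cube_centralizes {H : Type*} [Group H] [Finite H] (Q : Subgroup H)
    (e : Q ≃* QuaternionGroup 2) {g : H} (hg : g ∈ normalizer (Q : Set H)) {m : ℕ}
    (hm : g ^ m = 1) (hodd : ¬ 2 ∣ m) (hnc : g ∉ centralizer (Q : Set H)) :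
    3 ∣ m ∧ g ^ 3 ∈ centralizer (Q : Set H) := by
  have h24 := pow24_centralizes Q e hg
  have h3 : g ^ 3 ∈ centralizer (Q : Set H) := by
    apply pow_mem_of_coprime (a := 8) (b := m) _ _ _
    · rw [← pow_mul]; exact h24
    · rw [← pow_mul, mul_comm, pow_mul, hm, one_pow]; exact one_mem _
    · have h2 : Nat.Coprime 2 m := (Nat.Prime.coprime_iff_not_dvd Nat.prime_two).mpr hodd
      exact Nat.Coprime.pow_left 3 h2
  refine ⟨?_, h3⟩
  by_contra h3m
  apply hnc
  apply pow_mem_of_coprime (a := 3) (b := m) _ _ _ h3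
  · rw [hm]; exact one_mem _
  · exact (Nat.Prime.coprime_iff_not_dvd Nat.prime_three).mpr h3m

/-- A `2`-subgroup normalizing a `2`-subgroup `Q` of maximal order inside `L` lies in `Q`. -/
theorem two_sub_le {G : Type*} [Group G] [Finite G] {Q R L : Subgroup G} (hQ : IsPGroup 2 Q)
    (hR : IsPGroup 2 R) (hRn : R ≤ normalizer (Q : Set G)) (hQL : Q ≤ L) (hRL : R ≤ L)
    (hcard : ∀ k, 2 ^ k ∣ Nat.card L → 2 ^ k ≤ Nat.card Q) : R ≤ Q := by
  haveI : Fact (Nat.Prime 2) := ⟨Nat.prime_two⟩
  have hS : IsPGroup 2 (R ⊔ Q : Subgroup G) := IsPGroup.to_sup_of_normal_right' hR hQ hRn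
  obtain ⟨k, hk⟩ := IsPGroup.iff_card.mp hS
  have hSL : R ⊔ Q ≤ L := sup_le hRL hQL
  have h1 : 2 ^ k ∣ Nat.card L := by
    rw [← hk]; exact card_dvd_of_le hSL
  have h2 := hcard k h1
  have h3 : Q = R ⊔ Q := eq_of_le_of_card_ge le_sup_right (by rw [hk]; exact h2)
  rw [h3]; exact le_sup_left

theorem pow2_le_8_of_dvd_120 (k : ℕ) (h : 2 ^ k ∣ 120) : 2 ^ k ≤ 8 := by
  by_contra hlt
  have hk : 4 ≤ k := by
    by_contra hk
    have : k ≤ 3 := by omega
    have := Nat.pow_le_pow_right (n := 2) (by norm_num) this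
    omega
  have : 2 ^ 4 ∣ 120 := dvd_trans (pow_dvd_pow 2 hk) h
  omega

theorem pow2_le_8_of_dvd_24 (k : ℕ) (h : 2 ^ k ∣ 24) : 2 ^ k ≤ 8 :=
  pow2_le_8_of_dvd_120 k (dvd_trans h (by norm_num))

theorem zpowers_pgroup {G : Type*} [Group G] {v : G} (hv : v ^ 4 = 1) :
    IsPGroup 2 (zpowers v) := by
  intro g
  refine ⟨2, ?_⟩
  obtain ⟨k, hk⟩ := mem_zpowers_iff.mp g.2
  apply Subtype.ext
  rw [Subgroup.coe_pow, ← hk]
  show (v ^ k) ^ 2 ^ 2 = 1
  rw [← zpow_natCast, ← zpow_mul, mul_comm, zpow_mul, zpow_natCast]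
  norm_num
  rw [hv, one_zpow]

end Cfsg.Agent.Lib.Helper12.PerfA
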