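import Mathlib
import Cfsg.Agent.Lib.Helper12.FpfRing
import Cfsg.Agent.Lib.Helper12.Golden
import Cfsg.Agent.Lib.Helper12.GoldenK
import Cfsg.Agent.Lib.Helper12.PerfA
import Cfsg.Agent.Lib.Helper2.Frob
import Cfsg.Agent.Lib.Helper54.OddAutTwo

/-!
Quaternion subgroups of fixed-point-free groups normalized by elements of order three
(helper12).
-/

set_option autoImplicit false

namespace Cfsg.Agent.Lib.Helper12.PerfB

open Subgroup
open scoped Pointwise
open Cfsg.Agent.Lib.Helper12.FpfRing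
open Cfsg.Agent.Lib.Helper12.Golden
open Cfsg.Agent.Lib.Helper12.GoldenK
open Cfsg.Agent.Lib.Helper12.PerfA

/-- `x` normalizes the quaternion group `Q` of order eight and does not centralize it. -/
def QN {G : Type*} [Group G] (x : G) (Q : Subgroup G) : Prop :=
  Nonempty (Q ≃* QuaternionGroup 2) ∧ x ∈ normalizer (Q : Set G) ∧ x ∉ centralizer (Q : Set G)

theorem mem_cj {G : Type*} [Group G] (l : G) (Q : Subgroup G) (h : G) :
    h ∈ MulAut.conj l • Q ↔ l⁻¹ * h * l ∈ Q := by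
  rw [Subgroup.mem_pointwise_smul_iff_inv_smul_mem]
  simp [MulAut.smul_def]

theorem QN_conj {G : Type*} [Group G] {y : G} {Q : Subgroup G} (h : QN y Q) (l : G) :
    QN (l * y * l⁻¹) (MulAut.conj l • Q) := by
  obtain ⟨⟨e⟩, hn, hc⟩ := h
  refine ⟨⟨(Subgroup.equivSMul (MulAut.conj l) Q).symm.trans e⟩, ?_, ?_⟩
  · rw [mem_normalizer_iff]
    intro k
    rw [mem_cj, mem_cj]
    have e1 : l⁻¹ * (l * y * l⁻¹ * k * (l * y * l⁻¹)⁻¹) * l = y * (l⁻¹ * k * l) * y⁻¹ := by group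
    rw [e1]
    exact mem_normalizer_iff.mp hn _
  · intro hcen
    apply hc
    rw [mem_centralizer_iff] at hcen ⊢
    intro q hq
    have h1 : l * q * l⁻¹ ∈ MulAut.conj l • Q := by
      rw [mem_cj]
      have e1 : l⁻¹ * (l * q * l⁻¹) * l = q := by group
      rw [e1]; exact hq
    have h2 := hcen _ h1
    have e2 : q * y = l⁻¹ * (l * q * l⁻¹ * (l * y * l⁻¹)) * l := by group
    have e3 : y * q = l⁻¹ * (l * y * l⁻¹ * (l * q * l⁻¹)) * l := by group
    rw [e2, e3, h2]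

theorem QN_of_zpowers {G : Type*} [Group G] {x w : G} {Q : Subgroup G} (h : QN w Q)
    (hx : x ∈ zpowers w) (hw : w ∈ zpowers x) : QN x Q := by
  obtain ⟨he, hn, hc⟩ := h
  refine ⟨he, ?_, ?_⟩
  · exact (zpowers_le.mpr hn) hx
  · intro hcen
    exact hc ((zpowers_le.mpr hcen) hw)

theorem QN_card {G : Type*} [Group G] {x : G} {Q : Subgroup G} (h : QN x Q) : Nat.card Q = 8 := by
  obtain ⟨⟨e⟩, -, -⟩ := h
  exact k8_card e

theorem QN_not_mem {G : Type*} [Group G] {x : G} {Q : Subgroup G} (h : QN x Q) (hx1 : x ≠ 1)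
    (hx3 : x ^ 3 = 1) : x ∉ Q := by
  intro hx
  haveI : Fact (Nat.Prime 3) := ⟨Nat.prime_three⟩
  have h3 : orderOf x = 3 := orderOf_eq_prime hx3 hx1
  have h8 : orderOf (⟨x, hx⟩ : Q) ∣ Nat.card Q := orderOf_dvd_natCard _
  rw [Subgroup.orderOf_mk, h3, QN_card h] at h8
  omega

theorem QN_sup_card {G : Type*} [Group G] [Finite G] {x : G} {Q : Subgroup G} (h : QN x Q)
    (hx1 : x ≠ 1) (hx3 : x ^ 3 = 1) : Nat.card (zpowers x ⊔ Q : Subgroup G) = 24 := by
  haveI : Fact (Nat.Prime 3) := ⟨Nat.prime_three⟩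
  have h3 : Nat.card (zpowers x) = 3 := by
    rw [Nat.card_zpowers, orderOf_eq_prime hx3 hx1]
  have h8 := QN_card h
  have hle : zpowers x ≤ normalizer (Q : Set G) := zpowers_le.mpr h.2.1
  have hset := coe_mul_of_left_le_normalizer_right (zpowers x) Q hle
  have hub : Nat.card (zpowers x ⊔ Q : Subgroup G) ≤ 24 := by
    have h1 : Nat.card (zpowers x ⊔ Q : Subgroup G)
        = Nat.card ((zpowers x : Set G) * (Q : Set G) : Set G) := by
      rw [← hset]; rfl
    have h2 := Set.natCard_mul_le (s := (zpowers x : Set G)) (t := (Q : Set G))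
    have h3' : Nat.card (zpowers x : Set G) = 3 := h3
    have h8' : Nat.card (Q : Set G) = 8 := h8
    rw [h3', h8'] at h2
    omega
  have d3 : 3 ∣ Nat.card (zpowers x ⊔ Q : Subgroup G) := by
    have hd := card_dvd_of_le (le_sup_left : zpowers x ≤ zpowers x ⊔ Q)
    rwa [h3] at hd
  have d8 : 8 ∣ Nat.card (zpowers x ⊔ Q : Subgroup G) := by
    have hd := card_dvd_of_le (le_sup_right : Q ≤ zpowers x ⊔ Q)
    rwa [h8] at hd
  have hpos : 0 < Nat.card (zpowers x ⊔ Q : Subgroup G) := Nat.card_pos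
  omega

section Ring

variable {H : Type*} [Group H] {E : Type*} [Ring E] [Nontrivial E]

/-- Commuting elements of order three generate the same subgroup. -/
theorem comm_cubes {ρ : H →* E} (hf : IsFpfR ρ) {x y : H} (hx1 : x ≠ 1) (hx3 : x ^ 3 = 1)
    (hy1 : y ≠ 1) (hy3 : y ^ 3 = 1) (hc : x * y = y * x) : y = x ∨ y = x⁻¹ := by
  by_cases hxy : y = x
  · exact Or.inl hxy
  · right
    have hX := sq_of_cube hf hx1 hx3
    have hY := sq_of_cube hf hy1 hy3
    have hXY : ρ x * ρ y = ρ y * ρ x := by rw [← map_mul, hc, map_mul]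
    have hu : IsUnit (ρ y - ρ x) := by
      have hne : x⁻¹ * y ≠ 1 := fun h => hxy (by rw [inv_mul_eq_one] at h; exact h.symm)
      have e : ρ y - ρ x = ρ x * (ρ (x⁻¹ * y) - 1) := by
        rw [mul_sub, mul_one, ← map_mul, mul_inv_cancel_left]
      rw [e]; exact (isUnit_rho ρ x).mul (hf _ hne)
    have e0 : (ρ y - ρ x) * (ρ y + ρ x + 1) = 0 := by
      have : (ρ y - ρ x) * (ρ y + ρ x + 1)
          = ρ y * ρ y + ρ y - ρ x * ρ x - ρ x + (ρ y * ρ x - ρ x * ρ y) := by noncomm_ring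
      rw [this, hX, hY, hXY]; abel
    have e1 := hu.mul_right_eq_zero.mp e0
    apply inj hf
    rw [inv_of_cube hf hx1 hx3]
    have : ρ y = (ρ y + ρ x + 1) - ρ x - 1 := by abel
    rw [this, e1]; abel

/-- **Frobenius' criterion** in a fixed-point-free group. -/
theorem exists_q8 [Finite H] {ρ : H →* E} (hf : IsFpfR ρ) (P : Sylow 2 H)
    (hno : ∀ N : Subgroup H, N.Normal → N.IsComplement' (P : Subgroup H) → False) :
    ∃ (Q : Subgroup H) (g : H), Nonempty (Q ≃* QuaternionGroup 2) ∧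
      g ∈ normalizer (Q : Set H) ∧ g ∉ centralizer (Q : Set H) ∧ ¬ 2 ∣ orderOf g := by
  haveI : Fact (Nat.Prime 2) := ⟨Nat.prime_two⟩
  by_contra hcon
  obtain ⟨N, hN, hNc⟩ := Cfsg.Agent.Lib.Helper2.Frob.exists_normal_complement_of_cond P (by
    intro Q hQP g hg hcop
    by_contra hgc
    apply hcon
    have hQ2 : IsPGroup 2 Q := P.2.to_le hQP
    have hUI : ∀ a ∈ Q, ∀ b ∈ Q, a ^ 2 = 1 → b ^ 2 = 1 → a ≠ 1 → b ≠ 1 → a = b :=
      fun a _ b _ ha hb ha1 hb1 => invol_unique hf ha1 ha hb1 hb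
    have hodd : ¬ 2 ∣ orderOf g := by
      intro h2
      exact (Nat.Prime.coprime_iff_not_dvd Nat.prime_two).mp hcop.symm h2
    have hgQ : ∀ q ∈ Q, g * q * g⁻¹ ∈ Q := fun q hq => (mem_normalizer_iff.mp hg q).mp hq
    have hgC : ∃ q ∈ Q, g * q * g⁻¹ ≠ q := by
      by_contra hall
      push Not at hall
      apply hgc
      rw [mem_centralizer_iff]
      intro q hq
      have h1 := hall q hq
      rw [mul_inv_eq_iff_eq_mul] at h1
      exact h1.symm
    obtain ⟨-, he⟩ := Cfsg.Agent.Lib.Helper54.OddAutTwo.quaternion_of_ui Q hQ2 hUI g hgQ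
      (pow_orderOf_eq_one g) hodd hgC
    exact ⟨Q, g, he, hg, hgc, hodd⟩)
  exact hno N hN hNc

/-- Without a normal `2`-complement, three divides the order, and if nine does not, some
element of order three normalizes a quaternion group without centralizing it. -/
theorem exists_QN [Finite H] {ρ : H →* E} (hf : IsFpfR ρ) (P : Sylow 2 H)
    (hno : ∀ N : Subgroup H, N.Normal → N.IsComplement' (P : Subgroup H) → False) :
    3 ∣ Nat.card H ∧ (¬ 9 ∣ Nat.card H →
      ∃ (y : H) (Q : Subgroup H), y ≠ 1 ∧ y ^ 3 = 1 ∧ QN y Q) := by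
  obtain ⟨Q, g, ⟨e⟩, hg, hgc, hodd⟩ := exists_q8 hf P hno
  obtain ⟨h3m, h3c⟩ := cube_centralizes Q e hg (pow_orderOf_eq_one g) hodd hgc
  have hdvd : orderOf g ∣ Nat.card H := orderOf_dvd_natCard g
  refine ⟨dvd_trans h3m hdvd, fun h9 => ?_⟩
  obtain ⟨m', hm'⟩ := h3m
  have h3m' : ¬ 3 ∣ m' := by
    intro h
    obtain ⟨k, hk⟩ := h
    apply h9
    refine dvd_trans ?_ hdvd
    rw [hm', hk]
    exact ⟨k, by ring⟩
  have hyc : g ^ m' ∉ centralizer (Q : Set H) := by
    intro hcen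
    apply hgc
    apply pow_mem_of_coprime (a := m') (b := 3) _ _ _ hcen h3c
    exact ((Nat.Prime.coprime_iff_not_dvd Nat.prime_three).mpr h3m').symm
  refine ⟨g ^ m', Q, ?_, ?_, ⟨e⟩, pow_mem hg _, hyc⟩
  · intro h1
    apply hyc
    rw [h1]; exact one_mem _
  · rw [← pow_mul, mul_comm, ← hm', pow_orderOf_eq_one]

/-- With nine not dividing the order, every element of order three normalizes some quaternion
group without centralizing it. -/
theorem exists_QN_for [Finite H] {ρ : H →* E} (hf : IsFpfR ρ) (P : Sylow 2 H)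
    (hno : ∀ N : Subgroup H, N.Normal → N.IsComplement' (P : Subgroup H) → False)
    (h9 : ¬ 9 ∣ Nat.card H) {x : H} (hx1 : x ≠ 1) (hx3 : x ^ 3 = 1) :
    ∃ Q : Subgroup H, QN x Q := by
  haveI : Fact (Nat.Prime 3) := ⟨Nat.prime_three⟩
  obtain ⟨y, Q, hy1, hy3, hQ⟩ := (exists_QN hf P hno).2 h9
  have key : ∀ z : H, z ≠ 1 → z ^ 3 = 1 → ∃ S : Sylow 3 H, (S : Subgroup H) = zpowers z := by
    intro z hz1 hz3
    have hc3 : Nat.card (zpowers z) = 3 := by
      rw [Nat.card_zpowers, orderOf_eq_prime hz3 hz1]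
    have hp : IsPGroup 3 (zpowers z) := IsPGroup.of_card (n := 1) (by rw [hc3]; norm_num)
    obtain ⟨S, hS⟩ := hp.exists_le_sylow
    refine ⟨S, ?_⟩
    obtain ⟨k, hk⟩ := IsPGroup.iff_card.mp S.2
    have hk' : Nat.card (S : Subgroup H) = 3 ^ k := hk
    have d1 : 3 ∣ Nat.card (S : Subgroup H) := by
      have hd := card_dvd_of_le hS
      rwa [hc3] at hd
    have d2 : Nat.card (S : Subgroup H) ∣ Nat.card H := Subgroup.card_subgroup_dvd_card _
    have hk1 : k = 1 := by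
      rcases Nat.lt_or_ge k 2 with hlt | hge
      · interval_cases k
        · rw [hk'] at d1; omega
        · rfl
      · exfalso
        apply h9
        rw [hk'] at d2
        exact dvd_trans (pow_dvd_pow 3 hge) d2
    rw [hk1] at hk'
    exact (eq_of_le_of_card_ge hS (by rw [hk', hc3]; norm_num)).symm
  obtain ⟨Sx, hSx⟩ := key x hx1 hx3
  obtain ⟨Sy, hSy⟩ := key y hy1 hy3
  obtain ⟨l, hl⟩ := MulAction.exists_smul_eq H Sy Sx
  have hw : l * y * l⁻¹ ∈ zpowers x := by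
    rw [← hSx, ← hl, Sylow.coe_subgroup_smul, mem_cj, hSy]
    have e1 : l⁻¹ * (l * y * l⁻¹) * l = y := by group
    rw [e1]; exact mem_zpowers y
  have hw1 : l * y * l⁻¹ ≠ 1 := fun h => hy1 (conj_eq_one_iff.mp h)
  have hw3 : (l * y * l⁻¹) ^ 3 = 1 := by rw [conj_pow, hy3]; group
  have hxw : x ∈ zpowers (l * y * l⁻¹) := by
    have hle : zpowers (l * y * l⁻¹) ≤ zpowers x := zpowers_le.mpr hw
    have heq := eq_of_le_of_card_ge hle (by
      rw [Nat.card_zpowers, Nat.card_zpowers, orderOf_eq_prime hx3 hx1,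
        orderOf_eq_prime hw3 hw1])
    rw [heq]; exact mem_zpowers x
  exact ⟨MulAut.conj l • Q, QN_of_zpowers (QN_conj hQ l) hxw hw⟩

end Ring

end Cfsg.Agent.Lib.Helper12.PerfB
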