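import Mathlib
import Cfsg.Agent.Lib.Helper12.PerfB

/-!
Frames from quaternion subgroups and the analysis of a pair of elements of order three in a
fixed-point-free group (helper12).
-/

set_option autoImplicit false

namespace Cfsg.Agent.Lib.Helper12.PerfC

open Subgroup
open scoped Pointwise
open Cfsg.Agent.Lib.Helper12.FpfRing
open Cfsg.Agent.Lib.Helper12.Golden
open Cfsg.Agent.Lib.Helper12.GoldenK
open Cfsg.Agent.Lib.Helper12.PerfA
open Cfsg.Agent.Lib.Helper12.PerfB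
open Cfsg.Agent.Lib.Helper12.TwoDimOrder

/-- A non-commuting pair of a quaternion subgroup generates it. -/
theorem closure_pair_eq {G : Type*} [Group G] {Q : Subgroup G} (e : Q ≃* QuaternionGroup 2)
    {a b : G} (ha : a ∈ Q) (hb : b ∈ Q) (hab : a * b ≠ b * a) :
    closure ({a, b} : Set G) = Q := by
  apply le_antisymm
  · rw [closure_le]
    intro y hy
    rcases hy with rfl | hy
    · exact ha
    · rw [Set.mem_singleton_iff] at hy
      rw [hy]; exact hb
  · intro g hg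
    have h1 := k8_gen e (s := ⟨a, ha⟩) (t := ⟨b, hb⟩) (fun h => hab (congrArg Subtype.val h))
      ⟨g, hg⟩
    have h2 := Subgroup.mem_map_of_mem Q.subtype h1
    rw [MonoidHom.map_closure] at h2
    simpa [Set.image_pair] using h2

/-- **Frames exist.** -/
theorem frame_of_QN {G : Type*} [Group G] {x : G} {Q : Subgroup G} (h : QN x Q)
    (hx3 : x ^ 3 = 1) : ∃ s : G, IsFrame x s ∧ Qs x s = Q := by
  obtain ⟨⟨e⟩, hn, hc⟩ := h
  have hconj : ∀ q ∈ Q, x * q * x⁻¹ ∈ Q := fun q hq => (mem_normalizer_iff.mp hn q).mp hq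
  have h1 : ∃ s ∈ Q, s * (x * s * x⁻¹) ≠ (x * s * x⁻¹) * s := by
    by_contra hall
    push Not at hall
    apply hc
    rw [mem_centralizer_iff]
    intro q hq
    by_contra hne
    have hq' : x * q * x⁻¹ ≠ q := by
      intro h
      apply hne
      rw [mul_inv_eq_iff_eq_mul] at h
      exact h.symm
    have hA : q = 1 ↔ x * q * x⁻¹ = 1 := conj_eq_one_iff.symm
    have hB : q ^ 2 = 1 ↔ (x * q * x⁻¹) ^ 2 = 1 := by rw [conj_pow, conj_eq_one_iff]
    have hk := k8_comm e (q := ⟨q, hq⟩) (q' := ⟨x * q * x⁻¹, hconj q hq⟩)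
      (Subtype.ext (hall q hq)) (fun h => hq' (congrArg Subtype.val h))
      (by rw [Subtype.ext_iff, Subtype.ext_iff]; exact hA)
      (by rw [Subtype.ext_iff, Subtype.ext_iff]; exact hB)
    have hk' : x * q * x⁻¹ = q⁻¹ := congrArg Subtype.val hk
    have h3 := conj3 hx3 q
    rw [hk'] at h3
    have e1 : x * q⁻¹ * x⁻¹ = (x * q * x⁻¹)⁻¹ := by group
    rw [e1, hk', inv_inv] at h3
    exact hq' h3
  obtain ⟨s, hs, hst⟩ := h1
  obtain ⟨t, ht_def⟩ : ∃ t : G, t = x * s * x⁻¹ := ⟨_, rfl⟩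
  obtain ⟨u, hu_def⟩ : ∃ u : G, u = x * t * x⁻¹ := ⟨_, rfl⟩
  have hs_def : s = x * u * x⁻¹ := by
    rw [hu_def, ht_def]; exact (conj3 hx3 s).symm
  rw [← ht_def] at hst
  have ht : t ∈ Q := by rw [ht_def]; exact hconj s hs
  have hu : u ∈ Q := by rw [hu_def]; exact hconj t ht
  have htu : t * u ≠ u * t := by
    intro h
    apply hst
    have e1 : (x * s * x⁻¹) * (x * t * x⁻¹) = x * (s * t) * x⁻¹ := by group
    have e2 : (x * t * x⁻¹) * (x * s * x⁻¹) = x * (t * s) * x⁻¹ := by group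
    rw [← ht_def, ← hu_def] at e1 e2
    rw [e1, e2] at h
    exact mul_left_cancel (mul_right_cancel h)
  have hus : u * s ≠ s * u := by
    intro h
    apply htu
    have e1 : (x * t * x⁻¹) * (x * u * x⁻¹) = x * (t * u) * x⁻¹ := by group
    have e2 : (x * u * x⁻¹) * (x * t * x⁻¹) = x * (u * t) * x⁻¹ := by group
    rw [← hs_def, ← hu_def] at e1 e2
    rw [e1, e2] at h
    exact mul_left_cancel (mul_right_cancel h)
  have hstQ : (⟨s, hs⟩ : Q) * ⟨t, ht⟩ ≠ ⟨t, ht⟩ * ⟨s, hs⟩ :=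
    fun h => hst (congrArg Subtype.val h)
  have htuQ : (⟨t, ht⟩ : Q) * ⟨u, hu⟩ ≠ ⟨u, hu⟩ * ⟨t, ht⟩ :=
    fun h => htu (congrArg Subtype.val h)
  have husQ : (⟨u, hu⟩ : Q) * ⟨s, hs⟩ ≠ ⟨s, hs⟩ * ⟨u, hu⟩ :=
    fun h => hus (congrArg Subtype.val h)
  obtain ⟨k1, k2, k3, k4, k5⟩ := k8_inv e hstQ
  have k1' : s ^ 4 = 1 := congrArg Subtype.val k1
  have k2' : s ^ 2 ≠ 1 := fun h => k2 (Subtype.ext h)
  have k3' : t * s * t⁻¹ = s⁻¹ := congrArg Subtype.val k3
  have k4' : t⁻¹ * s * t = s⁻¹ := congrArg Subtype.val k4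
  have k5' : s * t = s⁻¹ * t⁻¹ := congrArg Subtype.val k5
  rcases k8_third e hstQ htuQ husQ with k6 | k6
  · have k6' : u = s * t := congrArg Subtype.val k6
    refine ⟨s, ⟨k1', k2', ?_, ?_⟩, ?_⟩
    · rw [← ht_def]; exact k3'
    · rw [← ht_def, ← hu_def]; exact k6'
    · unfold Qs
      rw [← ht_def]
      exact closure_pair_eq e hs ht hst
  · have k6' : u = (s * t)⁻¹ := congrArg Subtype.val k6
    have ht' : x * s⁻¹ * x⁻¹ = t⁻¹ := by
      rw [ht_def]; group
    have hu' : x * t⁻¹ * x⁻¹ = u⁻¹ := by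
      rw [hu_def]; group
    refine ⟨s⁻¹, ⟨?_, ?_, ?_, ?_⟩, ?_⟩
    · rw [inv_pow, k1', inv_one]
    · rw [inv_pow]
      intro h
      exact k2' (inv_eq_one.mp h)
    · rw [ht', inv_inv]
      have e1 : t⁻¹ * s⁻¹ * t = (t⁻¹ * s * t)⁻¹ := by group
      rw [e1, k4', inv_inv]
    · rw [ht', hu', k6', inv_inv]; exact k5'
    · unfold Qs
      rw [ht']
      apply closure_pair_eq e (inv_mem hs) (inv_mem ht)
      intro h
      apply hst
      have e1 : s * t = (t⁻¹ * s⁻¹)⁻¹ := by group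
      have e2 : t * s = (s⁻¹ * t⁻¹)⁻¹ := by group
      rw [e1, e2, h]

/-- A group of even order generated by elements of order three has no normal
`2`-complement. -/
theorem noC_of_cubes {L : Type*} [Group L] [Finite L]
    (hgen : closure {g : L | g ^ 3 = 1} = ⊤) (h2 : 2 ∣ Nat.card L) (P : Sylow 2 L)
    (N : Subgroup L) (hN : N.Normal) (hc : N.IsComplement' (P : Subgroup L)) : False := by
  haveI : Fact (Nat.Prime 2) := ⟨Nat.prime_two⟩
  have hidx : N.index = Nat.card (P : Subgroup L) := hc.symm.index_eq_card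
  obtain ⟨k, hk⟩ := IsPGroup.iff_card.mp P.2
  have hk' : Nat.card (P : Subgroup L) = 2 ^ k := hk
  have hle : closure {g : L | g ^ 3 = 1} ≤ N := by
    rw [closure_le]
    intro g hg
    have hg3 : g ^ 3 = 1 := hg
    apply pow_mem_of_coprime (a := 2 ^ k) (b := 3) N g
    · exact Nat.Coprime.pow_left k (by norm_num)
    · rw [← hk', ← hidx]; exact N.pow_index_mem g
    · rw [hg3]; exact one_mem _
  rw [hgen, top_le_iff] at hle
  rw [hle, isComplement'_top_left] at hc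
  exact P.ne_bot_of_dvd_card h2 hc

theorem QN_map {L G : Type*} [Group L] [Group G] (f : L →* G) (hf : Function.Injective f)
    {y : L} {Q : Subgroup L} (h : QN y Q) : QN (f y) (Q.map f) := by
  obtain ⟨⟨e⟩, hn, hc⟩ := h
  refine ⟨⟨(Q.equivMapOfInjective f hf).symm.trans e⟩, ?_, ?_⟩
  · exact le_normalizer_map f (mem_map_of_mem f hn)
  · intro hcen
    apply hc
    rw [mem_centralizer_iff] at hcen ⊢
    intro q hq
    have h1 := hcen (f q) (mem_map_of_mem f hq)
    rw [← map_mul, ← map_mul] at h1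
    exact hf h1

theorem no_invert {G : Type*} [Group G] {x v : G} {Q : Subgroup G} (h : QN x Q) (hx1 : x ≠ 1)
    (hx3 : x ^ 3 = 1) (hv : v ∈ Q) (hinv : v * x * v⁻¹ = x⁻¹) : False := by
  apply QN_not_mem h hx1 hx3
  have h1 : x * v⁻¹ * x⁻¹ ∈ Q := (mem_normalizer_iff.mp h.2.1 _).mp (inv_mem hv)
  have h2 : v * (x * v⁻¹ * x⁻¹) ∈ Q := mul_mem hv h1
  have e1 : v * (x * v⁻¹ * x⁻¹) = (v * x * v⁻¹) * x⁻¹ := by group
  rw [e1, hinv] at h2
  have e2 : x = x⁻¹ * x⁻¹ := by
    have h3 : x * x * x = 1 := by rw [← hx3]; simp [pow_succ]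
    calc x = x⁻¹ * x⁻¹ * (x * x * x) := by group
      _ = x⁻¹ * x⁻¹ := by rw [h3, mul_one]
  rw [e2]; exact h2

theorem QN_inv_conj {G : Type*} [Group G] {x v : G} {Q : Subgroup G} (h : QN x Q)
    (hinv : v * x * v⁻¹ = x⁻¹) : QN x (MulAut.conj v • Q) := by
  have h1 := QN_conj h v
  rw [hinv] at h1
  apply QN_of_zpowers h1
  · have h2 := inv_mem (mem_zpowers x⁻¹)
    rwa [inv_inv] at h2
  · exact inv_mem (mem_zpowers x)

theorem normalizer_of_cj {G : Type*} [Group G] {v : G} {Q : Subgroup G}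
    (h : MulAut.conj v • Q = Q) : v ∈ normalizer (Q : Set G) := by
  rw [mem_normalizer_iff'']
  intro k
  rw [← mem_cj, h]

theorem cj_le {G : Type*} [Group G] {v : G} {Q L : Subgroup G} (hQ : Q ≤ L) (hv : v ∈ L) :
    MulAut.conj v • Q ≤ L := by
  intro k hk
  rw [mem_cj] at hk
  have h1 := hQ hk
  have e1 : k = v * (v⁻¹ * k * v) * v⁻¹ := by group
  rw [e1]
  exact mul_mem (mul_mem hv h1) (inv_mem hv)

/-- An element of order four inverting `x` moves every quaternion group of `x` inside a group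
of order `120`. -/
theorem cj_ne {G : Type*} [Group G] [Finite G] {x v : G} {Q L : Subgroup G} (h : QN x Q)
    (hx1 : x ≠ 1) (hx3 : x ^ 3 = 1) (hQL : Q ≤ L) (hvL : v ∈ L) (hL : Nat.card L = 120)
    (hv4 : v ^ 4 = 1) (hinv : v * x * v⁻¹ = x⁻¹) : MulAut.conj v • Q ≠ Q := by
  intro heq
  obtain ⟨e⟩ := h.1
  have hvn := normalizer_of_cj heq
  have hle := two_sub_le (Q := Q) (R := zpowers v) (L := L) (k8_pgroup e) (zpowers_pgroup hv4)
    (zpowers_le.mpr hvn) hQL (zpowers_le.mpr hvL) (fun k hk => by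
      rw [k8_card e]; rw [hL] at hk; exact pow2_le_8_of_dvd_120 k hk)
  exact no_invert h hx1 hx3 (hle (mem_zpowers v)) hinv

section Ring

variable {G : Type*} [Group G] {E : Type*} [Ring E] [Nontrivial E]

/-- **Pairs of elements of order three.** -/
theorem pair_analysis [Finite G] {ρ : G →* E} (hf : IsFpfR ρ) {x x' : G} (hx1 : x ≠ 1)
    (hx3 : x ^ 3 = 1) (hx'1 : x' ≠ 1) (hx'3 : x' ^ 3 = 1) (hnc : x * x' ≠ x' * x) :
    ∃ Q : Subgroup G, QN x Q ∧ Q ≤ closure ({x, x'} : Set G) ∧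
      ((closure ({x, x'} : Set G) = zpowers x ⊔ Q) ∨
       (Nat.card (closure ({x, x'} : Set G)) = 120 ∧
        ∃ v ∈ closure ({x, x'} : Set G), v * x * v⁻¹ = x⁻¹ ∧ v ^ 4 = 1)) := by
  have h2d := twoDim_pair hf hx1 hx3 hx'1 hx'3
  have hfL := fpf_comp hf (closure ({x, x'} : Set G))
  have mx : x ∈ closure ({x, x'} : Set G) := Subgroup.subset_closure (by simp)
  have mx' : x' ∈ closure ({x, x'} : Set G) := Subgroup.subset_closure (by simp)
  have hna : ∃ a b : closure ({x, x'} : Set G), a * b ≠ b * a :=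
    ⟨⟨x, mx⟩, ⟨x', mx'⟩, fun h => hnc (congrArg Subtype.val h)⟩
  have hgen : closure {g : closure ({x, x'} : Set G) | g ^ 3 = 1} = ⊤ := by
    have h0 := Subgroup.closure_closure_coe_preimage (k := ({x, x'} : Set G))
    rw [eq_top_iff]
    have hsub : ((↑) : closure ({x, x'} : Set G) → G) ⁻¹' ({x, x'} : Set G)
        ⊆ {g : closure ({x, x'} : Set G) | g ^ 3 = 1} := by
      rintro ⟨g, hg⟩ hgk
      have hgk' : g ∈ ({x, x'} : Set G) := hgk
      have h3 : g ^ 3 = 1 := by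
        rcases hgk' with rfl | hgk'
        · exact hx3
        · rw [Set.mem_singleton_iff] at hgk'
          rw [hgk']; exact hx'3
      exact Subtype.ext h3
    exact h0.symm.le.trans (Subgroup.closure_mono hsub)
  have hord := order_of_twoDim hfL h2d hna hgen
  have hcard : Nat.card (closure ({x, x'} : Set G)) = 24 ∨
      Nat.card (closure ({x, x'} : Set G)) = 120 := by
    rcases hord with ⟨h, -⟩ | ⟨h, -⟩
    · exact Or.inl h
    · exact Or.inr h
  have h2 : 2 ∣ Nat.card (closure ({x, x'} : Set G)) := by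
    rcases hcard with h | h <;> rw [h] <;> norm_num
  have h9 : ¬ 9 ∣ Nat.card (closure ({x, x'} : Set G)) := by
    rcases hcard with h | h <;> rw [h] <;> norm_num
  haveI : Fact (Nat.Prime 2) := ⟨Nat.prime_two⟩
  obtain ⟨P⟩ : Nonempty (Sylow 2 (closure ({x, x'} : Set G))) := inferInstance
  have hx1L : (⟨x, mx⟩ : closure ({x, x'} : Set G)) ≠ 1 := fun h => hx1 (congrArg Subtype.val h)
  have hx3L : (⟨x, mx⟩ : closure ({x, x'} : Set G)) ^ 3 = 1 := Subtype.ext hx3
  obtain ⟨Q', hQ'⟩ := exists_QN_for hfL P (noC_of_cubes hgen h2 P) h9 hx1L hx3L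
  have hQ : QN x (Q'.map (closure ({x, x'} : Set G)).subtype) :=
    QN_map (closure ({x, x'} : Set G)).subtype (subtype_injective _) hQ'
  have hQL : Q'.map (closure ({x, x'} : Set G)).subtype ≤ closure ({x, x'} : Set G) :=
    map_subtype_le Q'
  refine ⟨Q'.map (closure ({x, x'} : Set G)).subtype, hQ, hQL, ?_⟩
  rcases hord with ⟨h24, -⟩ | ⟨h120, -, hv⟩
  · left
    have hle : zpowers x ⊔ Q'.map (closure ({x, x'} : Set G)).subtype
        ≤ closure ({x, x'} : Set G) := sup_le (zpowers_le.mpr mx) hQL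
    exact (eq_of_le_of_card_ge hle (by rw [QN_sup_card hQ hx1 hx3, h24])).symm
  · right
    refine ⟨h120, ?_⟩
    have hx2 : (⟨x, mx⟩ : closure ({x, x'} : Set G)) ^ 2 ≠ 1 := by
      intro h
      have h' : x ^ 2 = 1 := congrArg Subtype.val h
      apply hx1
      have e1 : x = x ^ 3 * (x ^ 2)⁻¹ := by group
      rw [e1, hx3, h']; group
    obtain ⟨v, hv1, hv2, -⟩ := hv _ hx2
    refine ⟨v, v.2, ?_, ?_⟩
    · exact congrArg Subtype.val hv1
    · exact congrArg Subtype.val hv2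

end Ring

end Cfsg.Agent.Lib.Helper12.PerfC
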