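import Mathlib
import Cfsg.Agent.Lib.Helper12.FpfLin
import Cfsg.Agent.Lib.Helper12.MinQuat
import Cfsg.Agent.Lib.Helper12.PerfC
import Cfsg.Agent.Lib.Helper54.Quaternion
import Cfsg.Agent.Lib.Helper54.UniqueSubgroup

/-!
Fixed-point-free linear groups: Sylow subgroups, solvable normalizers of quaternion subgroups,
and non-commuting elements of order three in the perfect case (helper12).
-/

set_option autoImplicit false

namespace Cfsg.Agent.Lib.Helper12.PerfD

open Subgroup
open scoped Pointwise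
open Cfsg.Agent.Lib.Helper12.FpfRing
open Cfsg.Agent.Lib.Helper12.FpfLin
open Cfsg.Agent.Lib.Helper12.PerfA
open Cfsg.Agent.Lib.Helper12.PerfB
open Cfsg.Agent.Lib.Helper12.PerfC
open Cfsg.Agent.Lib.Helper12.QuatReg

section Ring

variable {H : Type*} [Group H] {E : Type*} [Ring E] [Nontrivial E]

/-- Commuting elements of order four generate the same subgroup. -/
theorem four_comm {ρ : H →* E} (hf : IsFpfR ρ) {k s : H} (hk2 : k ^ 2 ≠ 1) (hk4 : k ^ 4 = 1)
    (hs2 : s ^ 2 ≠ 1) (hs4 : s ^ 4 = 1) (hc : k * s = s * k) : k = s ∨ k = s⁻¹ := by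
  by_cases hks : k = s
  · exact Or.inl hks
  · right
    have hK := sq_of_four hf hk2 hk4
    have hS := sq_of_four hf hs2 hs4
    have hKS : ρ k * ρ s = ρ s * ρ k := by rw [← map_mul, hc, map_mul]
    have hu : IsUnit (ρ k - ρ s) := by
      have hne : s⁻¹ * k ≠ 1 := fun h => hks (by rw [inv_mul_eq_one] at h; exact h.symm)
      have e : ρ k - ρ s = ρ s * (ρ (s⁻¹ * k) - 1) := by
        rw [mul_sub, mul_one, ← map_mul, mul_inv_cancel_left]
      rw [e]; exact (isUnit_rho ρ s).mul (hf _ hne)
    have e0 : (ρ k - ρ s) * (ρ k + ρ s) = 0 := by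
      have : (ρ k - ρ s) * (ρ k + ρ s)
          = ρ k * ρ k - ρ s * ρ s + (ρ k * ρ s - ρ s * ρ k) := by noncomm_ring
      rw [this, hK, hS, hKS]; abel
    have e1 := hu.mul_right_eq_zero.mp e0
    apply inj hf
    rw [inv_of_four hf hs2 hs4]
    exact eq_neg_of_add_eq_zero_left e1

end Ring

section Lin

variable {p : ℕ} [Fact p.Prime] {V : Type*} [AddCommGroup V] [Module (ZMod p) V] [Finite V]

/-- The ring-valued representation. -/
def toEnd {G : Type*} [Group G] (ρ : G →* (V ≃ₗ[ZMod p] V)) : G →* Module.End (ZMod p) V where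
  toFun g := (ρ g : V →ₗ[ZMod p] V)
  map_one' := by ext v; exact rho_one ρ v
  map_mul' a b := by ext v; exact rho_mul ρ a b v

theorem fpfR_of_fpf {G : Type*} [Group G] {ρ : G →* (V ≃ₗ[ZMod p] V)} (hf : IsFpf ρ) :
    IsFpfR (toEnd ρ) := by
  intro g hg
  rw [LinearMap.isUnit_iff_ker_eq_bot, LinearMap.ker_eq_bot']
  intro v hv
  apply hf g hg v
  have h1 : ρ g v - v = 0 := hv
  exact sub_eq_zero.mp h1

variable [Nontrivial V]

theorem ui_of_fpf {S : Type*} [Group S] [Finite S] {ρ : S →* (V ≃ₗ[ZMod p] V)} (hf : IsFpf ρ)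
    {q : ℕ} [hq : Fact q.Prime] (hS : IsPGroup q S) :
    Cfsg.Agent.Lib.Helper54.UniqueSubgroup.UI q S := by
  intro g h hg hh hg1
  haveI : Nontrivial S := ⟨⟨g, 1, hg1⟩⟩
  haveI := hS.center_nontrivial
  obtain ⟨z, hz⟩ := exists_ne (1 : center S)
  have hz' : (z : S) ≠ 1 := fun h => hz (Subtype.ext h)
  obtain ⟨m, hm1, hm2⟩ := Cfsg.Agent.Lib.Helper54.UniqueSubgroup.exists_pow_prime hS hz'
  have hzc : ∀ k : S, (z : S) ^ m * k = k * (z : S) ^ m := by
    intro k
    have hmem : (z : S) ^ m ∈ center S := pow_mem z.2 m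
    exact (mem_center_iff.mp hmem k).symm
  have ho : orderOf ((z : S) ^ m) = q := orderOf_eq_prime hm2 hm1
  have key : ∀ k : S, k ^ q = 1 → k ∈ zpowers ((z : S) ^ m) := by
    intro k hk
    have hcomm : ∀ a ∈ ({(z : S) ^ m, k} : Set S), ∀ b ∈ ({(z : S) ^ m, k} : Set S),
        a * b = b * a := by
      intro a ha b hb
      simp only [Set.mem_insert_iff, Set.mem_singleton_iff] at ha hb
      rcases ha with rfl | rfl <;> rcases hb with rfl | rfl
      · rfl
      · exact hzc _
      · exact (hzc _).symm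
      · rfl
    have hA : ∀ a ∈ closure ({(z : S) ^ m, k} : Set S),
        ∀ b ∈ closure ({(z : S) ^ m, k} : Set S), a * b = b * a := fun a ha b hb =>
      Set.centralizer_centralizer_comm_of_comm hcomm _ (closure_le_centralizer_centralizer _ ha) _
        (closure_le_centralizer_centralizer _ hb)
    haveI := abelian_isCyclic hf _ hA
    exact Cfsg.Agent.Lib.Helper12.MinQuat.cyc_mem_sub (closure ({(z : S) ^ m, k} : Set S))
      hq.out.pos (Subgroup.subset_closure (by simp)) (Subgroup.subset_closure (by simp)) ho hk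
  have hgz := key g hg
  have heq : zpowers g = zpowers ((z : S) ^ m) :=
    eq_of_le_of_card_ge (zpowers_le.mpr hgz) (by
      rw [Nat.card_zpowers, Nat.card_zpowers, ho, orderOf_eq_prime hg hg1])
  rw [heq]; exact key h hh

theorem sylow_cyclic {G : Type*} [Group G] [Finite G] {ρ : G →* (V ≃ₗ[ZMod p] V)}
    (hf : IsFpf ρ) {q : ℕ} [Fact q.Prime] (hq : q ≠ 2) (P : Sylow q G) :
    IsCyclic (P : Subgroup G) := by
  have hfP : IsFpf (ρ.comp (P : Subgroup G).subtype) :=
    fun g hg v hv => hf g (fun h => hg (Subtype.ext h)) v hv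
  rcases Cfsg.Agent.Lib.Helper54.Quaternion.isCyclic_or_quaternion_of_ui P.2
    (ui_of_fpf hfP P.2) with h | ⟨h, -⟩
  · exact h
  · exact absurd h hq

/-- A fixed-point-free group without elements of order four has cyclic Sylow subgroups. -/
theorem zgroup_of_fpf {K : Type*} [Group K] [Finite K] {ρ : K →* (V ≃ₗ[ZMod p] V)}
    (hf : IsFpf ρ) (h4 : ∀ k : K, k ^ 4 = 1 → k ^ 2 = 1) : IsZGroup K := by
  constructor
  intro q hq P
  haveI : Fact q.Prime := ⟨hq⟩
  have hfP : IsFpf (ρ.comp (P : Subgroup K).subtype) :=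
    fun g hg v hv => hf g (fun h => hg (Subtype.ext h)) v hv
  rcases Cfsg.Agent.Lib.Helper54.Quaternion.isCyclic_or_quaternion_of_ui P.2
    (ui_of_fpf hfP P.2) with h | ⟨-, n, ⟨e⟩⟩
  · exact h
  · exfalso
    have h1 := h4 ((e.symm (QuaternionGroup.xa 0) : (P : Subgroup K)) : K) (by
      rw [← Subgroup.coe_pow, ← map_pow, QuaternionGroup.xa_pow_four, map_one]; rfl)
    have h2 : (QuaternionGroup.xa (0 : ZMod (2 * 2 ^ n))) ^ 2 = 1 := by
      apply e.symm.injective
      rw [map_pow, map_one]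
      exact Subtype.ext h1
    have h3 := QuaternionGroup.orderOf_xa (n := 2 ^ n) 0
    have h5 := orderOf_dvd_of_pow_eq_one h2
    rw [h3] at h5
    omega

/-- The normalizer of a quaternion subgroup of order eight is solvable. -/
theorem normalizer_solvable {G : Type*} [Group G] [Finite G] {ρ : G →* (V ≃ₗ[ZMod p] V)}
    (hf : IsFpf ρ) (Q : Subgroup G) (e : Q ≃* QuaternionGroup 2) :
    Group.IsSolvable (normalizer (Q : Set G)) := by
  obtain ⟨N, hN⟩ : ∃ N : Subgroup G, N = normalizer (Q : Set G) := ⟨_, rfl⟩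
  rw [← hN]
  have hQN : Q ≤ N := by rw [hN]; exact le_normalizer
  haveI : (Q.subgroupOf N).Normal := by
    rw [hN]; exact normal_in_normalizer
  have e' : (Q.subgroupOf N) ≃* QuaternionGroup 2 := (subgroupOfEquivOfLe hQN).trans e
  haveI : Finite (NCPair (Q.subgroupOf N)) := by
    unfold NCPair; infer_instance
  have hdvd := index_dvd_card_of_stabilizer_eq
    (centralizer ((Q.subgroupOf N : Subgroup N) : Set N))
    (fun q : NCPair (Q.subgroupOf N) => nc_stab (Q.subgroupOf N) e' q)
  rw [nc_card (Q.subgroupOf N) e'] at hdvd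
  have hq : Group.IsSolvable (N ⧸ centralizer ((Q.subgroupOf N : Subgroup N) : Set N)) := by
    apply Cfsg.Agent.Lib.Helper56.SmallSolvable.solvable_of_card_dvd_120
    · rw [← Subgroup.index_eq_card]; exact dvd_trans hdvd (by norm_num)
    · rw [← Subgroup.index_eq_card]
      have := Nat.le_of_dvd (by norm_num) hdvd
      omega
  have hfR := fpfR_of_fpf hf
  obtain ⟨s, t, hst⟩ := k8_exists e
  obtain ⟨hs4, hs2, -, -, -⟩ := k8_inv e hst
  have hs4' : (s : G) ^ 4 = 1 := congrArg Subtype.val hs4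
  have hs2' : (s : G) ^ 2 ≠ 1 := fun h => hs2 (Subtype.ext h)
  have hst' : (s : G) * (t : G) ≠ (t : G) * (s : G) := fun h => hst (Subtype.ext h)
  have hK : Group.IsSolvable (centralizer ((Q.subgroupOf N : Subgroup N) : Set N)) := by
    haveI : IsZGroup (centralizer ((Q.subgroupOf N : Subgroup N) : Set N)) := by
      apply zgroup_of_fpf (ρ := ρ.comp (N.subtype.comp
        (centralizer ((Q.subgroupOf N : Subgroup N) : Set N)).subtype))
      · intro k hk v hv
        exact hf _ (fun h => hk (Subtype.ext (Subtype.ext h))) v hv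
      · intro k hk4
        by_contra hk2
        have hk4' : ((k : N) : G) ^ 4 = 1 := by
          simpa using congrArg
            (fun z : ↥(centralizer ((Q.subgroupOf N : Subgroup N) : Set N)) => ((z : N) : G)) hk4
        have hk2' : ((k : N) : G) ^ 2 ≠ 1 := fun h => hk2 (Subtype.ext (Subtype.ext h))
        have hcen : ∀ q : G, q ∈ Q → q * ((k : N) : G) = ((k : N) : G) * q := by
          intro q hq
          have h1 := (mem_centralizer_iff.mp k.2) ⟨q, hQN hq⟩
            (by rw [SetLike.mem_coe, mem_subgroupOf]; exact hq)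
          exact congrArg Subtype.val h1
        have hks : ((k : N) : G) * (s : G) = (s : G) * ((k : N) : G) := (hcen _ s.2).symm
        have hkt : ((k : N) : G) * (t : G) = (t : G) * ((k : N) : G) := (hcen _ t.2).symm
        rcases four_comm hfR hk2' hk4' hs2' hs4' hks with h | h
        · rw [h] at hkt; exact hst' hkt
        · rw [h] at hkt
          apply hst'
          calc (s : G) * (t : G) = (s : G) * ((t : G) * (s : G)⁻¹) * (s : G) := by group
            _ = (s : G) * ((s : G)⁻¹ * (t : G)) * (s : G) := by rw [hkt]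
            _ = (t : G) * (s : G) := by group
    infer_instance
  exact Cfsg.Agent.Lib.Helper56.SmallSolvable.solvable_of_normal _ hK hq

end Lin

end Cfsg.Agent.Lib.Helper12.PerfD
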