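import Mathlib
import Cfsg.Agent.Lib.Helper12.FpfLin
import Cfsg.Agent.Lib.Helper12.PerfD

/-!
# The field attached to an irreducible abelian normal subgroup (helper12)

If `A` is an abelian normal subgroup of `G` acting irreducibly on the finite `ZMod p`-module `V`,
then the commutant `K` of `A` in `End V` is a finite field, `V` is one-dimensional over `K`, and
every element of `G` acts on `V ≃ K` as `x ↦ a * σ x` with `σ` a field automorphism of `K`.
-/

set_option autoImplicit false

namespace Cfsg.Agent.Lib.Helper12.HupF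

open Cfsg.Agent.Lib.Helper12.FpfLin Cfsg.Agent.Lib.Helper12.PerfD

universe u

variable {p : ℕ} [Fact p.Prime] {V : Type u} [AddCommGroup V] [Module (ZMod p) V] [Finite V]
  [Nontrivial V]
variable {G : Type*} [Group G]

theorem toEnd_apply (ρ : G →* (V ≃ₗ[ZMod p] V)) (g : G) (v : V) : toEnd ρ g v = ρ g v := rfl

theorem exists_field (ρ : G →* (V ≃ₗ[ZMod p] V)) (A : Subgroup G) [hAn : A.Normal]
    (hAc : ∀ a ∈ A, ∀ b ∈ A, a * b = b * a)
    (hirr : ∀ W : Submodule (ZMod p) V, Inv ρ A W → W = ⊥ ∨ W = ⊤) :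
    ∃ (R : Type u) (_ : Field R) (_ : Fintype R) (φ : V ≃+ R),
      ∀ g : G, ∃ (a : R) (σ : R ≃+* R), ∀ v, φ (ρ g v) = a * σ (φ v) := by
  classical
  haveI : Finite (Module.End (ZMod p) V) :=
    Finite.of_injective (fun f : Module.End (ZMod p) V => (f : V → V)) DFunLike.coe_injective
  obtain ⟨T, hT⟩ : ∃ T : G →* Module.End (ZMod p) V, T = toEnd ρ := ⟨_, rfl⟩
  have hTa : ∀ g v, T g v = ρ g v := fun g v => by rw [hT]; rfl
  obtain ⟨K, hK⟩ : ∃ K : Subring (Module.End (ZMod p) V),
      K = Subring.centralizer (T '' (A : Set G)) := ⟨_, rfl⟩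
  have hmem : ∀ x : Module.End (ZMod p) V, x ∈ K ↔ ∀ a ∈ A, x * T a = T a * x := by
    intro x
    rw [hK]
    constructor
    · intro hx a ha
      exact (Subring.mem_centralizer_iff.mp hx (T a) ⟨a, ha, rfl⟩).symm
    · intro hx
      apply Subring.mem_centralizer_iff.mpr
      rintro _ ⟨a, ha, rfl⟩
      exact (hx a ha).symm
  have hTK : ∀ a ∈ A, T a ∈ K := by
    intro a ha
    rw [hmem]
    intro b hb
    rw [← map_mul, ← map_mul, hAc a ha b hb]
  have hinj : ∀ x ∈ K, x ≠ 0 → Function.Injective x := by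
    intro x hx hx0
    rw [← LinearMap.ker_eq_bot]
    have hker : Inv ρ A (LinearMap.ker x) := by
      intro a ha w hw
      rw [LinearMap.mem_ker] at hw ⊢
      have := congrArg (fun e : Module.End (ZMod p) V => e w) ((hmem x).mp hx a ha)
      simp only [Module.End.mul_apply] at this
      rw [← hTa, this, hw, map_zero]
    rcases hirr _ hker with h | h
    · exact h
    · exfalso
      apply hx0
      ext w
      have : w ∈ LinearMap.ker x := by rw [h]; exact Submodule.mem_top
      simpa using this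
  haveI : Nontrivial K := by
    refine ⟨⟨0, 1, ?_⟩⟩
    intro h01
    have h1 : (0 : Module.End (ZMod p) V) = 1 := congrArg Subtype.val h01
    obtain ⟨w, hw⟩ := exists_ne (0 : V)
    have := congrArg (fun e : Module.End (ZMod p) V => e w) h1
    simp at this
    exact hw this.symm
  haveI : NoZeroDivisors K := by
    refine ⟨fun {x y} hxy => ?_⟩
    by_cases hx : x = 0
    · exact Or.inl hx
    · right
      have hx' : (x : Module.End (ZMod p) V) ≠ 0 := fun h => hx (Subtype.ext h)
      apply Subtype.ext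
      ext w
      have h2 := congrArg (fun e : K => (e : Module.End (ZMod p) V) w) hxy
      simp only [Subring.coe_mul, Module.End.mul_apply, Subring.coe_zero,
        LinearMap.zero_apply] at h2
      have := hinj x x.2 hx' (h2.trans (map_zero _).symm)
      simpa using this
  haveI : IsDomain K := NoZeroDivisors.to_isDomain K
  have hfield := Finite.isDomain_to_isField K
  have hcomm : ∀ x y : K, x * y = y * x := hfield.mul_comm
  obtain ⟨v₀, hv₀⟩ := exists_ne (0 : V)
  -- evaluation at `v₀`
  let φ₀ : K →+ V :=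
    { toFun := fun x => (x : Module.End (ZMod p) V) v₀
      map_zero' := by simp
      map_add' := fun x y => by simp }
  have hφ₀ : ∀ x : K, φ₀ x = (x : Module.End (ZMod p) V) v₀ := fun x => rfl
  have hφinj : Function.Injective φ₀ := by
    intro x y hxy
    by_contra hne
    have hsub : (x - y : K) ≠ 0 := sub_ne_zero.mpr hne
    have hsub' : ((x - y : K) : Module.End (ZMod p) V) ≠ 0 := fun h => hsub (Subtype.ext h)
    have h0 : ((x - y : K) : Module.End (ZMod p) V) v₀ = 0 := by
      rw [hφ₀, hφ₀] at hxy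
      simp [hxy]
    exact hv₀ (hinj _ (x - y).2 hsub' (h0.trans (map_zero _).symm))
  have hφsurj : Function.Surjective φ₀ := by
    let W₀ : Submodule (ZMod p) V :=
      { carrier := {v | ∃ x : K, (x : Module.End (ZMod p) V) v₀ = v}
        add_mem' := by
          rintro _ _ ⟨x, rfl⟩ ⟨y, rfl⟩
          exact ⟨x + y, by simp⟩
        zero_mem' := ⟨0, by simp⟩
        smul_mem' := by
          rintro c _ ⟨x, rfl⟩
          have hcx : c • (x : Module.End (ZMod p) V) ∈ K := by
            rw [hmem]
            intro a ha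
            rw [smul_mul_assoc, mul_smul_comm, (hmem x).mp x.2 a ha]
          exact ⟨⟨_, hcx⟩, by simp⟩ }
    have hW₀ : Inv ρ A W₀ := by
      rintro a ha _ ⟨x, rfl⟩
      refine ⟨⟨T a, hTK a ha⟩ * x, ?_⟩
      simp only [Subring.coe_mul, Module.End.mul_apply]
      rw [hTa]
    have hv₀W : v₀ ∈ W₀ := ⟨1, by simp⟩
    rcases hirr W₀ hW₀ with h | h
    · rw [h] at hv₀W
      exact absurd ((Submodule.mem_bot _).mp hv₀W) hv₀
    · intro v
      have hv : v ∈ W₀ := by rw [h]; exact Submodule.mem_top
      obtain ⟨x, hx⟩ := hv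
      exact ⟨x, hx⟩
  let φ : V ≃+ K := (AddEquiv.ofBijective φ₀ ⟨hφinj, hφsurj⟩).symm
  have hφ1 : ∀ v : V, ((φ v : K) : Module.End (ZMod p) V) v₀ = v := by
    intro v
    exact (AddEquiv.ofBijective φ₀ ⟨hφinj, hφsurj⟩).apply_symm_apply v
  have hφ2 : ∀ x : K, φ ((x : Module.End (ZMod p) V) v₀) = x := by
    intro x
    exact (AddEquiv.ofBijective φ₀ ⟨hφinj, hφsurj⟩).symm_apply_apply x
  -- conjugation
  have hTinv : ∀ g : G, T g * T g⁻¹ = 1 := fun g => by rw [← map_mul, mul_inv_cancel, map_one]
  have hTinv' : ∀ g : G, T g⁻¹ * T g = 1 := fun g => by rw [← map_mul, inv_mul_cancel, map_one]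
  have hconj : ∀ (g : G) (x : Module.End (ZMod p) V), x ∈ K → T g * x * T g⁻¹ ∈ K := by
    intro g x hx
    rw [hmem]
    intro a ha
    have ha' : g⁻¹ * a * g ∈ A := by
      have := hAn.conj_mem a ha g⁻¹
      rwa [inv_inv] at this
    have h1 : T g⁻¹ * T a = T (g⁻¹ * a * g) * T g⁻¹ := by
      rw [← map_mul, ← map_mul]
      congr 1
      group
    have h2 : T g * T (g⁻¹ * a * g) = T a * T g := by
      rw [← map_mul, ← map_mul]
      congr 1
      group
    calc T g * x * T g⁻¹ * T a = T g * x * (T g⁻¹ * T a) := by rw [mul_assoc]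
      _ = T g * (x * T (g⁻¹ * a * g)) * T g⁻¹ := by rw [h1]; simp only [mul_assoc]
      _ = T g * (T (g⁻¹ * a * g) * x) * T g⁻¹ := by rw [(hmem x).mp hx _ ha']
      _ = (T g * T (g⁻¹ * a * g)) * x * T g⁻¹ := by simp only [mul_assoc]
      _ = T a * (T g * x * T g⁻¹) := by rw [h2]; simp only [mul_assoc]
  let τ : G → K ≃+* K := fun g =>
    { toFun := fun x => ⟨T g * x * T g⁻¹, hconj g x x.2⟩
      invFun := fun x => ⟨T g⁻¹ * x * T g, by
        have := hconj g⁻¹ x x.2
        rwa [inv_inv] at this⟩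
      left_inv := fun x => by
        apply Subtype.ext
        show T g⁻¹ * (T g * x * T g⁻¹) * T g = x
        calc T g⁻¹ * (T g * x * T g⁻¹) * T g = (T g⁻¹ * T g) * x * (T g⁻¹ * T g) := by
              simp only [mul_assoc]
          _ = x := by rw [hTinv', one_mul, mul_one]
      right_inv := fun x => by
        apply Subtype.ext
        show T g * (T g⁻¹ * x * T g) * T g⁻¹ = x
        calc T g * (T g⁻¹ * x * T g) * T g⁻¹ = (T g * T g⁻¹) * x * (T g * T g⁻¹) := by
              simp only [mul_assoc]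
          _ = x := by rw [hTinv, one_mul, mul_one]
      map_mul' := fun x y => by
        apply Subtype.ext
        show T g * (x * y) * T g⁻¹ = (T g * x * T g⁻¹) * (T g * y * T g⁻¹)
        calc T g * (x * y) * T g⁻¹ = T g * x * 1 * y * T g⁻¹ := by simp only [mul_assoc, one_mul]
          _ = (T g * x * T g⁻¹) * (T g * y * T g⁻¹) := by
              rw [← hTinv' g]; simp only [mul_assoc]
      map_add' := fun x y => by
        apply Subtype.ext
        show T g * (x + y) * T g⁻¹ = (T g * x * T g⁻¹) + (T g * y * T g⁻¹)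
        rw [mul_add, add_mul] }
  have hτ : ∀ (g : G) (x : K), ((τ g x : K) : Module.End (ZMod p) V) = T g * x * T g⁻¹ :=
    fun g x => rfl
  have key : ∀ (g : G) (v : V), φ (ρ g v) = φ (ρ g v₀) * τ g (φ v) := by
    intro g v
    have h1 : ρ g v = ((φ (ρ g v₀) * τ g (φ v) : K) : Module.End (ZMod p) V) v₀ := by
      rw [hcomm]
      simp only [Subring.coe_mul, Module.End.mul_apply]
      rw [hφ1, hτ]
      simp only [Module.End.mul_apply]
      rw [hTa g⁻¹, hTa g, rho_inv_apply, hφ1]
    rw [h1, hφ2]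
  letI : Field K := hfield.toField
  letI : Fintype K := Fintype.ofFinite K
  exact ⟨K, inferInstance, inferInstance, φ, fun g => ⟨φ (ρ g v₀), τ g, fun v => key g v⟩⟩

end Cfsg.Agent.Lib.Helper12.HupF
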