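import Mathlib
import Cfsg.Agent.Lib.Helper12.PerfD
import Cfsg.Agent.S3378

/-!
**Zassenhaus' theorem** (helper12): a non-trivial perfect group acting fixed-point-freely on a
finite vector space over `ZMod p` is isomorphic to `SL(2, 5)`.
-/

set_option autoImplicit false

namespace Cfsg.Agent.Lib.Helper12.PerfFpf

open Subgroup
open scoped Pointwise
open Cfsg.Agent.Lib.Helper12.FpfRing
open Cfsg.Agent.Lib.Helper12.FpfLin
open Cfsg.Agent.Lib.Helper12.Golden
open Cfsg.Agent.Lib.Helper12.GoldenK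
open Cfsg.Agent.Lib.Helper12.PerfA
open Cfsg.Agent.Lib.Helper12.PerfB
open Cfsg.Agent.Lib.Helper12.PerfC
open Cfsg.Agent.Lib.Helper12.PerfD

variable {p : ℕ} [Fact p.Prime] {V : Type*} [AddCommGroup V] [Module (ZMod p) V] [Finite V]
  [Nontrivial V]

/-- Two non-commuting elements of order three. -/
theorem exists_pair {G : Type*} [Group G] [Finite G] {ρ : G →* (V ≃ₗ[ZMod p] V)} (hf : IsFpf ρ)
    (hperf : commutator G = ⊤) [Nontrivial G] :
    ∃ x x' : G, x ≠ 1 ∧ x ^ 3 = 1 ∧ x' ≠ 1 ∧ x' ^ 3 = 1 ∧ x * x' ≠ x' * x := by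
  have hfR := fpfR_of_fpf hf
  haveI : Group.IsPerfect G := ⟨hperf⟩
  have hns : ¬ Group.IsSolvable G := Group.IsPerfect.not_isSolvable G
  haveI : Fact (Nat.Prime 2) := ⟨Nat.prime_two⟩
  haveI : Fact (Nat.Prime 3) := ⟨Nat.prime_three⟩
  obtain ⟨P⟩ : Nonempty (Sylow 2 G) := inferInstance
  have hno : ∀ N : Subgroup G, N.Normal → N.IsComplement' (P : Subgroup G) → False := by
    intro N hN hc
    have hidx : N.index = Nat.card (P : Subgroup G) := hc.symm.index_eq_card
    obtain ⟨k, hk⟩ := IsPGroup.iff_card.mp P.2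
    have hk' : Nat.card (P : Subgroup G) = 2 ^ k := hk
    haveI : Group.IsSolvable (G ⧸ N) := by
      have hp : IsPGroup 2 (G ⧸ N) :=
        IsPGroup.of_card (n := k) (by rw [← Subgroup.index_eq_card, hidx, hk'])
      haveI := hp.isNilpotent
      infer_instance
    haveI := subsingleton_of_perfect hperf (QuotientGroup.mk' N) (QuotientGroup.mk'_surjective N)
    have hNtop : N = ⊤ := by
      rw [← Subgroup.index_eq_one, Subgroup.index_eq_card]
      exact Nat.card_unique
    rw [hNtop, isComplement'_top_left] at hc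
    have h2 : ¬ 2 ∣ Nat.card G := fun h => P.ne_bot_of_dvd_card h hc
    apply hns
    haveI : IsZGroup G := by
      apply zgroup_of_fpf hf
      intro k hk4
      have h1 : orderOf k ∣ 4 := orderOf_dvd_of_pow_eq_one hk4
      have h3 : orderOf k ∣ Nat.card G := orderOf_dvd_natCard k
      have hcop : Nat.Coprime 4 (Nat.card G) := by
        have h2' : Nat.Coprime 2 (Nat.card G) :=
          (Nat.Prime.coprime_iff_not_dvd Nat.prime_two).mpr h2
        exact Nat.Coprime.pow_left 2 h2'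
      have h5 : orderOf k = 1 := Nat.eq_one_of_dvd_coprimes hcop h1 h3
      rw [orderOf_eq_one_iff] at h5
      rw [h5, one_pow]
    infer_instance
  have h3 : 3 ∣ Nat.card G := (exists_QN hfR P hno).1
  obtain ⟨x, hx⟩ := exists_prime_orderOf_dvd_card' 3 h3
  have hx1 : x ≠ 1 := by
    intro h
    rw [h, orderOf_one] at hx
    omega
  have hx3 : x ^ 3 = 1 := by rw [← hx]; exact pow_orderOf_eq_one x
  by_contra hall
  push Not at hall
  have hsq : ∀ g : G, g ^ 2 * x = x * g ^ 2 := by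
    intro g
    have hy1 : g * x * g⁻¹ ≠ 1 := fun h => hx1 (conj_eq_one_iff.mp h)
    have hy3 : (g * x * g⁻¹) ^ 3 = 1 := by rw [conj_pow, hx3]; group
    have hc := hall x (g * x * g⁻¹) hx1 hx3 hy1 hy3
    have e1 : g ^ 2 * x = g * (g * x * g⁻¹) * g⁻¹ * g ^ 2 := by
      rw [pow_two]; group
    rcases comm_cubes hfR hx1 hx3 hy1 hy3 hc with h | h
    · rw [e1, h, h]
    · rw [e1, h]
      have e2 : g * x⁻¹ * g⁻¹ = (g * x * g⁻¹)⁻¹ := by group
      rw [e2, h, inv_inv]
  have hcen : ∀ g : G, g * x = x * g := by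
    have hle : commutator G ≤ centralizer ({x} : Set G) := by
      rw [_root_.commutator_def, Subgroup.commutator_le]
      intro g₁ _ g₂ _
      have e1 : g₁ * g₂ * g₁⁻¹ * g₂⁻¹ = g₁ ^ 2 * (g₁⁻¹ * g₂) ^ 2 * (g₂⁻¹) ^ 2 := by
        rw [pow_two, pow_two, pow_two]; group
      rw [commutatorElement_def, e1]
      have hm : ∀ g : G, g ^ 2 ∈ centralizer ({x} : Set G) := by
        intro g
        rw [mem_centralizer_iff]
        intro h hh
        rw [Set.mem_singleton_iff] at hh
        rw [hh]; exact (hsq g).symm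
      exact mul_mem (mul_mem (hm _) (hm _)) (hm _)
    intro g
    have hg : g ∈ centralizer ({x} : Set G) := hle (by rw [hperf]; exact mem_top g)
    rw [mem_centralizer_iff] at hg
    exact (hg x rfl).symm
  have hker : ∀ g : G, g ^ (center G).index = 1 := by
    intro g
    have hle : commutator G ≤ (MonoidHom.transferCenterPow G).ker := by
      rw [_root_.commutator_def, Subgroup.commutator_le]
      intro g₁ _ g₂ _
      rw [commutatorElement_def, MonoidHom.mem_ker, map_mul, map_mul, map_mul, map_inv, map_inv]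
      have hcm : (MonoidHom.transferCenterPow G g₁) * (MonoidHom.transferCenterPow G g₂)
          = (MonoidHom.transferCenterPow G g₂) * (MonoidHom.transferCenterPow G g₁) :=
        Subtype.ext (mem_center_iff.mp (MonoidHom.transferCenterPow G g₂).2 _)
      rw [hcm, mul_inv_cancel_right, mul_inv_cancel]
    have hg : g ∈ (MonoidHom.transferCenterPow G).ker := hle (by rw [hperf]; exact mem_top g)
    rw [MonoidHom.mem_ker] at hg
    have hg' := congrArg Subtype.val hg
    rwa [MonoidHom.transferCenterPow_apply] at hg'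
  obtain ⟨P3⟩ : Nonempty (Sylow 3 G) := inferInstance
  haveI := sylow_cyclic hf (q := 3) (by norm_num) P3
  obtain ⟨c, hc⟩ := IsCyclic.exists_generator (α := (P3 : Subgroup G))
  have hoc : orderOf c = Nat.card (P3 : Subgroup G) := orderOf_eq_card_of_forall_mem_zpowers hc
  have hoc' : orderOf (c : G) = Nat.card (P3 : Subgroup G) := by
    rw [← hoc, Subgroup.orderOf_coe]
  have hd1 : Nat.card (P3 : Subgroup G) ∣ (center G).index := by
    rw [← hoc']; exact orderOf_dvd_of_pow_eq_one (hker c)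
  have hxc : x ∈ center G := by
    rw [mem_center_iff]; exact hcen
  have hd2 : 3 ∣ Nat.card (center G) := by
    have hd := orderOf_dvd_natCard (⟨x, hxc⟩ : center G)
    rwa [Subgroup.orderOf_mk, hx] at hd
  have hd3 : Nat.card (P3 : Subgroup G) * 3 ∣ Nat.card G := by
    rw [← (center G).index_mul_card]
    exact Nat.mul_dvd_mul hd1 hd2
  rw [Sylow.card_eq_multiplicity, ← pow_succ] at hd3
  exact Nat.pow_succ_factorization_not_dvd Nat.card_pos.ne' Nat.prime_three hd3

theorem not_mem_of_ne {G : Type*} [Group G] {x s s' : G} {Q Q' : Subgroup G} (hQ : QN x Q)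
    (hQ' : QN x Q') (f : IsFrame x s) (hs : Qs x s = Q) (hs' : Qs x s' = Q') (hne : Q' ≠ Q) :
    s' ∉ Qs x s := by
  intro h
  have hle : Qs x s' ≤ Qs x s := Qs_le_of h (Qs_conj f h)
  rw [hs, hs'] at hle
  haveI : Finite Q := Nat.finite_of_card_ne_zero (by rw [QN_card hQ]; norm_num)
  exact hne (eq_of_le_of_card_ge hle (by rw [QN_card hQ, QN_card hQ']))

theorem cube_of_conj {G : Type*} [Group G] {x : G} (hx3 : x ^ 3 = 1) (s : G) :
    (s * x * s⁻¹) ^ 3 = 1 := by
  rw [conj_pow, hx3]; group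

/-- **Zassenhaus.** -/
theorem perf_fpf {G : Type*} [Group G] [Finite G] {ρ : G →* (V ≃ₗ[ZMod p] V)} (hf : IsFpf ρ)
    (hperf : commutator G = ⊤) [Nontrivial G] :
    Nonempty (G ≃* Matrix.SpecialLinearGroup (Fin 2) (ZMod 5)) := by
  have hfR := fpfR_of_fpf hf
  haveI : Group.IsPerfect G := ⟨hperf⟩
  have hns : ¬ Group.IsSolvable G := Group.IsPerfect.not_isSolvable G
  haveI : Fact (Nat.Prime 2) := ⟨Nat.prime_two⟩
  obtain ⟨x, x₀, hx1, hx3, hx₀1, hx₀3, hnc₀⟩ := exists_pair hf hperf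
  obtain ⟨Q₁, hQ₁, -, -⟩ := pair_analysis hfR hx1 hx3 hx₀1 hx₀3 hnc₀
  obtain ⟨e₁⟩ := hQ₁.1
  obtain ⟨s₁, f₁, hs₁⟩ := frame_of_QN hQ₁ hx3
  have hxM₃ : x ∈ closure {g : G | g ^ 3 = 1} := Subgroup.subset_closure hx3
  have hcubes := cubes_normal G
  -- a second quaternion group
  have hsecond : ∃ Q₂, QN x Q₂ ∧ Q₂ ≠ Q₁ := by
    by_contra hcon
    push Not at hcon
    apply hns
    have hL₁ := QN_sup_card hQ₁ hx1 hx3
    have claim3 : ∀ x' : G, x' ≠ 1 → x' ^ 3 = 1 → x' ∈ zpowers x ⊔ Q₁ := by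
      intro x' h1 h3
      by_cases hc : x * x' = x' * x
      · rcases comm_cubes hfR hx1 hx3 h1 h3 hc with h | h
        · rw [h]; exact le_sup_left (α := Subgroup G) (mem_zpowers x)
        · rw [h]; exact le_sup_left (α := Subgroup G) (inv_mem (mem_zpowers x))
      · obtain ⟨Q, hQ, hQL, hcase⟩ := pair_analysis hfR hx1 hx3 h1 h3 hc
        have hQeq := hcon Q hQ
        rcases hcase with h24 | ⟨h120, v, hvL, hinv, hv4⟩
        · have hmem : x' ∈ closure ({x, x'} : Set G) := Subgroup.subset_closure (by simp)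
          rw [h24, hQeq] at hmem
          exact hmem
        · exfalso
          have hQc := QN_inv_conj hQ hinv
          have h1' := hcon _ hQc
          rw [← hQeq] at h1'
          exact cj_ne hQ hx1 hx3 hQL hvL h120 hv4 hinv h1'
    have hM₃le : closure {g : G | g ^ 3 = 1} ≤ zpowers x ⊔ Q₁ := by
      rw [closure_le]
      intro g hg
      have hg3 : g ^ 3 = 1 := hg
      by_cases hg1 : g = 1
      · rw [hg1]; exact one_mem _
      · exact claim3 g hg1 hg3
    have hleM₃ : zpowers x ⊔ Q₁ ≤ closure {g : G | g ^ 3 = 1} := by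
      apply sup_le (zpowers_le.mpr hxM₃)
      rw [← hs₁]
      apply Qs_le hxM₃
      exact frame_mem_aux f₁ _ hxM₃ (Subgroup.subset_closure (cube_of_conj hx3 s₁))
    have hLeq : zpowers x ⊔ Q₁ = closure {g : G | g ^ 3 = 1} := le_antisymm hleM₃ hM₃le
    have hLn : (zpowers x ⊔ Q₁ : Subgroup G).Normal := by rw [hLeq]; exact hcubes
    have hLnorm : zpowers x ⊔ Q₁ ≤ normalizer (Q₁ : Set G) :=
      sup_le (zpowers_le.mpr hQ₁.2.1) le_normalizer
    have hQn : Q₁.Normal := by
      constructor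
      intro n hn g
      have hR2 : IsPGroup 2 (MulAut.conj g • Q₁ : Subgroup G) :=
        k8_pgroup ((Subgroup.equivSMul (MulAut.conj g) Q₁).symm.trans e₁)
      have hRL : MulAut.conj g • Q₁ ≤ zpowers x ⊔ Q₁ := by
        intro k hk
        rw [mem_cj] at hk
        have h1 : g⁻¹ * k * g ∈ zpowers x ⊔ Q₁ := le_sup_right (α := Subgroup G) hk
        have h2 := hLn.conj_mem _ h1 g
        have e1 : g * (g⁻¹ * k * g) * g⁻¹ = k := by group
        rw [e1] at h2
        exact h2
      have hle := two_sub_le (Q := Q₁) (R := MulAut.conj g • Q₁) (L := zpowers x ⊔ Q₁)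
        (k8_pgroup e₁) hR2 (hRL.trans hLnorm) le_sup_right hRL (fun k hk => by
          rw [k8_card e₁]; rw [hL₁] at hk; exact pow2_le_8_of_dvd_24 k hk)
      apply hle
      rw [mem_cj]
      have e1 : g⁻¹ * (g * n * g⁻¹) * g = n := by group
      rw [e1]; exact hn
    have hNtop : normalizer (Q₁ : Set G) = ⊤ := normalizer_eq_top_iff.mpr hQn
    haveI := normalizer_solvable hf Q₁ e₁
    have hsurj : Function.Surjective (normalizer (Q₁ : Set G)).subtype := by
      intro g
      exact ⟨⟨g, by rw [hNtop]; exact mem_top g⟩, rfl⟩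
    exact Group.isSolvable_of_surjective hsurj
  obtain ⟨Q₂, hQ₂, hne⟩ := hsecond
  obtain ⟨e₂⟩ := hQ₂.1
  obtain ⟨s₂, f₂, hs₂⟩ := frame_of_QN hQ₂ hx3
  have h12 : s₂ ∉ Qs x s₁ := not_mem_of_ne hQ₁ hQ₂ f₁ hs₁ hs₂ hne
  have hM : Nat.card (Mg x s₁ s₂) = 120 := (golden_core hfR hx1 hx3 f₁ f₂ h12).1
  have hxM : x ∈ Mg x s₁ s₂ := x_mem_Mg x s₁ s₂
  have hs₁M : s₁ ∈ Mg x s₁ s₂ := s_mem_Mg s₂ f₁
  have hs₂M : s₂ ∈ Mg x s₁ s₂ := s'_mem_Mg s₁ f₂
  have hQ₁M : Q₁ ≤ Mg x s₁ s₂ := by rw [← hs₁]; exact Qs_le hxM hs₁M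
  have hQ₂M : Q₂ ≤ Mg x s₁ s₂ := by rw [← hs₂]; exact Qs_le hxM hs₂M
  have hK : ∀ Q, QN x Q → Q = Q₁ ∨ Q = Q₂ := by
    intro Q hQ
    by_contra hcon
    push Not at hcon
    obtain ⟨s₃, f₃, hs₃⟩ := frame_of_QN hQ hx3
    exact K_three hfR hx1 hx3 f₁ f₂ f₃ h12 (not_mem_of_ne hQ₁ hQ f₁ hs₁ hs₃ hcon.1)
      (not_mem_of_ne hQ₂ hQ f₂ hs₂ hs₃ hcon.2)
  have hs₁Q : s₁ ∈ Q₁ := by rw [← hs₁]; exact s_mem_Qs x s₁
  have hs₂Q : s₂ ∈ Q₂ := by rw [← hs₂]; exact s_mem_Qs x s₂
  have claim3 : ∀ x' : G, x' ≠ 1 → x' ^ 3 = 1 → x' ∈ Mg x s₁ s₂ := by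
    intro x' h1 h3
    by_cases hc : x * x' = x' * x
    · rcases comm_cubes hfR hx1 hx3 h1 h3 hc with h | h
      · rw [h]; exact hxM
      · rw [h]; exact inv_mem hxM
    · obtain ⟨Q, hQ, hQL, hcase⟩ := pair_analysis hfR hx1 hx3 h1 h3 hc
      have hQ12 := hK Q hQ
      have hQM : Q ≤ Mg x s₁ s₂ := by
        rcases hQ12 with h | h <;> rw [h] <;> assumption
      have hmem : x' ∈ closure ({x, x'} : Set G) := Subgroup.subset_closure (by simp)
      have hxL : x ∈ closure ({x, x'} : Set G) := Subgroup.subset_closure (by simp)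
      rcases hcase with h24 | ⟨h120, v, hvL, hinv, hv4⟩
      · rw [h24] at hmem
        exact (sup_le (zpowers_le.mpr hxM) hQM) hmem
      · have hQc := QN_inv_conj hQ hinv
        have hne' := cj_ne hQ hx1 hx3 hQL hvL h120 hv4 hinv
        have hcL : MulAut.conj v • Q ≤ closure ({x, x'} : Set G) := cj_le hQL hvL
        have hboth : Q₁ ≤ closure ({x, x'} : Set G) ∧ Q₂ ≤ closure ({x, x'} : Set G) := by
          rcases hQ12 with h | h
          · rcases hK _ hQc with h' | h'
            · exact absurd (h'.trans h.symm) hne'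
            · exact ⟨h ▸ hQL, h' ▸ hcL⟩
          · rcases hK _ hQc with h' | h'
            · exact ⟨h' ▸ hcL, h ▸ hQL⟩
            · exact absurd (h'.trans h.symm) hne'
        have hML : Mg x s₁ s₂ ≤ closure ({x, x'} : Set G) := by
          unfold Mg
          rw [closure_le]
          intro g hg
          rcases hg with rfl | rfl | hg
          · exact hxL
          · exact mul_mem (mul_mem (hboth.1 hs₁Q) hxL) (inv_mem (hboth.1 hs₁Q))
          · rw [Set.mem_singleton_iff] at hg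
            rw [hg]
            exact mul_mem (mul_mem (hboth.2 hs₂Q) hxL) (inv_mem (hboth.2 hs₂Q))
        have hMeq := eq_of_le_of_card_ge hML (by rw [hM, h120])
        rw [hMeq]; exact hmem
  have hMeq : Mg x s₁ s₂ = closure {g : G | g ^ 3 = 1} := by
    apply le_antisymm
    · unfold Mg
      rw [closure_le]
      intro g hg
      apply Subgroup.subset_closure
      rcases hg with rfl | rfl | hg
      · exact hx3
      · exact cube_of_conj hx3 s₁
      · rw [Set.mem_singleton_iff] at hg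
        rw [hg]; exact cube_of_conj hx3 s₂
    · rw [closure_le]
      intro g hg
      have hg3 : g ^ 3 = 1 := hg
      by_cases hg1 : g = 1
      · rw [hg1]; exact one_mem _
      · exact claim3 g hg1 hg3
  haveI hMn : (Mg x s₁ s₂).Normal := by rw [hMeq]; exact hcubes
  -- Frattini
  have h120f : (120 : ℕ).factorization 2 = 3 := by
    have e : (120 : ℕ) = 2 ^ 3 * 15 := by norm_num
    rw [e]
    exact Cfsg.Agent.Lib.Helper56.SmallSolvable.factorization_pow_mul 2 3 15 Nat.prime_two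
      (by norm_num)
  have hcardsub : Nat.card (Q₁.subgroupOf (Mg x s₁ s₂))
      = 2 ^ (Nat.card (Mg x s₁ s₂)).factorization 2 := by
    rw [hM, h120f, Nat.card_congr (subgroupOfEquivOfLe hQ₁M).toEquiv, k8_card e₁]
    norm_num
  have hfrat := Sylow.normalizer_sup_eq_top (Sylow.ofCard (Q₁.subgroupOf (Mg x s₁ s₂)) hcardsub)
  rw [Sylow.coe_ofCard, subgroupOf_map_subtype, inf_of_le_left hQ₁M] at hfrat
  haveI := normalizer_solvable hf Q₁ e₁
  have hsurj : Function.Surjective ((QuotientGroup.mk' (Mg x s₁ s₂)).comp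
      (normalizer (Q₁ : Set G)).subtype) := by
    intro y
    obtain ⟨g, rfl⟩ := QuotientGroup.mk_surjective y
    have hg : g ∈ normalizer (Q₁ : Set G) ⊔ Mg x s₁ s₂ := by rw [hfrat]; exact mem_top g
    obtain ⟨n, hn, m, hm, rfl⟩ := mem_sup_of_normal_right.mp hg
    refine ⟨⟨n, hn⟩, ?_⟩
    show (QuotientGroup.mk n : G ⧸ Mg x s₁ s₂) = QuotientGroup.mk (n * m)
    rw [QuotientGroup.eq]
    simpa using hm
  haveI : Group.IsSolvable (G ⧸ Mg x s₁ s₂) := Group.isSolvable_of_surjective hsurj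
  haveI := subsingleton_of_perfect hperf (QuotientGroup.mk' (Mg x s₁ s₂))
    (QuotientGroup.mk'_surjective _)
  have hMtop : Mg x s₁ s₂ = ⊤ := by
    rw [← Subgroup.index_eq_one, Subgroup.index_eq_card]
    exact Nat.card_unique
  have hcard : Nat.card G = 120 := by
    rw [← Subgroup.card_top, ← hMtop, hM]
  refine Cfsg.Agent.S3378.result.1 G hcard hns ?_
  intro P'
  obtain ⟨P₀, hP₀⟩ := (k8_pgroup e₁).exists_le_sylow
  have hP₀card : Nat.card (P₀ : Subgroup G) = 8 := by
    rw [Sylow.card_eq_multiplicity, hcard, h120f]; norm_num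
  have hPeq : Q₁ = (P₀ : Subgroup G) :=
    eq_of_le_of_card_ge hP₀ (by rw [hP₀card, k8_card e₁])
  exact ⟨(Sylow.equiv P' P₀).trans ((MulEquiv.subgroupCongr hPeq.symm).trans e₁)⟩

end Cfsg.Agent.Lib.Helper12.PerfFpf
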