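import Mathlib
import Cfsg.Agent.Lib.Helper12.PerfFpf

/-!
Structure of a perfect fixed-point-free group, with its frames (helper12): the data behind
`perf_fpf` (an element `x` of order three, two quaternion frames, an element of order four
inverting `x`), exported for the non-solvable case.
-/

set_option autoImplicit false

namespace Cfsg.Agent.Lib.Helper12.PerfS

open Subgroup
open scoped Pointwise
open Cfsg.Agent.Lib.Helper12.FpfRing
open Cfsg.Agent.Lib.Helper12.Frame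
open Cfsg.Agent.Lib.Helper12.TwoDimOrder
open Cfsg.Agent.Lib.Helper12.FpfLin
open Cfsg.Agent.Lib.Helper12.Golden
open Cfsg.Agent.Lib.Helper12.GoldenK
open Cfsg.Agent.Lib.Helper12.PerfA
open Cfsg.Agent.Lib.Helper12.PerfB
open Cfsg.Agent.Lib.Helper12.PerfC
open Cfsg.Agent.Lib.Helper12.PerfD
open Cfsg.Agent.Lib.Helper12.PerfFpf

section Ring

variable {Γ : Type*} [Group Γ] {E : Type*} [Ring E] [Nontrivial E]

/-- In the golden group: an element of order four inverting `x`, and the centre has exponent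
two. -/
theorem golden_v [Finite Γ] {ρ : Γ →* E} (hf : IsFpfR ρ) {x s s' : Γ} (hx1 : x ≠ 1)
    (hx3 : x ^ 3 = 1) (fs : IsFrame x s) (fs' : IsFrame x s') (hne : s' ∉ Qs x s) :
    (∃ v ∈ Mg x s s', v * x * v⁻¹ = x⁻¹ ∧ v ^ 4 = 1) ∧
    (∀ y ∈ Mg x s s', (∀ g ∈ Mg x s s', g * y = y * g) → y ^ 2 = 1) := by
  have F := fs.rf hf
  have F' := fs'.rf hf
  have h2u : IsUnit (2 : E) := two_unit hf fs.h2 (by rw [← pow_mul]; exact fs.h4)
  have h3u : IsUnit (3 : E) := three_unit hf hx1 hx3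
  have hX := sq_of_cube hf hx1 hx3
  obtain ⟨b₁, b₂, b₃, g₁, g₂, g₃, c12, c23, c31, hsum, hsq, hS', hT', hU'⟩ :=
    frame_two F F' h2u h3u hX (frame_xs ρ x s) (fs.xt ρ) (frame_xs ρ x s') (fs'.xt ρ)
  obtain ⟨a₁, a₂, a₃⟩ := anti F g₁ g₂ g₃
  rw [← hS'] at a₁ a₂ a₃
  obtain ⟨h, hh, hc⟩ := exists_half h2u
  have hcenh : Cen (ρ s) (ρ (x * s * x⁻¹)) h := ⟨hc _, hc _⟩
  -- the coefficient ring
  have hcomm : ∀ a ∈ ({b₁, b₂, b₃, h} : Set E), ∀ b ∈ ({b₁, b₂, b₃, h} : Set E),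
      a * b = b * a := by
    intro a ha b hb
    simp only [Set.mem_insert_iff, Set.mem_singleton_iff] at ha hb
    rcases ha with rfl | rfl | rfl | rfl <;> rcases hb with rfl | rfl | rfl | rfl <;>
      first | rfl | assumption | (symm; assumption) | exact hc _ | exact (hc _).symm
  have hcen : ∀ a ∈ ({b₁, b₂, b₃, h} : Set E), Cen (ρ s) (ρ (x * s * x⁻¹)) a := by
    intro a ha
    simp only [Set.mem_insert_iff, Set.mem_singleton_iff] at ha
    rcases ha with rfl | rfl | rfl | rfl <;> assumption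
  obtain ⟨hRcomm, hRcen⟩ := closure_props hcomm hcen
  have mb₁ : b₁ ∈ Subring.closure ({b₁, b₂, b₃, h} : Set E) := Subring.subset_closure (by simp)
  have mb₂ : b₂ ∈ Subring.closure ({b₁, b₂, b₃, h} : Set E) := Subring.subset_closure (by simp)
  have mb₃ : b₃ ∈ Subring.closure ({b₁, b₂, b₃, h} : Set E) := Subring.subset_closure (by simp)
  have mh : h ∈ Subring.closure ({b₁, b₂, b₃, h} : Set E) := Subring.subset_closure (by simp)
  have hXq := frame_x_qd hh (frame_x F h2u hX (frame_xs ρ x s) (fs.xt ρ))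
  have gx : Good ρ (ρ s) (ρ (x * s * x⁻¹)) (Subring.closure ({b₁, b₂, b₃, h} : Set E)) x := by
    refine ⟨-h, neg_mem mh, -h, neg_mem mh, -h, neg_mem mh, -h, neg_mem mh, hXq, ?_⟩
    rw [inv_of_cube hf hx1 hx3, hXq]
    unfold qd
    simp only [neg_neg, neg_mul]
    have e1 : (1 : E) = h + h := hh.symm
    rw [e1]
    abel
  have gs : Good ρ (ρ s) (ρ (x * s * x⁻¹)) (Subring.closure ({b₁, b₂, b₃, h} : Set E)) s := by
    refine ⟨0, zero_mem _, 1, one_mem _, 0, zero_mem _, 0, zero_mem _, qd_S _ _, ?_⟩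
    rw [inv_of_four hf fs.h2 fs.h4]
    unfold qd
    simp
  have gs' : Good ρ (ρ s) (ρ (x * s * x⁻¹)) (Subring.closure ({b₁, b₂, b₃, h} : Set E)) s' := by
    refine ⟨0, zero_mem _, b₁, mb₁, b₂, mb₂, b₃, mb₃, hS', ?_⟩
    rw [inv_of_four hf fs'.h2 fs'.h4, hS', qd_neg, neg_zero]
  have hk : ∀ g ∈ ({x, s * x * s⁻¹, s' * x * s'⁻¹} : Set Γ),
      Good ρ (ρ s) (ρ (x * s * x⁻¹)) (Subring.closure ({b₁, b₂, b₃, h} : Set E)) g := by
    intro g hg
    rcases hg with rfl | rfl | hg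
    · exact gx
    · exact good_mul F hRcomm hRcen (good_mul F hRcomm hRcen gs gx) (good_inv gs)
    · rw [Set.mem_singleton_iff] at hg
      rw [hg]
      exact good_mul F hRcomm hRcen (good_mul F hRcomm hRcen gs' gx) (good_inv gs')
  have h2d : TwoDim (ρ.comp (Mg x s s').subtype) := twoDim_of_good F hRcomm hRcen hk
  have mx := x_mem_Mg x s s'
  have ms := s_mem_Mg s' fs
  have ms' := s'_mem_Mg s fs'
  have mt : x * s * x⁻¹ ∈ Mg x s s' := mul_mem (mul_mem mx ms) (inv_mem mx)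
  have hna : ∃ a b : Mg x s s', a * b ≠ b * a := by
    refine ⟨⟨x * s * x⁻¹, mt⟩, ⟨s, ms⟩, fun hab => ?_⟩
    have hab' : (x * s * x⁻¹) * s = s * (x * s * x⁻¹) := congrArg Subtype.val hab
    have h1 := fs.hts
    rw [hab', mul_inv_cancel_right] at h1
    apply fs.h2
    rw [pow_two]
    exact mul_eq_one_iff_eq_inv.mpr h1
  have hgen : Subgroup.closure {g : Mg x s s' | g ^ 3 = 1} = ⊤ := by
    have h0 := Subgroup.closure_closure_coe_preimage
      (k := ({x, s * x * s⁻¹, s' * x * s'⁻¹} : Set Γ))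
    rw [eq_top_iff]
    have hsub : ((↑) : Subgroup.closure ({x, s * x * s⁻¹, s' * x * s'⁻¹} : Set Γ) → Γ) ⁻¹'
        ({x, s * x * s⁻¹, s' * x * s'⁻¹} : Set Γ) ⊆ {g : Mg x s s' | g ^ 3 = 1} := by
      rintro ⟨g, hg⟩ hgk
      have hgk' : g ∈ ({x, s * x * s⁻¹, s' * x * s'⁻¹} : Set Γ) := hgk
      have h3 : g ^ 3 = 1 := by
        rcases hgk' with rfl | rfl | hgk'
        · exact hx3
        · rw [conj_pow, hx3]; group
        · rw [Set.mem_singleton_iff] at hgk'
          rw [hgk', conj_pow, hx3]; group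
      exact Subtype.ext h3
    exact h0.symm.le.trans (Subgroup.closure_mono hsub)
  have hord := order_of_twoDim (fpf_comp hf (Mg x s s')) h2d hna hgen
  have hcard := (golden_core hf hx1 hx3 fs fs' hne).1
  constructor
  · rcases hord with ⟨h24, -⟩ | ⟨-, -, hv⟩
    · rw [hcard] at h24
      omega
    · have hx2 : (⟨x, mx⟩ : Mg x s s') ^ 2 ≠ 1 := by
        intro h
        have h' : x ^ 2 = 1 := congrArg Subtype.val h
        apply hx1
        have h3 : x ^ 3 = x := by rw [pow_succ, h', one_mul]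
        rw [← h3, hx3]
      obtain ⟨v, hv1, hv4, -⟩ := hv ⟨x, mx⟩ hx2
      exact ⟨v, v.2, congrArg Subtype.val hv1, congrArg Subtype.val hv4⟩
  · intro y hy hcomm
    have hc := (center_iff (fpf_comp hf (Mg x s s')) h2d hna ⟨y, hy⟩).mp
      (mem_center_iff.mpr (fun g => Subtype.ext (hcomm g g.2)))
    exact congrArg Subtype.val hc

end Ring

variable {p : ℕ} [Fact p.Prime] {V : Type*} [AddCommGroup V] [Module (ZMod p) V] [Finite V]
  [Nontrivial V]

/-- **Zassenhaus, with the frames.** -/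
theorem perf_struct {G : Type*} [Group G] [Finite G] {ρ : G →* (V ≃ₗ[ZMod p] V)} (hf : IsFpf ρ)
    (hperf : commutator G = ⊤) [Nontrivial G] :
    ∃ x s₁ s₂ v : G, x ≠ 1 ∧ x ^ 3 = 1 ∧ IsFrame x s₁ ∧ IsFrame x s₂ ∧ s₂ ∉ Qs x s₁ ∧
      Mg x s₁ s₂ = ⊤ ∧ Nat.card G = 120 ∧ QN x (Qs x s₁) ∧ QN x (Qs x s₂) ∧
      v * x * v⁻¹ = x⁻¹ ∧ v ^ 4 = 1 := by
  have hfR := fpfR_of_fpf hf
  haveI : Group.IsPerfect G := ⟨hperf⟩
  have hns : ¬ Group.IsSolvable G := Group.IsPerfect.not_isSolvable G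
  haveI : Fact (Nat.Prime 2) := ⟨Nat.prime_two⟩
  obtain ⟨x, x₀, hx1, hx3, hx₀1, hx₀3, hnc₀⟩ := exists_pair hf hperf
  obtain ⟨Q₁, hQ₁, -, -⟩ := pair_analysis hfR hx1 hx3 hx₀1 hx₀3 hnc₀
  obtain ⟨e₁⟩ := hQ₁.1
  obtain ⟨s₁, f₁, hs₁⟩ := frame_of_QN hQ₁ hx3
  have hxM₃ : x ∈ closure {g : G | g ^ 3 = 1} := Subgroup.subset_closure hx3
  have hcubes := cubes_normal G
  -- a second quaternion group
  have hsecond : ∃ Q₂, QN x Q₂ ∧ Q₂ ≠ Q₁ := by
    by_contra hcon
    push Not at hcon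
    apply hns
    have hL₁ := QN_sup_card hQ₁ hx1 hx3
    have claim3 : ∀ x' : G, x' ≠ 1 → x' ^ 3 = 1 → x' ∈ zpowers x ⊔ Q₁ := by
      intro x' h1 h3
      by_cases hc : x * x' = x' * x
      · rcases comm_cubes hfR hx1 hx3 h1 h3 hc with h | h
        · rw [h]; exact le_sup_left (α := Subgroup G) (mem_zpowers x)
        · rw [h]; exact le_sup_left (α := Subgroup G) (inv_mem (mem_zpowers x))
      · obtain ⟨Q, hQ, hQL, hcase⟩ := pair_analysis hfR hx1 hx3 h1 h3 hc
        have hQeq := hcon Q hQ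
        rcases hcase with h24 | ⟨h120, v, hvL, hinv, hv4⟩
        · have hmem : x' ∈ closure ({x, x'} : Set G) := Subgroup.subset_closure (by simp)
          rw [h24, hQeq] at hmem
          exact hmem
        · exfalso
          have hQc := QN_inv_conj hQ hinv
          have h1' := hcon _ hQc
          rw [← hQeq] at h1'
          exact cj_ne hQ hx1 hx3 hQL hvL h120 hv4 hinv h1'
    have hM₃le : closure {g : G | g ^ 3 = 1} ≤ zpowers x ⊔ Q₁ := by
      rw [closure_le]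
      intro g hg
      have hg3 : g ^ 3 = 1 := hg
      by_cases hg1 : g = 1
      · rw [hg1]; exact one_mem _
      · exact claim3 g hg1 hg3
    have hleM₃ : zpowers x ⊔ Q₁ ≤ closure {g : G | g ^ 3 = 1} := by
      apply sup_le (zpowers_le.mpr hxM₃)
      rw [← hs₁]
      apply Qs_le hxM₃
      exact frame_mem_aux f₁ _ hxM₃ (Subgroup.subset_closure (cube_of_conj hx3 s₁))
    have hLeq : zpowers x ⊔ Q₁ = closure {g : G | g ^ 3 = 1} := le_antisymm hleM₃ hM₃le
    have hLn : (zpowers x ⊔ Q₁ : Subgroup G).Normal := by rw [hLeq]; exact hcubes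
    have hLnorm : zpowers x ⊔ Q₁ ≤ normalizer (Q₁ : Set G) :=
      sup_le (zpowers_le.mpr hQ₁.2.1) le_normalizer
    have hQn : Q₁.Normal := by
      constructor
      intro n hn g
      have hR2 : IsPGroup 2 (MulAut.conj g • Q₁ : Subgroup G) :=
        k8_pgroup ((Subgroup.equivSMul (MulAut.conj g) Q₁).symm.trans e₁)
      have hRL : MulAut.conj g • Q₁ ≤ zpowers x ⊔ Q₁ := by
        intro k hk
        rw [mem_cj] at hk
        have h1 : g⁻¹ * k * g ∈ zpowers x ⊔ Q₁ := le_sup_right (α := Subgroup G) hk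
        have h2 := hLn.conj_mem _ h1 g
        have e1 : g * (g⁻¹ * k * g) * g⁻¹ = k := by group
        rw [e1] at h2
        exact h2
      have hle := two_sub_le (Q := Q₁) (R := MulAut.conj g • Q₁) (L := zpowers x ⊔ Q₁)
        (k8_pgroup e₁) hR2 (hRL.trans hLnorm) le_sup_right hRL (fun k hk => by
          rw [k8_card e₁]; rw [hL₁] at hk; exact pow2_le_8_of_dvd_24 k hk)
      apply hle
      rw [mem_cj]
      have e1 : g⁻¹ * (g * n * g⁻¹) * g = n := by group
      rw [e1]; exact hn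
    have hNtop : normalizer (Q₁ : Set G) = ⊤ := normalizer_eq_top_iff.mpr hQn
    haveI := normalizer_solvable hf Q₁ e₁
    have hsurj : Function.Surjective (normalizer (Q₁ : Set G)).subtype := by
      intro g
      exact ⟨⟨g, by rw [hNtop]; exact mem_top g⟩, rfl⟩
    exact Group.isSolvable_of_surjective hsurj
  obtain ⟨Q₂, hQ₂, hne⟩ := hsecond
  obtain ⟨e₂⟩ := hQ₂.1
  obtain ⟨s₂, f₂, hs₂⟩ := frame_of_QN hQ₂ hx3
  have h12 : s₂ ∉ Qs x s₁ := not_mem_of_ne hQ₁ hQ₂ f₁ hs₁ hs₂ hne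
  have hM : Nat.card (Mg x s₁ s₂) = 120 := (golden_core hfR hx1 hx3 f₁ f₂ h12).1
  have hxM : x ∈ Mg x s₁ s₂ := x_mem_Mg x s₁ s₂
  have hs₁M : s₁ ∈ Mg x s₁ s₂ := s_mem_Mg s₂ f₁
  have hs₂M : s₂ ∈ Mg x s₁ s₂ := s'_mem_Mg s₁ f₂
  have hQ₁M : Q₁ ≤ Mg x s₁ s₂ := by rw [← hs₁]; exact Qs_le hxM hs₁M
  have hQ₂M : Q₂ ≤ Mg x s₁ s₂ := by rw [← hs₂]; exact Qs_le hxM hs₂M
  have hK : ∀ Q, QN x Q → Q = Q₁ ∨ Q = Q₂ := by
    intro Q hQ
    by_contra hcon
    push Not at hcon
    obtain ⟨s₃, f₃, hs₃⟩ := frame_of_QN hQ hx3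
    exact K_three hfR hx1 hx3 f₁ f₂ f₃ h12 (not_mem_of_ne hQ₁ hQ f₁ hs₁ hs₃ hcon.1)
      (not_mem_of_ne hQ₂ hQ f₂ hs₂ hs₃ hcon.2)
  have hs₁Q : s₁ ∈ Q₁ := by rw [← hs₁]; exact s_mem_Qs x s₁
  have hs₂Q : s₂ ∈ Q₂ := by rw [← hs₂]; exact s_mem_Qs x s₂
  have claim3 : ∀ x' : G, x' ≠ 1 → x' ^ 3 = 1 → x' ∈ Mg x s₁ s₂ := by
    intro x' h1 h3
    by_cases hc : x * x' = x' * x
    · rcases comm_cubes hfR hx1 hx3 h1 h3 hc with h | h
      · rw [h]; exact hxM
      · rw [h]; exact inv_mem hxM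
    · obtain ⟨Q, hQ, hQL, hcase⟩ := pair_analysis hfR hx1 hx3 h1 h3 hc
      have hQ12 := hK Q hQ
      have hQM : Q ≤ Mg x s₁ s₂ := by
        rcases hQ12 with h | h <;> rw [h] <;> assumption
      have hmem : x' ∈ closure ({x, x'} : Set G) := Subgroup.subset_closure (by simp)
      have hxL : x ∈ closure ({x, x'} : Set G) := Subgroup.subset_closure (by simp)
      rcases hcase with h24 | ⟨h120, v, hvL, hinv, hv4⟩
      · rw [h24] at hmem
        exact (sup_le (zpowers_le.mpr hxM) hQM) hmem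
      · have hQc := QN_inv_conj hQ hinv
        have hne' := cj_ne hQ hx1 hx3 hQL hvL h120 hv4 hinv
        have hcL : MulAut.conj v • Q ≤ closure ({x, x'} : Set G) := cj_le hQL hvL
        have hboth : Q₁ ≤ closure ({x, x'} : Set G) ∧ Q₂ ≤ closure ({x, x'} : Set G) := by
          rcases hQ12 with h | h
          · rcases hK _ hQc with h' | h'
            · exact absurd (h'.trans h.symm) hne'
            · exact ⟨h ▸ hQL, h' ▸ hcL⟩
          · rcases hK _ hQc with h' | h'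
            · exact ⟨h' ▸ hcL, h ▸ hQL⟩
            · exact absurd (h'.trans h.symm) hne'
        have hML : Mg x s₁ s₂ ≤ closure ({x, x'} : Set G) := by
          unfold Mg
          rw [closure_le]
          intro g hg
          rcases hg with rfl | rfl | hg
          · exact hxL
          · exact mul_mem (mul_mem (hboth.1 hs₁Q) hxL) (inv_mem (hboth.1 hs₁Q))
          · rw [Set.mem_singleton_iff] at hg
            rw [hg]
            exact mul_mem (mul_mem (hboth.2 hs₂Q) hxL) (inv_mem (hboth.2 hs₂Q))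
        have hMeq := eq_of_le_of_card_ge hML (by rw [hM, h120])
        rw [hMeq]; exact hmem
  have hMeq : Mg x s₁ s₂ = closure {g : G | g ^ 3 = 1} := by
    apply le_antisymm
    · unfold Mg
      rw [closure_le]
      intro g hg
      apply Subgroup.subset_closure
      rcases hg with rfl | rfl | hg
      · exact hx3
      · exact cube_of_conj hx3 s₁
      · rw [Set.mem_singleton_iff] at hg
        rw [hg]; exact cube_of_conj hx3 s₂
    · rw [closure_le]
      intro g hg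
      have hg3 : g ^ 3 = 1 := hg
      by_cases hg1 : g = 1
      · rw [hg1]; exact one_mem _
      · exact claim3 g hg1 hg3
  haveI hMn : (Mg x s₁ s₂).Normal := by rw [hMeq]; exact hcubes
  -- Frattini
  have h120f : (120 : ℕ).factorization 2 = 3 := by
    have e : (120 : ℕ) = 2 ^ 3 * 15 := by norm_num
    rw [e]
    exact Cfsg.Agent.Lib.Helper56.SmallSolvable.factorization_pow_mul 2 3 15 Nat.prime_two
      (by norm_num)
  have hcardsub : Nat.card (Q₁.subgroupOf (Mg x s₁ s₂))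
      = 2 ^ (Nat.card (Mg x s₁ s₂)).factorization 2 := by
    rw [hM, h120f, Nat.card_congr (subgroupOfEquivOfLe hQ₁M).toEquiv, k8_card e₁]
    norm_num
  have hfrat := Sylow.normalizer_sup_eq_top (Sylow.ofCard (Q₁.subgroupOf (Mg x s₁ s₂)) hcardsub)
  rw [Sylow.coe_ofCard, subgroupOf_map_subtype, inf_of_le_left hQ₁M] at hfrat
  haveI := normalizer_solvable hf Q₁ e₁
  have hsurj : Function.Surjective ((QuotientGroup.mk' (Mg x s₁ s₂)).comp
      (normalizer (Q₁ : Set G)).subtype) := by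
    intro y
    obtain ⟨g, rfl⟩ := QuotientGroup.mk_surjective y
    have hg : g ∈ normalizer (Q₁ : Set G) ⊔ Mg x s₁ s₂ := by rw [hfrat]; exact mem_top g
    obtain ⟨n, hn, m, hm, rfl⟩ := mem_sup_of_normal_right.mp hg
    refine ⟨⟨n, hn⟩, ?_⟩
    show (QuotientGroup.mk n : G ⧸ Mg x s₁ s₂) = QuotientGroup.mk (n * m)
    rw [QuotientGroup.eq]
    simpa using hm
  haveI : Group.IsSolvable (G ⧸ Mg x s₁ s₂) := Group.isSolvable_of_surjective hsurj
  haveI := subsingleton_of_perfect hperf (QuotientGroup.mk' (Mg x s₁ s₂))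
    (QuotientGroup.mk'_surjective _)
  have hMtop : Mg x s₁ s₂ = ⊤ := by
    rw [← Subgroup.index_eq_one, Subgroup.index_eq_card]
    exact Nat.card_unique
  have hcard : Nat.card G = 120 := by
    rw [← Subgroup.card_top, ← hMtop, hM]
  obtain ⟨⟨v, -, hv1, hv4⟩, -⟩ := golden_v hfR hx1 hx3 f₁ f₂ h12
  exact ⟨x, s₁, s₂, v, hx1, hx3, f₁, f₂, h12, hMtop, hcard, by rw [hs₁]; exact hQ₁,
    by rw [hs₂]; exact hQ₂, hv1, hv4⟩

end Cfsg.Agent.Lib.Helper12.PerfS
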