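import Mathlib
import Cfsg.Agent.Lib.Helper12.PerfS

/-!
Non-solvable fixed-point-free groups, part A (helper12): automorphisms of a quaternion frame
commuting with `x`, the perfect core with its frames, conjugacy of elements of order three.
-/

set_option autoImplicit false

namespace Cfsg.Agent.Lib.Helper12.NonSolvA

open Subgroup
open scoped Pointwise
open Cfsg.Agent.Lib.Helper12.FpfRing
open Cfsg.Agent.Lib.Helper12.Frame
open Cfsg.Agent.Lib.Helper12.FpfLin
open Cfsg.Agent.Lib.Helper12.Golden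
open Cfsg.Agent.Lib.Helper12.GoldenK
open Cfsg.Agent.Lib.Helper12.PerfA
open Cfsg.Agent.Lib.Helper12.PerfB
open Cfsg.Agent.Lib.Helper12.PerfC
open Cfsg.Agent.Lib.Helper12.PerfD
open Cfsg.Agent.Lib.Helper12.PerfFpf
open Cfsg.Agent.Lib.Helper12.PerfS

/-! ### the six elements of order four -/

set_option maxRecDepth 100000 in
theorem q8_six : ∀ s t w : QuaternionGroup 2, s * t ≠ t * s → w * w ≠ 1 →
    w = s ∨ w = s⁻¹ ∨ w = t ∨ w = t⁻¹ ∨ w = s * t ∨ w = (s * t)⁻¹ := by
  decide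

theorem k8_six {K : Type*} [Group K] (e : K ≃* QuaternionGroup 2) {s t w : K}
    (h : s * t ≠ t * s) (hw : w ^ 2 ≠ 1) :
    w = s ∨ w = s⁻¹ ∨ w = t ∨ w = t⁻¹ ∨ w = s * t ∨ w = (s * t)⁻¹ := by
  have k := q8_six (e s) (e t) (e w)
    (by rw [← map_mul, ← map_mul]; exact fun hh => h (e.injective hh))
    (by
      rw [← map_mul, ← pow_two]
      intro hh
      apply hw
      apply e.injective
      rw [hh, map_one])
  rcases k with k | k | k | k | k | k
  · left; exact e.injective k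
  · right; left; apply e.injective; simpa using k
  · right; right; left; exact e.injective k
  · right; right; right; left; apply e.injective; simpa using k
  · right; right; right; right; left; apply e.injective; simpa using k
  · right; right; right; right; right; apply e.injective; simpa using k

section Group

variable {Γ : Type*} [Group Γ]

theorem frame_nc {x s : Γ} (fs : IsFrame x s) : s * (x * s * x⁻¹) ≠ (x * s * x⁻¹) * s := by
  intro hab
  have h1 := fs.hts
  rw [← hab, mul_inv_cancel_right] at h1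
  apply fs.h2
  rw [pow_two]
  exact mul_eq_one_iff_eq_inv.mpr h1

/-- The six elements of order four of the group of a frame. -/
theorem six_cases {x s w : Γ} (fs : IsFrame x s) (e : Qs x s ≃* QuaternionGroup 2)
    (hw : w ∈ Qs x s) (hw2 : w ^ 2 ≠ 1) :
    w = s ∨ w = s⁻¹ ∨ w = x * s * x⁻¹ ∨ w = (x * s * x⁻¹)⁻¹ ∨ w = s * (x * s * x⁻¹) ∨
      w = (s * (x * s * x⁻¹))⁻¹ := by
  have k := k8_six e (s := ⟨s, s_mem_Qs x s⟩) (t := ⟨x * s * x⁻¹, t_mem_Qs x s⟩) (w := ⟨w, hw⟩)
    (fun h => frame_nc fs (congrArg Subtype.val h)) (fun h => hw2 (congrArg Subtype.val h))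
  rcases k with k | k | k | k | k | k
  · left; exact congrArg Subtype.val k
  · right; left; exact congrArg Subtype.val k
  · right; right; left; exact congrArg Subtype.val k
  · right; right; right; left; exact congrArg Subtype.val k
  · right; right; right; right; left; exact congrArg Subtype.val k
  · right; right; right; right; right; exact congrArg Subtype.val k

/-- No element commuting with `x` inverts `s`. -/
theorem no_inv_frame {x s g : Γ} (fs : IsFrame x s) (hgx : g * x = x * g)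
    (h : g * s * g⁻¹ = s⁻¹) : False := by
  have ht : g * (x * s * x⁻¹) * g⁻¹ = (x * s * x⁻¹)⁻¹ := by
    have e1 : g * (x * s * x⁻¹) * g⁻¹ = (g * x) * s * (g * x)⁻¹ := by group
    have e2 : (x * g) * s * (x * g)⁻¹ = x * (g * s * g⁻¹) * x⁻¹ := by group
    rw [e1, hgx, e2, h]; group
  have hu : g * (x * (x * s * x⁻¹) * x⁻¹) * g⁻¹ = (x * (x * s * x⁻¹) * x⁻¹)⁻¹ := by
    have e1 : g * (x * (x * s * x⁻¹) * x⁻¹) * g⁻¹ = (g * x) * (x * s * x⁻¹) * (g * x)⁻¹ := by
      group
    have e2 : (x * g) * (x * s * x⁻¹) * (x * g)⁻¹ = x * (g * (x * s * x⁻¹) * g⁻¹) * x⁻¹ := by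
      group
    rw [e1, hgx, e2, ht]
    simp only [mul_inv_rev, inv_inv, mul_assoc]
  rw [fs.hu] at hu
  have e3 : g * (s * (x * s * x⁻¹)) * g⁻¹ = (g * s * g⁻¹) * (g * (x * s * x⁻¹) * g⁻¹) := by group
  rw [e3, h, ht] at hu
  -- s⁻¹ * t⁻¹ = (s * t)⁻¹, hence s t = t s
  apply frame_nc fs
  have e4 : (x * s * x⁻¹) * s = (s⁻¹ * (x * s * x⁻¹)⁻¹)⁻¹ := by group
  rw [e4, hu, inv_inv]

/-- An element commuting with `x` and normalizing the group of a frame centralizes `s`, up to
a power of `x`. -/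
theorem frame_conj_cases {x s g : Γ} (fs : IsFrame x s) (e : Qs x s ≃* QuaternionGroup 2)
    (hgx : g * x = x * g) (hgQ : g * s * g⁻¹ ∈ Qs x s) :
    ∃ a ∈ zpowers x, (a * g) * s = s * (a * g) := by
  have hw2 : (g * s * g⁻¹) ^ 2 ≠ 1 := by
    rw [conj_pow]
    intro h
    exact fs.h2 (conj_eq_one_iff.mp h)
  have hx' : x⁻¹ * g * x = x * (x⁻¹ * g) := by
    have e1 : x⁻¹ * g * x = x⁻¹ * (g * x) := by group
    rw [e1, hgx]; group
  have hx'' : x⁻¹ * x⁻¹ * g * x = x * (x⁻¹ * x⁻¹ * g) := by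
    have e1 : x⁻¹ * x⁻¹ * g * x = x⁻¹ * x⁻¹ * (g * x) := by group
    rw [e1, hgx]; group
  rcases six_cases fs e hgQ hw2 with k | k | k | k | k | k
  · refine ⟨1, one_mem _, ?_⟩
    rw [one_mul]
    exact mul_inv_eq_iff_eq_mul.mp k
  · exact (no_inv_frame fs hgx k).elim
  · refine ⟨x⁻¹, inv_mem (mem_zpowers x), ?_⟩
    apply mul_inv_eq_iff_eq_mul.mp
    have e1 : x⁻¹ * g * s * (x⁻¹ * g)⁻¹ = x⁻¹ * (g * s * g⁻¹) * x := by group
    rw [e1, k]; group
  · exfalso
    apply no_inv_frame fs (g := x⁻¹ * g) hx'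
    have e1 : x⁻¹ * g * s * (x⁻¹ * g)⁻¹ = x⁻¹ * (g * s * g⁻¹) * x := by group
    rw [e1, k]; group
  · refine ⟨x⁻¹ * x⁻¹, mul_mem (inv_mem (mem_zpowers x)) (inv_mem (mem_zpowers x)), ?_⟩
    apply mul_inv_eq_iff_eq_mul.mp
    have e1 : x⁻¹ * x⁻¹ * g * s * (x⁻¹ * x⁻¹ * g)⁻¹ = x⁻¹ * x⁻¹ * (g * s * g⁻¹) * x * x := by
      simp only [mul_inv_rev, inv_inv, mul_assoc]
    rw [e1, k, ← fs.hu]
    simp [mul_assoc]
  · exfalso
    apply no_inv_frame fs (g := x⁻¹ * x⁻¹ * g) hx''
    have e1 : x⁻¹ * x⁻¹ * g * s * (x⁻¹ * x⁻¹ * g)⁻¹ = x⁻¹ * x⁻¹ * (g * s * g⁻¹) * x * x := by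
      simp only [mul_inv_rev, inv_inv, mul_assoc]
    rw [e1, k, ← fs.hu]
    simp [mul_assoc]

/-- Conjugacy of the subgroups of order three when nine does not divide the order. -/
theorem conj_cube [Finite Γ] (h9 : ¬ 9 ∣ Nat.card Γ) {x y : Γ} (hx1 : x ≠ 1) (hx3 : x ^ 3 = 1)
    (hy1 : y ≠ 1) (hy3 : y ^ 3 = 1) : ∃ l : Γ, l * y * l⁻¹ ∈ zpowers x := by
  haveI : Fact (Nat.Prime 3) := ⟨Nat.prime_three⟩
  have key : ∀ z : Γ, z ≠ 1 → z ^ 3 = 1 → ∃ S : Sylow 3 Γ, (S : Subgroup Γ) = zpowers z := by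
    intro z hz1 hz3
    have hc3 : Nat.card (zpowers z) = 3 := by
      rw [Nat.card_zpowers, orderOf_eq_prime hz3 hz1]
    have hp : IsPGroup 3 (zpowers z) := IsPGroup.of_card (n := 1) (by rw [hc3]; norm_num)
    obtain ⟨S, hS⟩ := hp.exists_le_sylow
    refine ⟨S, ?_⟩
    obtain ⟨k, hk⟩ := IsPGroup.iff_card.mp S.2
    have hk' : Nat.card (S : Subgroup Γ) = 3 ^ k := hk
    have d1 : 3 ∣ Nat.card (S : Subgroup Γ) := by
      have hd := card_dvd_of_le hS
      rwa [hc3] at hd
    have d2 : Nat.card (S : Subgroup Γ) ∣ Nat.card Γ := Subgroup.card_subgroup_dvd_card _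
    have hk1 : k = 1 := by
      rcases Nat.lt_or_ge k 2 with hlt | hge
      · interval_cases k
        · rw [hk'] at d1; omega
        · rfl
      · exfalso
        apply h9
        rw [hk'] at d2
        exact dvd_trans (pow_dvd_pow 3 hge) d2
    rw [hk1] at hk'
    exact (eq_of_le_of_card_ge hS (by rw [hk', hc3]; norm_num)).symm
  obtain ⟨Sx, hSx⟩ := key x hx1 hx3
  obtain ⟨Sy, hSy⟩ := key y hy1 hy3
  obtain ⟨l, hl⟩ := MulAction.exists_smul_eq Γ Sy Sx
  refine ⟨l, ?_⟩
  rw [← hSx, ← hl, Sylow.coe_subgroup_smul, mem_cj, hSy]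
  have e1 : l⁻¹ * (l * y * l⁻¹) * l = y := by group
  rw [e1]; exact mem_zpowers y

/-- The derived series of a finite group becomes stationary. -/
theorem exists_perfect_core (G : Type*) [Group G] [Finite G] :
    ∃ n, derivedSeries G (n + 1) = derivedSeries G n := by
  by_contra hcon
  push Not at hcon
  have key : ∀ n, Nat.card (derivedSeries G n) + n ≤ Nat.card G := by
    intro n
    induction n with
    | zero =>
      rw [derivedSeries_zero, Subgroup.card_top]
      omega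
    | succ n ih =>
      have hle : derivedSeries G (n + 1) ≤ derivedSeries G n :=
        derivedSeries_antitone G (Nat.le_succ n)
      have hlt : Nat.card (derivedSeries G (n + 1)) < Nat.card (derivedSeries G n) := by
        by_contra hge
        push Not at hge
        exact hcon n (eq_of_le_of_card_ge hle hge)
      omega
  have := key (Nat.card G + 1)
  omega

theorem frame_coe {S : Subgroup Γ} {x s : S} (f : IsFrame x s) : IsFrame (x : Γ) (s : Γ) :=
  ⟨congrArg Subtype.val f.h4, fun h => f.h2 (Subtype.ext h), congrArg Subtype.val f.hts,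
    congrArg Subtype.val f.hu⟩

end Group

section Ring

variable {Γ : Type*} [Group Γ] {E : Type*} [Ring E] [Nontrivial E]

omit [Nontrivial E] in
theorem first_coord {S T G b c a' b' c' : E} (F : RF S T) (h2 : IsUnit (2 : E))
    (hG : Cen S T G) (hGu : IsUnit G) (hb : Cen S T b) (hc : Cen S T c) (ha' : Cen S T a')
    (hb' : Cen S T b') (hc' : Cen S T c')
    (h : G * qd S T 0 1 b c = qd S T 0 a' b' c' * G) : a' = 1 := by
  have e1 : G * qd S T 0 1 b c = qd S T (G * 0) (G * 1) (G * b) (G * c) := by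
    unfold qd
    simp only [mul_add, mul_assoc]
  have e2 : qd S T 0 a' b' c' * G = qd S T (0 * G) (a' * G) (b' * G) (c' * G) := by
    unfold qd
    simp only [add_mul, mul_assoc, hG.sl, hG.tl, hG.sl']
  rw [e1, e2] at h
  obtain ⟨-, k, -, -⟩ := qd_inj F h2 (hG.mul (Cen.zero S T)) (hG.mul (Cen.one S T)) (hG.mul hb)
    (hG.mul hc) ((Cen.zero S T).mul hG) (ha'.mul hG) (hb'.mul hG) (hc'.mul hG) h
  have k2 : (1 - a') * G = 0 := by
    rw [sub_mul, one_mul, ← k, mul_one, sub_self]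
  have k3 := hGu.mul_left_eq_zero.mp k2
  exact (sub_eq_zero.mp k3).symm

end Ring

end Cfsg.Agent.Lib.Helper12.NonSolvA
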