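import Mathlib
import Cfsg.Agent.Lib.Helper12.NonSolvA

/-!
Non-solvable fixed-point-free groups, part B (helper12): an element centralizing `x` and the
first frame and normalizing the second quaternion group centralizes it; commuting elements of
prime order; the perfect core `S ≃ SL(2,5)` with its frames.
-/

set_option autoImplicit false

namespace Cfsg.Agent.Lib.Helper12.NonSolvB

open Subgroup
open scoped Pointwise
open Cfsg.Agent.Lib.Helper12.FpfRing
open Cfsg.Agent.Lib.Helper12.Frame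
open Cfsg.Agent.Lib.Helper12.FpfLin
open Cfsg.Agent.Lib.Helper12.Golden
open Cfsg.Agent.Lib.Helper12.GoldenK
open Cfsg.Agent.Lib.Helper12.PerfA
open Cfsg.Agent.Lib.Helper12.PerfB
open Cfsg.Agent.Lib.Helper12.PerfC
open Cfsg.Agent.Lib.Helper12.PerfD
open Cfsg.Agent.Lib.Helper12.PerfFpf
open Cfsg.Agent.Lib.Helper12.PerfS
open Cfsg.Agent.Lib.Helper12.NonSolvA

section Ring

variable {Γ : Type*} [Group Γ] {E : Type*} [Ring E] [Nontrivial E]

theorem gamma_ne (h2u : IsUnit (2 : E)) {γ : E} (hγ : γ * γ = γ + 1) :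
    (-1 : E) ≠ 1 ∧ 1 - γ ≠ 1 ∧ -(1 - γ) ≠ 1 ∧ γ ≠ 1 ∧ -γ ≠ 1 := by
  refine ⟨?_, ?_, ?_, ?_, ?_⟩
  · intro h
    have h2 : (2 : E) = 0 := by
      calc (2 : E) = 1 + 1 := by norm_num
        _ = 1 + (-1) := by rw [h]
        _ = 0 := by simp
    rw [h2] at h2u
    exact not_isUnit_zero h2u
  · intro h
    have h0 : γ = 0 := sub_eq_self.mp h
    rw [h0] at hγ
    simp at hγ
  · intro h
    rw [neg_sub] at h
    have h0 : γ = 1 + 1 := sub_eq_iff_eq_add.mp h
    rw [h0] at hγ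
    have e : (1 + 1 : E) * (1 + 1) = (1 + 1 + 1) + 1 := by noncomm_ring
    rw [e] at hγ
    have h1 : (1 : E) = 0 := add_left_cancel (hγ.trans (add_zero _).symm)
    exact one_ne_zero h1
  · intro h
    rw [h, mul_one] at hγ
    have h1 : (0 : E) = 1 := add_left_cancel ((add_zero (1 : E)).trans hγ)
    exact zero_ne_one h1
  · intro h
    have h0 : γ = -1 := neg_eq_iff_eq_neg.mp h
    rw [h0] at hγ
    simp at hγ

/-- An element centralizing `x` and the first frame and normalizing the second quaternion group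
centralizes it. -/
theorem comm_second [Finite Γ] {ρ : Γ →* E} (hf : IsFpfR ρ) {x s s' g : Γ} (hx1 : x ≠ 1)
    (hx3 : x ^ 3 = 1) (fs : IsFrame x s) (fs' : IsFrame x s') (hne : s' ∉ Qs x s)
    (e' : Qs x s' ≃* QuaternionGroup 2) (hgx : g * x = x * g) (hgs : g * s = s * g)
    (hgQ : ∀ q ∈ Qs x s', g * q * g⁻¹ ∈ Qs x s') : ∀ q ∈ Qs x s', g * q = q * g := by
  obtain ⟨s'', f'', hQ'', γ, hγc, hγ, c1, c2, c3⟩ := golden_normal hf hx1 hx3 fs fs' hne
  have F := fs.rf hf
  have h2u : IsUnit (2 : E) := two_unit hf fs.h2 (by rw [← pow_mul]; exact fs.h4)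
  obtain ⟨n1, n2, n3, n4, n5⟩ := gamma_ne h2u hγ
  have k1 : Commute g x := hgx
  have k2 : Commute g s := hgs
  have hG : Cen (ρ s) (ρ (x * s * x⁻¹)) (ρ g) :=
    ⟨k2.map ρ, ((k1.mul_right k2).mul_right k1.inv_right).map ρ⟩
  have hGu := isUnit_rho ρ g
  have h1γ : Cen (ρ s) (ρ (x * s * x⁻¹)) (1 - γ) := (Cen.one _ _).sub hγc
  have hone : Cen (ρ s) (ρ (x * s * x⁻¹)) 1 := Cen.one _ _
  have hw : g * s'' * g⁻¹ ∈ Qs x s'' := by
    rw [hQ'']
    apply hgQ
    rw [← hQ'']
    exact s_mem_Qs x s''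
  have hw2 : (g * s'' * g⁻¹) ^ 2 ≠ 1 := by
    rw [conj_pow]
    intro h
    exact f''.h2 (conj_eq_one_iff.mp h)
  have key : ∀ W : Γ, g * s'' * g⁻¹ = W →
      ρ g * qd (ρ s) (ρ (x * s * x⁻¹)) 0 1 γ (1 - γ) = (ρ W + ρ W) * ρ g := by
    intro W k
    have h1 := congrArg ρ (mul_inv_eq_iff_eq_mul.mp k)
    rw [map_mul, map_mul] at h1
    rw [← c1, mul_add, add_mul, h1]
  have hcomm : g * s'' = s'' * g := by
    rcases six_cases f'' ((MulEquiv.subgroupCongr hQ'').trans e') hw hw2 with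
      k | k | k | k | k | k
    · exact mul_inv_eq_iff_eq_mul.mp k
    · exfalso
      have h1 := key _ k
      have e1 : ρ s''⁻¹ + ρ s''⁻¹ = qd (ρ s) (ρ (x * s * x⁻¹)) 0 (-1) (-γ) (-(1 - γ)) := by
        rw [inv_of_four hf f''.h2 f''.h4, ← neg_add, c1, qd_neg, neg_zero]
      rw [e1] at h1
      exact n1 (first_coord F h2u hG hGu hγc h1γ hone.neg hγc.neg h1γ.neg h1)
    · exfalso
      have h1 := key _ k
      rw [c2] at h1
      exact n2 (first_coord F h2u hG hGu hγc h1γ h1γ hone hγc h1)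
    · exfalso
      have h1 := key _ k
      have e1 : ρ (x * s'' * x⁻¹)⁻¹ + ρ (x * s'' * x⁻¹)⁻¹
          = qd (ρ s) (ρ (x * s * x⁻¹)) 0 (-(1 - γ)) (-1) (-γ) := by
        rw [inv_of_four hf f''.t2 f''.t4, ← neg_add, c2, qd_neg, neg_zero]
      rw [e1] at h1
      exact n3 (first_coord F h2u hG hGu hγc h1γ h1γ.neg hone.neg hγc.neg h1)
    · exfalso
      have h1 := key _ k
      rw [c3] at h1
      exact n4 (first_coord F h2u hG hGu hγc h1γ hγc h1γ hone h1)
    · exfalso
      have h1 := key _ k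
      have e1 : ρ (s'' * (x * s'' * x⁻¹))⁻¹ + ρ (s'' * (x * s'' * x⁻¹))⁻¹
          = qd (ρ s) (ρ (x * s * x⁻¹)) 0 (-γ) (-(1 - γ)) (-1) := by
        rw [inv_of_four hf f''.u2 f''.u4, ← neg_add, c3, qd_neg, neg_zero]
      rw [e1] at h1
      exact n5 (first_coord F h2u hG hGu hγc h1γ hγc.neg h1γ.neg hone.neg h1)
  have k3 : Commute g s'' := hcomm
  have hle : Qs x s'' ≤ centralizer ({g} : Set Γ) := by
    unfold Qs
    rw [closure_le]
    intro y hy
    rw [SetLike.mem_coe, mem_centralizer_iff]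
    intro h hh
    rw [Set.mem_singleton_iff] at hh
    rw [hh]
    rcases hy with rfl | hy
    · exact hcomm
    · rw [Set.mem_singleton_iff] at hy
      rw [hy]
      exact ((k1.mul_right k3).mul_right k1.inv_right).eq
  intro q hq
  rw [← hQ''] at hq
  exact mem_centralizer_iff.mp (hle hq) g rfl

end Ring

variable {p : ℕ} [Fact p.Prime] {V : Type*} [AddCommGroup V] [Module (ZMod p) V] [Finite V]
  [Nontrivial V]

/-- Commuting elements of prime order generate the same subgroup. -/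
theorem comm_prime {G : Type*} [Group G] [Finite G] {ρ : G →* (V ≃ₗ[ZMod p] V)} (hf : IsFpf ρ)
    {q : ℕ} (hq : 0 < q) {w y : G} (hw : orderOf w = q) (hy : y ^ q = 1) (hc : w * y = y * w) :
    y ∈ zpowers w := by
  have hcomm : ∀ a ∈ ({w, y} : Set G), ∀ b ∈ ({w, y} : Set G), a * b = b * a := by
    intro a ha b hb
    simp only [Set.mem_insert_iff, Set.mem_singleton_iff] at ha hb
    rcases ha with rfl | rfl <;> rcases hb with rfl | rfl
    · rfl
    · exact hc
    · exact hc.symm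
    · rfl
  have hA : ∀ a ∈ closure ({w, y} : Set G), ∀ b ∈ closure ({w, y} : Set G), a * b = b * a :=
    fun a ha b hb =>
      Set.centralizer_centralizer_comm_of_comm hcomm _ (closure_le_centralizer_centralizer _ ha) _
        (closure_le_centralizer_centralizer _ hb)
  haveI := abelian_isCyclic hf _ hA
  exact Cfsg.Agent.Lib.Helper12.MinQuat.cyc_mem_sub (closure ({w, y} : Set G)) hq
    (Subgroup.subset_closure (by simp)) (Subgroup.subset_closure (by simp)) hw hy

/-- **The perfect core.** -/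
theorem core_struct {G : Type*} [Group G] [Finite G] {ρ : G →* (V ≃ₗ[ZMod p] V)} (hf : IsFpf ρ)
    (hns : ¬ Group.IsSolvable G) :
    ∃ S : Subgroup G, S.Normal ∧ Nonempty (S ≃* Matrix.SpecialLinearGroup (Fin 2) (ZMod 5)) ∧
      Nat.card S = 120 ∧ ∃ x s₁ s₂ v : G, v ∈ S ∧ x ≠ 1 ∧ x ^ 3 = 1 ∧ IsFrame x s₁ ∧
      IsFrame x s₂ ∧ s₂ ∉ Qs x s₁ ∧ Mg x s₁ s₂ = S ∧ QN x (Qs x s₁) ∧ QN x (Qs x s₂) ∧
      v * x * v⁻¹ = x⁻¹ ∧ v ^ 4 = 1 := by
  obtain ⟨n, hn⟩ := exists_perfect_core G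
  have hSn : (derivedSeries G n).Normal := derivedSeries_normal G n
  have hSbot : derivedSeries G n ≠ ⊥ := fun h => hns ((isSolvable_def G).mpr ⟨n, h⟩)
  haveI : Nontrivial (derivedSeries G n) := (Subgroup.nontrivial_iff_ne_bot _).mpr hSbot
  have hperf : commutator (derivedSeries G n) = ⊤ := by
    apply Subgroup.map_injective (derivedSeries G n).subtype_injective
    rw [_root_.commutator_def, Subgroup.map_commutator, ← MonoidHom.range_eq_map,
      Subgroup.range_subtype]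
    rw [derivedSeries_succ] at hn
    exact hn
  have hfS : IsFpf (ρ.comp (derivedSeries G n).subtype) :=
    fun g hg v hv => hf g (fun h => hg (Subtype.ext h)) v hv
  obtain ⟨e⟩ := perf_fpf hfS hperf
  obtain ⟨x, s₁, s₂, v, hx1, hx3, f₁, f₂, h12, hMg, hcard, hQ₁, hQ₂, hinv, hv4⟩ :=
    perf_struct hfS hperf
  have hQs : ∀ a b : derivedSeries G n,
      Qs (a : G) (b : G) = (Qs a b).map (derivedSeries G n).subtype := by
    intro a b
    unfold Qs
    rw [MonoidHom.map_closure, Set.image_pair]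
    rfl
  refine ⟨derivedSeries G n, hSn, ⟨e⟩, hcard, x, s₁, s₂, v, v.2, ?_, ?_, frame_coe f₁,
    frame_coe f₂, ?_, ?_, ?_, ?_, ?_, ?_⟩
  · exact fun h => hx1 (Subtype.ext h)
  · exact congrArg Subtype.val hx3
  · rw [hQs]
    rintro ⟨q, hq, hqe⟩
    apply h12
    have : q = s₂ := Subtype.ext hqe
    rw [← this]; exact hq
  · have h1 : Mg (x : G) (s₁ : G) (s₂ : G)
        = (Mg x s₁ s₂).map (derivedSeries G n).subtype := by
      unfold Mg
      rw [MonoidHom.map_closure, Set.image_insert_eq, Set.image_pair]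
      rfl
    rw [h1, hMg, ← MonoidHom.range_eq_map, Subgroup.range_subtype]
  · rw [hQs]
    exact QN_map _ (derivedSeries G n).subtype_injective hQ₁
  · rw [hQs]
    exact QN_map _ (derivedSeries G n).subtype_injective hQ₂
  · exact congrArg Subtype.val hinv
  · exact congrArg Subtype.val hv4

end Cfsg.Agent.Lib.Helper12.NonSolvB
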