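import Mathlib
import Cfsg.Agent.Lib.Helper12.NonSolvB

/-!
Non-solvable fixed-point-free groups, part C (helper12): **Zassenhaus' structure theorem**.
A non-solvable group `G` acting fixed-point-freely on a finite vector space over `ZMod p` has a
normal subgroup `S ≃ SL(2,5)` and a subgroup `M` centralizing `S`, with cyclic Sylow subgroups
and of order prime to `30`, such that `S ⊔ M = S × M` is normal of index at most two.
-/

set_option autoImplicit false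

namespace Cfsg.Agent.Lib.Helper12.NonSolvC

open Subgroup
open scoped Pointwise
open Cfsg.Agent.Lib.Helper12.FpfRing
open Cfsg.Agent.Lib.Helper12.Frame
open Cfsg.Agent.Lib.Helper12.FpfLin
open Cfsg.Agent.Lib.Helper12.Golden
open Cfsg.Agent.Lib.Helper12.GoldenK
open Cfsg.Agent.Lib.Helper12.PerfA
open Cfsg.Agent.Lib.Helper12.PerfB
open Cfsg.Agent.Lib.Helper12.PerfC
open Cfsg.Agent.Lib.Helper12.PerfD
open Cfsg.Agent.Lib.Helper12.PerfFpf
open Cfsg.Agent.Lib.Helper12.PerfS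
open Cfsg.Agent.Lib.Helper12.NonSolvA
open Cfsg.Agent.Lib.Helper12.NonSolvB

/-- An index criterion. -/
theorem index_le_two {G : Type*} [Group G] (S G₀ : Subgroup G) (hSn : S.Normal) (hS : S ≤ G₀)
    (Nx Ev : G → Prop) (hF : ∀ g, ∃ a ∈ S, Nx (a * g)) (hEv : ∀ n, Nx n → Ev n → n ∈ G₀)
    (hOO : ∀ n m, Nx n → Nx m → ¬ Ev n → ¬ Ev m → Ev (n⁻¹ * m) ∧ Nx (n⁻¹ * m)) :
    G₀.index = 1 ∨ G₀.index = 2 := by
  by_cases htop : G₀ = ⊤
  · left; rw [htop]; exact Subgroup.index_top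
  · right
    have hex : ∃ b₀, b₀ ∉ G₀ := by
      by_contra h
      push Not at h
      exact htop (eq_top_iff.mpr (fun g _ => h g))
    obtain ⟨b₀, hb₀⟩ := hex
    have key : ∀ b c, b ∉ G₀ → c ∉ G₀ → b⁻¹ * c ∈ G₀ := by
      intro b c hb hc
      obtain ⟨a, ha, hn⟩ := hF b
      obtain ⟨a', ha', hm⟩ := hF c
      have hn' : a * b ∉ G₀ := by
        intro h
        apply hb
        have e : b = a⁻¹ * (a * b) := by group
        rw [e]; exact mul_mem (inv_mem (hS ha)) h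
      have hm' : a' * c ∉ G₀ := by
        intro h
        apply hc
        have e : c = a'⁻¹ * (a' * c) := by group
        rw [e]; exact mul_mem (inv_mem (hS ha')) h
      obtain ⟨h1, h2⟩ := hOO _ _ hn hm (fun h => hn' (hEv _ hn h)) (fun h => hm' (hEv _ hm h))
      have h3 := hEv _ h2 h1
      have e : b⁻¹ * c = (a * b)⁻¹ * (a' * c) * (c⁻¹ * (a'⁻¹ * a) * c⁻¹⁻¹) := by group
      rw [e]
      exact mul_mem h3 (hS (hSn.conj_mem _ (mul_mem (inv_mem ha') ha) _))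
    rw [Subgroup.index_eq_two_iff]
    refine ⟨b₀, fun b => ?_⟩
    by_cases hb : b ∈ G₀
    · right
      refine ⟨hb, fun h => hb₀ ?_⟩
      have e : b₀ = b⁻¹ * (b * b₀) := by group
      rw [e]; exact mul_mem (inv_mem hb) h
    · left
      refine ⟨?_, hb⟩
      have h := key b⁻¹ b₀ (fun h => hb (inv_mem_iff.mp h)) hb₀
      rwa [inv_inv] at h

/-- `n` normalizes `⟨x⟩`. -/
def NxP {G : Type*} [Group G] (x n : G) : Prop := n * x * n⁻¹ = x ∨ n * x * n⁻¹ = x⁻¹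

/-- `n` is of even type. -/
def EvP {G : Type*} [Group G] (x : G) (Q₁ Q₂ : Subgroup G) (n : G) : Prop :=
  (n * x * n⁻¹ = x ∧ MulAut.conj n • Q₁ = Q₁) ∨ (n * x * n⁻¹ = x⁻¹ ∧ MulAut.conj n • Q₁ = Q₂)

theorem types_mul {G : Type*} [Group G] {x : G} {Q₁ Q₂ : Subgroup G}
    (hperm : ∀ n : G, NxP x n → (MulAut.conj n • Q₁ = Q₁ ∧ MulAut.conj n • Q₂ = Q₂) ∨
      (MulAut.conj n • Q₁ = Q₂ ∧ MulAut.conj n • Q₂ = Q₁))
    (n m : G) (hn : NxP x n) (hm : NxP x m) (hno : ¬ EvP x Q₁ Q₂ n) (hmo : ¬ EvP x Q₁ Q₂ m) :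
    EvP x Q₁ Q₂ (n⁻¹ * m) ∧ NxP x (n⁻¹ * m) := by
  have e1 : (n⁻¹ * m) * x * (n⁻¹ * m)⁻¹ = n⁻¹ * (m * x * m⁻¹) * n := by group
  have e2 : MulAut.conj (n⁻¹ * m) • Q₁ = (MulAut.conj n)⁻¹ • (MulAut.conj m • Q₁) := by
    rw [map_mul, map_inv, mul_smul]
  have i1 : n * x * n⁻¹ = x → n⁻¹ * x * n = x := fun h => by
    calc n⁻¹ * x * n = n⁻¹ * (n * x * n⁻¹) * n := by rw [h]
      _ = x := by group
  have i2 : n * x * n⁻¹ = x⁻¹ → n⁻¹ * x⁻¹ * n = x := fun h => by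
    calc n⁻¹ * x⁻¹ * n = n⁻¹ * (n * x * n⁻¹) * n := by rw [h]
      _ = x := by group
  have i3 : n * x * n⁻¹ = x⁻¹ → n⁻¹ * x * n = x⁻¹ := fun h => by
    calc n⁻¹ * x * n = (n⁻¹ * x⁻¹ * n)⁻¹ := by group
      _ = x⁻¹ := by rw [i2 h]
  have i4 : n * x * n⁻¹ = x → n⁻¹ * x⁻¹ * n = x⁻¹ := fun h => by
    calc n⁻¹ * x⁻¹ * n = (n⁻¹ * x * n)⁻¹ := by group
      _ = x⁻¹ := by rw [i1 h]
  have pn := hperm n hn
  have pm := hperm m hm
  unfold EvP NxP at *
  rw [e1, e2]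
  rcases hn with hn | hn <;> rcases hm with hm | hm <;>
    rcases pn with ⟨p1, p2⟩ | ⟨p1, p2⟩ <;> rcases pm with ⟨r1, r2⟩ | ⟨r1, r2⟩
  all_goals try (exfalso; apply hno; left; constructor <;> assumption)
  all_goals try (exfalso; apply hno; right; constructor <;> assumption)
  all_goals try (exfalso; apply hmo; left; constructor <;> assumption)
  all_goals try (exfalso; apply hmo; right; constructor <;> assumption)
  all_goals rw [hm, r1]
  · exact ⟨Or.inl ⟨i1 hn, inv_smul_eq_iff.mpr p1.symm⟩, Or.inl (i1 hn)⟩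
  · exact ⟨Or.inr ⟨i4 hn, inv_smul_eq_iff.mpr p2.symm⟩, Or.inr (i4 hn)⟩
  · exact ⟨Or.inr ⟨i3 hn, inv_smul_eq_iff.mpr p2.symm⟩, Or.inr (i3 hn)⟩
  · exact ⟨Or.inl ⟨i2 hn, inv_smul_eq_iff.mpr p1.symm⟩, Or.inl (i2 hn)⟩

variable {p : ℕ} [Fact p.Prime] {V : Type*} [AddCommGroup V] [Module (ZMod p) V] [Finite V]
  [Nontrivial V]

/-- `S · C(S)` has index at most two. -/
theorem index_part {G : Type*} [Group G] [Finite G] {ρ : G →* (V ≃ₗ[ZMod p] V)} (hf : IsFpf ρ)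
    {S : Subgroup G} (hSn : S.Normal) (hS120 : Nat.card S = 120) {x s₁ s₂ v : G} (hvS : v ∈ S)
    (hx1 : x ≠ 1) (hx3 : x ^ 3 = 1) (f₁ : IsFrame x s₁) (f₂ : IsFrame x s₂)
    (h12 : s₂ ∉ Qs x s₁) (hMg : Mg x s₁ s₂ = S) (hQ₁ : QN x (Qs x s₁)) (hQ₂ : QN x (Qs x s₂))
    (hinv : v * x * v⁻¹ = x⁻¹) (hv4 : v ^ 4 = 1) :
    (S ⊔ centralizer (S : Set G)).index = 1 ∨ (S ⊔ centralizer (S : Set G)).index = 2 := by
  have hfR := fpfR_of_fpf hf
  have hxS : x ∈ S := by rw [← hMg]; exact x_mem_Mg x s₁ s₂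
  have hs₁S : s₁ ∈ S := by rw [← hMg]; exact s_mem_Mg s₂ f₁
  have hs₂S : s₂ ∈ S := by rw [← hMg]; exact s'_mem_Mg s₁ f₂
  obtain ⟨e₁⟩ := hQ₁.1
  obtain ⟨e₂⟩ := hQ₂.1
  have hne : Qs x s₂ ≠ Qs x s₁ := fun h => h12 (by rw [← h]; exact s_mem_Qs x s₂)
  have hK : ∀ Q, QN x Q → Q = Qs x s₁ ∨ Q = Qs x s₂ := by
    intro Q hQ
    by_contra hcon
    push Not at hcon
    obtain ⟨s₃, f₃, hs₃⟩ := frame_of_QN hQ hx3
    exact K_three hfR hx1 hx3 f₁ f₂ f₃ h12 (not_mem_of_ne hQ₁ hQ f₁ rfl hs₃ hcon.1)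
      (not_mem_of_ne hQ₂ hQ f₂ rfl hs₃ hcon.2)
  have hvQ : MulAut.conj v • Qs x s₁ = Qs x s₂ := by
    rcases hK _ (QN_inv_conj hQ₁ hinv) with h | h
    · exact absurd h (cj_ne hQ₁ hx1 hx3 (Qs_le hxS hs₁S) hvS hS120 hv4 hinv)
    · exact h
  -- permutation of the two quaternion groups
  have hperm : ∀ n : G, NxP x n →
      (MulAut.conj n • Qs x s₁ = Qs x s₁ ∧ MulAut.conj n • Qs x s₂ = Qs x s₂) ∨
      (MulAut.conj n • Qs x s₁ = Qs x s₂ ∧ MulAut.conj n • Qs x s₂ = Qs x s₁) := by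
    intro n hn
    have hq : ∀ Q, QN x Q → QN x (MulAut.conj n • Q) := by
      intro Q hQ
      rcases hn with hn | hn
      · have h := QN_conj hQ n
        rwa [hn] at h
      · exact QN_inv_conj hQ hn
    have hinj : MulAut.conj n • Qs x s₁ ≠ MulAut.conj n • Qs x s₂ :=
      fun h => hne (MulAction.injective (MulAut.conj n) h).symm
    rcases hK _ (hq _ hQ₁) with h1 | h1 <;> rcases hK _ (hq _ hQ₂) with h2 | h2
    · exact absurd (h1.trans h2.symm) hinj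
    · exact Or.inl ⟨h1, h2⟩
    · exact Or.inr ⟨h1, h2⟩
    · exact absurd (h1.trans h2.symm) hinj
  -- Frattini
  have h9 : ¬ 9 ∣ Nat.card S := by rw [hS120]; norm_num
  have hF : ∀ g : G, ∃ a ∈ S, NxP x (a * g) := by
    intro g
    have hyS : g * x * g⁻¹ ∈ S := hSn.conj_mem x hxS g
    have hy1 : (⟨g * x * g⁻¹, hyS⟩ : S) ≠ 1 :=
      fun h => hx1 (conj_eq_one_iff.mp (congrArg Subtype.val h))
    have hy3 : (⟨g * x * g⁻¹, hyS⟩ : S) ^ 3 = 1 := Subtype.ext (by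
      show (g * x * g⁻¹) ^ 3 = 1
      rw [conj_pow, hx3]; group)
    obtain ⟨l, hl⟩ := conj_cube h9 (x := (⟨x, hxS⟩ : S))
      (fun h => hx1 (congrArg Subtype.val h)) (Subtype.ext hx3) hy1 hy3
    obtain ⟨k, hk⟩ := mem_zpowers_iff.mp hl
    have hk' : x ^ k = (l : G) * (g * x * g⁻¹) * (l : G)⁻¹ := by
      have := congrArg Subtype.val hk
      simpa using this
    refine ⟨l, l.2, ?_⟩
    have hw1 : (l : G) * (g * x * g⁻¹) * (l : G)⁻¹ ≠ 1 :=
      fun h => hx1 (conj_eq_one_iff.mp (conj_eq_one_iff.mp h))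
    have hw3 : ((l : G) * (g * x * g⁻¹) * (l : G)⁻¹) ^ 3 = 1 := by
      rw [conj_pow, conj_pow, hx3]; group
    have hc : x * ((l : G) * (g * x * g⁻¹) * (l : G)⁻¹)
        = ((l : G) * (g * x * g⁻¹) * (l : G)⁻¹) * x := by
      rw [← hk']
      exact ((Commute.refl x).zpow_right k).eq
    have e : (l : G) * g * x * ((l : G) * g)⁻¹ = (l : G) * (g * x * g⁻¹) * (l : G)⁻¹ := by group
    unfold NxP
    rw [e]
    exact comm_cubes hfR hx1 hx3 hw1 hw3 hc
  -- elements centralizing x and normalizing the first quaternion group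
  have hE : ∀ g : G, g * x = x * g → MulAut.conj g • Qs x s₁ = Qs x s₁ →
      g ∈ S ⊔ centralizer (S : Set G) := by
    intro g hgx hg1
    have hgN : NxP x g := Or.inl (mul_inv_eq_iff_eq_mul.mpr hgx)
    have hg2 : MulAut.conj g • Qs x s₂ = Qs x s₂ := by
      rcases hperm g hgN with ⟨-, h⟩ | ⟨h, -⟩
      · exact h
      · exact absurd (hg1.symm.trans h) hne.symm
    have hcj : ∀ (Q : Subgroup G), MulAut.conj g • Q = Q → ∀ q ∈ Q, g * q * g⁻¹ ∈ Q := by
      intro Q hQ q hq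
      have h1 : g * q * g⁻¹ ∈ MulAut.conj g • Q := by
        rw [mem_cj]
        have e : g⁻¹ * (g * q * g⁻¹) * g = q := by group
        rw [e]; exact hq
      rwa [hQ] at h1
    obtain ⟨a, ha, hag⟩ := frame_conj_cases f₁ e₁ hgx (hcj _ hg1 s₁ (s_mem_Qs x s₁))
    have hax : a * x = x * a := by
      obtain ⟨k, rfl⟩ := mem_zpowers_iff.mp ha
      exact ((Commute.refl x).zpow_left k).eq
    have hagx : (a * g) * x = x * (a * g) := by
      rw [mul_assoc, hgx, ← mul_assoc, hax, mul_assoc]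
    have haN₂ : a ∈ normalizer (Qs x s₂ : Set G) := (zpowers_le.mpr hQ₂.2.1) ha
    have hagQ : ∀ q ∈ Qs x s₂, (a * g) * q * (a * g)⁻¹ ∈ Qs x s₂ := by
      intro q hq
      have h1 := hcj _ hg2 q hq
      have h2 := (mem_normalizer_iff.mp haN₂ _).mp h1
      have e : a * g * q * (a * g)⁻¹ = a * (g * q * g⁻¹) * a⁻¹ := by group
      rw [e]; exact h2
    have hcen := comm_second hfR hx1 hx3 f₁ f₂ h12 e₂ hagx hag hagQ
    have hagC : a * g ∈ centralizer (S : Set G) := by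
      have hle : S ≤ centralizer ({a * g} : Set G) := by
        rw [← hMg]
        unfold Mg
        rw [closure_le]
        intro y hy
        rw [SetLike.mem_coe, mem_centralizer_iff]
        intro h hh
        rw [Set.mem_singleton_iff] at hh
        rw [hh]
        have k1 : Commute (a * g) x := hagx
        have k2 : Commute (a * g) s₁ := hag
        have k3 : Commute (a * g) s₂ := hcen s₂ (s_mem_Qs x s₂)
        rcases hy with hy | hy | hy
        · rw [hy]; exact hagx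
        · rw [hy]; exact ((k2.mul_right k1).mul_right k2.inv_right).eq
        · rw [Set.mem_singleton_iff] at hy
          rw [hy]
          exact ((k3.mul_right k1).mul_right k3.inv_right).eq
      rw [mem_centralizer_iff]
      intro h hh
      exact (mem_centralizer_iff.mp (hle hh) (a * g) rfl).symm
    have haS : a ∈ S := (zpowers_le.mpr hxS) ha
    have e : g = a⁻¹ * (a * g) := by group
    rw [e]
    exact mul_mem (le_sup_left (α := Subgroup G) (inv_mem haS))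
      (le_sup_right (α := Subgroup G) hagC)
  have hEv : ∀ n : G, NxP x n → EvP x (Qs x s₁) (Qs x s₂) n →
      n ∈ S ⊔ centralizer (S : Set G) := by
    intro n _ hev
    rcases hev with ⟨h1, h2⟩ | ⟨h1, h2⟩
    · exact hE n (mul_inv_eq_iff_eq_mul.mp h1) h2
    · have hvx : v⁻¹ * x⁻¹ * v = x := by
        calc v⁻¹ * x⁻¹ * v = v⁻¹ * (v * x * v⁻¹) * v := by rw [hinv]
          _ = x := by group
      have h3 : (v⁻¹ * n) * x = x * (v⁻¹ * n) := by
        apply mul_inv_eq_iff_eq_mul.mp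
        have e : v⁻¹ * n * x * (v⁻¹ * n)⁻¹ = v⁻¹ * (n * x * n⁻¹) * v := by group
        rw [e, h1, hvx]
      have h4 : MulAut.conj (v⁻¹ * n) • Qs x s₁ = Qs x s₁ := by
        rw [map_mul, map_inv, mul_smul, h2, inv_smul_eq_iff, hvQ]
      have h5 := hE _ h3 h4
      have e : n = v * (v⁻¹ * n) := by group
      rw [e]
      exact mul_mem (le_sup_left (α := Subgroup G) hvS) h5
  exact index_le_two S _ hSn le_sup_left (NxP x) (EvP x (Qs x s₁) (Qs x s₂)) hF hEv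
    (fun n m hn hm hno hmo => types_mul hperm n m hn hm hno hmo)

end Cfsg.Agent.Lib.Helper12.NonSolvC
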