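import Mathlib
import Cfsg.Agent.Lib.Helper12.NonSolvC

/-!
Non-solvable fixed-point-free groups, part D (helper12): the centralizer of the perfect core
and **Zassenhaus' structure theorem** `nonsolv_struct`.
-/

set_option autoImplicit false

namespace Cfsg.Agent.Lib.Helper12.NonSolvD

open Subgroup
open scoped Pointwise
open Cfsg.Agent.Lib.Helper12.FpfRing
open Cfsg.Agent.Lib.Helper12.Frame
open Cfsg.Agent.Lib.Helper12.FpfLin
open Cfsg.Agent.Lib.Helper12.Golden
open Cfsg.Agent.Lib.Helper12.GoldenK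
open Cfsg.Agent.Lib.Helper12.PerfA
open Cfsg.Agent.Lib.Helper12.PerfB
open Cfsg.Agent.Lib.Helper12.PerfC
open Cfsg.Agent.Lib.Helper12.PerfD
open Cfsg.Agent.Lib.Helper12.PerfFpf
open Cfsg.Agent.Lib.Helper12.PerfS
open Cfsg.Agent.Lib.Helper12.NonSolvA
open Cfsg.Agent.Lib.Helper12.NonSolvB
open Cfsg.Agent.Lib.Helper12.NonSolvC

variable {p : ℕ} [Fact p.Prime] {V : Type*} [AddCommGroup V] [Module (ZMod p) V] [Finite V]
  [Nontrivial V]

/-- The centralizer of the perfect core is `⟨z⟩ × M`. -/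
theorem cent_part {G : Type*} [Group G] [Finite G] {ρ : G →* (V ≃ₗ[ZMod p] V)} (hf : IsFpf ρ)
    {S : Subgroup G} (hS120 : Nat.card S = 120) {x s₁ s₂ : G}
    (hx1 : x ≠ 1) (hx3 : x ^ 3 = 1) (f₁ : IsFrame x s₁) (f₂ : IsFrame x s₂)
    (h12 : s₂ ∉ Qs x s₁) (hMg : Mg x s₁ s₂ = S) :
    ∃ M : Subgroup G, S ⊔ M = S ⊔ centralizer (S : Set G) ∧ S ⊓ M = ⊥ ∧
      (∀ s ∈ S, ∀ m ∈ M, s * m = m * s) ∧
      (∀ (q : ℕ) [Fact q.Prime] (P : Sylow q M), IsCyclic P) ∧ (Nat.card M).Coprime 30 := by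
  have hfR := fpfR_of_fpf hf
  have hxS : x ∈ S := by rw [← hMg]; exact x_mem_Mg x s₁ s₂
  have hs₁S : s₁ ∈ S := by rw [← hMg]; exact s_mem_Mg s₂ f₁
  have ht₁S : x * s₁ * x⁻¹ ∈ S := mul_mem (mul_mem hxS hs₁S) (inv_mem hxS)
  obtain ⟨C, hC⟩ : ∃ C : Subgroup G, C = centralizer (S : Set G) := ⟨_, rfl⟩
  rw [← hC]
  have hCdef : ∀ {c : G}, c ∈ C ↔ ∀ h ∈ S, h * c = c * h := by
    intro c
    rw [hC]
    exact mem_centralizer_iff
  have hz1 : s₁ ^ 2 ≠ 1 := f₁.h2
  have hz2 : (s₁ ^ 2) ^ 2 = 1 := by rw [← pow_mul]; exact f₁.h4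
  have hzcen : ∀ k : G, k * s₁ ^ 2 = s₁ ^ 2 * k := invol_central hfR hz1 hz2
  have hzC : s₁ ^ 2 ∈ C := hCdef.mpr (fun h _ => hzcen h)
  have hzS : s₁ ^ 2 ∈ S := pow_mem hs₁S 2
  have hC4 : ∀ c ∈ C, c ^ 4 = 1 → c ^ 2 = 1 := by
    intro c hc h4
    by_contra h2
    have hcs : c * s₁ = s₁ * c := (hCdef.mp hc s₁ hs₁S).symm
    have hs₁C : s₁ ∈ C := by
      rcases four_comm hfR h2 h4 f₁.h2 f₁.h4 hcs with h | h
      · rw [← h]; exact hc
      · have e : s₁ = c⁻¹ := by rw [h, inv_inv]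
        rw [e]; exact inv_mem hc
    exact frame_nc f₁ (hCdef.mp hs₁C _ ht₁S).symm
  have hCinv : ∀ c : G, c ^ 2 = 1 → c = 1 ∨ c = s₁ ^ 2 := by
    intro c h2
    by_cases h1 : c = 1
    · exact Or.inl h1
    · exact Or.inr (invol_unique hfR h1 h2 hz1 hz2)
  haveI : Fact (Nat.Prime 2) := ⟨Nat.prime_two⟩
  have h4C : ¬ 4 ∣ Nat.card C := by
    intro h4
    obtain ⟨K, hK⟩ := Sylow.exists_subgroup_card_pow_prime 2 (n := 2) (G := C) h4
    have hsub : (K : Set C) ⊆ {1, ⟨s₁ ^ 2, hzC⟩} := by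
      intro k hk
      have hk4 : k ^ 4 = 1 := by
        have h := orderOf_dvd_natCard (⟨k, hk⟩ : K)
        rw [hK, Subgroup.orderOf_mk] at h
        exact orderOf_dvd_iff_pow_eq_one.mp h
      have hk2 : (k : G) ^ 2 = 1 := hC4 (k : G) k.2 (congrArg Subtype.val hk4)
      rcases hCinv (k : G) hk2 with h | h
      · left; exact Subtype.ext h
      · right; exact Subtype.ext h
    have hle := Set.ncard_le_ncard hsub (Set.toFinite _)
    have hK' : (K : Set C).ncard = 4 := (Nat.card_coe_set_eq (K : Set C)).symm.trans hK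
    have h2 : ({1, ⟨s₁ ^ 2, hzC⟩} : Set C).ncard ≤ 2 := by
      have h := Set.ncard_insert_le (1 : C) {⟨s₁ ^ 2, hzC⟩}
      rwa [Set.ncard_singleton] at h
    omega
  -- Schur–Zassenhaus
  obtain ⟨z', hz'⟩ : ∃ z' : C, (z' : G) = s₁ ^ 2 := ⟨⟨s₁ ^ 2, hzC⟩, rfl⟩
  have hz'1 : z' ≠ 1 := fun h => hz1 (by rw [← hz', h]; rfl)
  have hz'2 : z' ^ 2 = 1 := Subtype.ext (by
    show (z' : G) ^ 2 = 1
    rw [hz']; exact hz2)
  have hz'o : orderOf z' = 2 := orderOf_eq_prime hz'2 hz'1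
  have hz'c : ∀ k : C, k * z' = z' * k := fun k => Subtype.ext (by
    show (k : G) * (z' : G) = (z' : G) * (k : G)
    rw [hz']; exact hzcen k)
  haveI hNn : (zpowers z').Normal := by
    constructor
    intro n hn g
    obtain ⟨k, rfl⟩ := mem_zpowers_iff.mp hn
    have hc : Commute g (z' ^ k) := (show Commute g z' from hz'c g).zpow_right k
    have e : g * z' ^ k * g⁻¹ = z' ^ k := by rw [hc.eq, mul_inv_cancel_right]
    rw [e]; exact hn
  have hNcard : Nat.card (zpowers z') = 2 := by rw [Nat.card_zpowers, hz'o]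
  have hidx : (zpowers z').index * 2 = Nat.card C := by
    have h := Subgroup.index_mul_card (zpowers z')
    rwa [hNcard] at h
  have hodd : ¬ 2 ∣ (zpowers z').index := by
    rintro ⟨k, hk⟩
    apply h4C
    rw [← hidx, hk]
    exact ⟨k, by ring⟩
  have hcop : Nat.Coprime (Nat.card (zpowers z')) (zpowers z').index := by
    rw [hNcard]
    exact (Nat.Prime.coprime_iff_not_dvd Nat.prime_two).mpr hodd
  obtain ⟨M', hM'⟩ := Subgroup.exists_right_complement'_of_coprime hcop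
  have hM'card : 2 * Nat.card M' = Nat.card C := by
    have h := hM'.card_mul_card
    rwa [hNcard] at h
  have hM'odd : ¬ 2 ∣ Nat.card M' := by
    rintro ⟨k, hk⟩
    apply h4C
    rw [← hM'card, hk]
    exact ⟨k, by ring⟩
  have hMC : M'.map C.subtype ≤ C := Subgroup.map_subtype_le M'
  have hinf : S ⊓ M'.map C.subtype = ⊥ := by
    rw [eq_bot_iff]
    rintro y ⟨hyS, m, hm, rfl⟩
    rw [mem_bot]
    have hyS' : (m : G) ∈ S := hyS
    have hsq : (m : G) ^ 2 = 1 := by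
      apply (golden_v hfR hx1 hx3 f₁ f₂ h12).2 _ (by rw [hMg]; exact hyS')
      intro g hg
      rw [hMg] at hg
      exact hCdef.mp m.2 g hg
    have ho : orderOf (⟨m, hm⟩ : M') ∣ Nat.card M' := orderOf_dvd_natCard _
    rw [Subgroup.orderOf_mk] at ho
    have ho2 : orderOf m ∣ 2 := orderOf_dvd_of_pow_eq_one (Subtype.ext hsq)
    have h1 : orderOf m = 1 := by
      have h := Nat.dvd_gcd ho2 ho
      rw [(Nat.Prime.coprime_iff_not_dvd Nat.prime_two).mpr hM'odd] at h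
      exact Nat.dvd_one.mp h
    rw [orderOf_eq_one_iff] at h1
    rw [h1]; rfl
  have hMcard : Nat.card (M'.map C.subtype) = Nat.card M' :=
    Subgroup.card_map_of_injective C.subtype_injective
  refine ⟨M'.map C.subtype, ?_, hinf, ?_, ?_, ?_⟩
  · apply le_antisymm
    · exact sup_le_sup_left hMC S
    · apply sup_le le_sup_left
      have hCeq : C = (zpowers z').map C.subtype ⊔ M'.map C.subtype := by
        rw [← Subgroup.map_sup, hM'.sup_eq_top, ← MonoidHom.range_eq_map, Subgroup.range_subtype]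
      have hNS : (zpowers z').map C.subtype ≤ S := by
        rw [MonoidHom.map_zpowers]
        apply zpowers_le.mpr
        show (z' : G) ∈ S
        rw [hz']; exact hzS
      calc C = (zpowers z').map C.subtype ⊔ M'.map C.subtype := hCeq
        _ ≤ S ⊔ M'.map C.subtype := sup_le_sup_right hNS _
  · intro s hs m hm
    exact hCdef.mp (hMC hm) s hs
  · have hfM : IsFpf (ρ.comp (M'.map C.subtype).subtype) :=
      fun g hg v hv => hf g (fun h => hg (Subtype.ext h)) v hv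
    haveI : IsZGroup (M'.map C.subtype) := by
      apply zgroup_of_fpf hfM
      intro k hk4
      exact Subtype.ext (hC4 (k : G) (hMC k.2) (congrArg Subtype.val hk4))
    intro q hq P
    exact IsZGroup.isZGroup q hq.out P
  · have c2 : ¬ 2 ∣ Nat.card (M'.map C.subtype) := by rw [hMcard]; exact hM'odd
    have c3 : ¬ 3 ∣ Nat.card (M'.map C.subtype) := by
      intro h3
      haveI : Fact (Nat.Prime 3) := ⟨Nat.prime_three⟩
      obtain ⟨y, hy⟩ := exists_prime_orderOf_dvd_card' (G := M'.map C.subtype) 3 h3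
      have hy1 : (y : G) ≠ 1 := by
        intro h
        have e : y = 1 := Subtype.ext h
        rw [e, orderOf_one] at hy
        omega
      have hy3 : (y : G) ^ 3 = 1 := by
        have h := pow_orderOf_eq_one y
        rw [hy] at h
        exact congrArg Subtype.val h
      have hc : x * (y : G) = (y : G) * x := hCdef.mp (hMC y.2) x hxS
      have hxM : x ∈ M'.map C.subtype := by
        rcases comm_cubes hfR hx1 hx3 hy1 hy3 hc with h | h
        · rw [← h]; exact y.2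
        · have e : x = (y : G)⁻¹ := by rw [h, inv_inv]
          rw [e]; exact inv_mem y.2
      have hmem : x ∈ S ⊓ M'.map C.subtype := ⟨hxS, hxM⟩
      rw [hinf, mem_bot] at hmem
      exact hx1 hmem
    have c5 : ¬ 5 ∣ Nat.card (M'.map C.subtype) := by
      intro h5
      haveI : Fact (Nat.Prime 5) := ⟨by norm_num⟩
      obtain ⟨y, hy⟩ := exists_prime_orderOf_dvd_card' (G := M'.map C.subtype) 5 h5
      obtain ⟨w, hw⟩ := exists_prime_orderOf_dvd_card' (G := S) 5 (by rw [hS120]; norm_num)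
      have hw' : orderOf (w : G) = 5 := by rw [Subgroup.orderOf_coe]; exact hw
      have hy5 : (y : G) ^ 5 = 1 := by
        have h := pow_orderOf_eq_one y
        rw [hy] at h
        exact congrArg Subtype.val h
      have hc : (w : G) * (y : G) = (y : G) * (w : G) := hCdef.mp (hMC y.2) w w.2
      have hyS : (y : G) ∈ S :=
        (zpowers_le.mpr w.2) (comm_prime hf (by norm_num) hw' hy5 hc)
      have hmem : (y : G) ∈ S ⊓ M'.map C.subtype := ⟨hyS, y.2⟩
      rw [hinf, mem_bot] at hmem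
      have e : y = 1 := Subtype.ext hmem
      rw [e, orderOf_one] at hy
      omega
    have e30 : (30 : ℕ) = 2 * 3 * 5 := by norm_num
    rw [e30]
    exact Nat.Coprime.mul_right (Nat.Coprime.mul_right
      ((Nat.Prime.coprime_iff_not_dvd Nat.prime_two).mpr c2).symm
      ((Nat.Prime.coprime_iff_not_dvd Nat.prime_three).mpr c3).symm)
      ((Nat.Prime.coprime_iff_not_dvd (by norm_num)).mpr c5).symm

/-- **Zassenhaus' structure theorem** for non-solvable fixed-point-free groups. -/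
theorem nonsolv_struct {G : Type*} [Group G] [Finite G] {ρ : G →* (V ≃ₗ[ZMod p] V)}
    (hf : IsFpf ρ) (hns : ¬ Group.IsSolvable G) :
    ∃ S M : Subgroup G, S.Normal ∧
      Nonempty (S ≃* Matrix.SpecialLinearGroup (Fin 2) (ZMod 5)) ∧
      Nat.card S = 120 ∧ (S ⊔ M).Normal ∧ ((S ⊔ M).index = 1 ∨ (S ⊔ M).index = 2) ∧
      S ⊓ M = ⊥ ∧ (∀ s ∈ S, ∀ m ∈ M, s * m = m * s) ∧
      (∀ (q : ℕ) [Fact q.Prime] (P : Sylow q M), IsCyclic P) ∧ (Nat.card M).Coprime 30 ∧
      ∃ s t : G, s ∈ S ∧ t ∈ S ∧ RF (toEnd ρ s) (toEnd ρ t) := by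
  obtain ⟨S, hSn, he, hS120, x, s₁, s₂, v, hvS, hx1, hx3, f₁, f₂, h12, hMg, hQ₁, hQ₂, hinv,
    hv4⟩ := core_struct hf hns
  obtain ⟨M, hsup, hinf, hcomm, hsyl, hcop⟩ := cent_part hf hS120 hx1 hx3 f₁ f₂ h12 hMg
  have hidx := index_part hf hSn hS120 hvS hx1 hx3 f₁ f₂ h12 hMg hQ₁ hQ₂ hinv hv4
  have hxS : x ∈ S := by rw [← hMg]; exact x_mem_Mg x s₁ s₂
  have hs₁S : s₁ ∈ S := by rw [← hMg]; exact s_mem_Mg s₂ f₁
  refine ⟨S, M, hSn, he, hS120, ?_, ?_, hinf, hcomm, hsyl, hcop, s₁, x * s₁ * x⁻¹, hs₁S,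
    mul_mem (mul_mem hxS hs₁S) (inv_mem hxS), f₁.rf (fpfR_of_fpf hf)⟩
  · rw [hsup]
    haveI := hSn
    infer_instance
  · rw [hsup]; exact hidx

end Cfsg.Agent.Lib.Helper12.NonSolvD
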