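import Mathlib
import Cfsg.Agent.Lib.Helper12.NonSolvD

/-!
Tools for the exceptional nearfields (helper12): the eigenspace splitting of a quaternion
frame over `ZMod p` (`|V| = |W|²` with `W` invariant under the commutant of the frame), the
divisibility `|G| ∣ |W| - 1` for a fixed-point-free group stabilizing `W`, internal direct
products, and the arithmetic of `u² - 1 = 120 m ε`.
-/

set_option autoImplicit false

namespace Cfsg.Agent.Lib.Helper12.NearJ

open Subgroup
open Cfsg.Agent.Lib.Helper12.FpfRing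
open Cfsg.Agent.Lib.Helper12.Frame
open Cfsg.Agent.Lib.Helper12.FpfLin
open Cfsg.Agent.Lib.Helper12.QuatReg

/-- Internal direct product. -/
theorem prod_equiv {G : Type*} [Group G] (S M : Subgroup G) (hinf : S ⊓ M = ⊥)
    (hcomm : ∀ s ∈ S, ∀ m ∈ M, s * m = m * s) : Nonempty (S × M ≃* ↥(S ⊔ M)) := by
  have hc : ∀ (a : S) (b : M), Commute (S.subtype a) (M.subtype b) :=
    fun a b => show (a : G) * (b : G) = (b : G) * (a : G) from hcomm a a.2 b b.2
  have hinj : Function.Injective (MonoidHom.noncommCoprod S.subtype M.subtype hc) := by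
    rw [injective_iff_map_eq_one]
    rintro ⟨a, b⟩ hab
    have hab' : (a : G) * (b : G) = 1 := hab
    have h1 : (a : G) = (b : G)⁻¹ := eq_inv_of_mul_eq_one_left hab'
    have h2 : (a : G) ∈ S ⊓ M := Subgroup.mem_inf.mpr ⟨a.2, by rw [h1]; exact M.inv_mem b.2⟩
    rw [hinf, mem_bot] at h2
    have h3 : (b : G) = 1 := by rw [h2, one_mul] at hab'; exact hab'
    exact Prod.ext (Subtype.ext h2) (Subtype.ext h3)
  have hrange : (MonoidHom.noncommCoprod S.subtype M.subtype hc).range = S ⊔ M := by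
    rw [MonoidHom.noncommCoprod_range, Subgroup.range_subtype, Subgroup.range_subtype]
  exact ⟨(MonoidHom.ofInjective hinj).trans (MulEquiv.subgroupCongr hrange)⟩

/-- The arithmetic of the non-solvable nearfields. -/
theorem near_arith (u m ε : ℕ) (hε : ε = 1 ∨ ε = 2) (h1 : u * u = 120 * m * ε + 1)
    (hm : m ∣ u - 1) (hcop : Nat.Coprime m 30) :
    (u = 11 ∧ m = 1 ∧ ε = 1) ∨ (u = 29 ∧ m = 7 ∧ ε = 1) ∨ (u = 59 ∧ m = 29 ∧ ε = 1) ∨
      (u = 119 ∧ m = 59 ∧ ε = 2) := by
  have hmpos : 0 < m := by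
    rcases Nat.eq_zero_or_pos m with h | h
    · rw [h] at hcop
      norm_num at hcop
    · exact h
  have hε1 : 1 ≤ ε := by rcases hε with rfl | rfl <;> norm_num
  have hε2 : ε ≤ 2 := by rcases hε with rfl | rfl <;> norm_num
  have hu1 : 1 ≤ u := by
    rcases Nat.eq_zero_or_pos u with h | h
    · rw [h] at h1
      omega
    · exact h
  have hmd := hm
  obtain ⟨k, hk⟩ := hm
  have hu : u = m * k + 1 := by omega
  have e1 : u * u = m * (k * (u + 1)) + 1 := by
    rw [hu]; ring
  have e2 : m * (k * (u + 1)) = m * (120 * ε) := by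
    have e3 : m * (k * (u + 1)) + 1 = 120 * m * ε + 1 := e1.symm.trans h1
    have e4 : 120 * m * ε = m * (120 * ε) := by ring
    omega
  have e5 : k * (u + 1) = 120 * ε := Nat.eq_of_mul_eq_mul_left hmpos e2
  have hkpos : 0 < k := by
    rcases Nat.eq_zero_or_pos k with h | h
    · rw [h] at e5
      omega
    · exact h
  have hle : u + 1 ≤ k * (u + 1) := Nat.le_mul_of_pos_left _ hkpos
  have hu239 : u ≤ 239 := by omega
  have hm' : m = (u * u - 1) / (120 * ε) := by
    have e6 : u * u - 1 = m * (120 * ε) := by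
      have e4 : 120 * m * ε = m * (120 * ε) := by ring
      omega
    rw [e6, Nat.mul_div_cancel _ (by omega)]
  clear hk hu e1 e2 hle e5 hkpos k
  interval_cases u <;> rcases hε with rfl | rfl <;> first
    | omega
    | (norm_num at hm'; subst hm'; first | omega | (exfalso; revert hcop; norm_num))

/-- A module over `ZMod p` does not have `119²` elements. -/
theorem card_ne_119 (p : ℕ) [Fact p.Prime] (V : Type*) [AddCommGroup V] [Module (ZMod p) V]
    [Finite V] : Nat.card V ≠ 119 * 119 := by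
  intro h
  have hc := Module.natCard_eq_pow_finrank (K := ZMod p) (V := V)
  rw [Nat.card_zmod] at hc
  have hp := (Fact.out : p.Prime)
  have h7 : 7 ∣ p ^ Module.finrank (ZMod p) V := by rw [← hc, h]; norm_num
  have h17 : 17 ∣ p ^ Module.finrank (ZMod p) V := by rw [← hc, h]; norm_num
  have e7 : 7 = p :=
    (Nat.prime_dvd_prime_iff_eq (by norm_num) hp).mp (Nat.Prime.dvd_of_dvd_pow (by norm_num) h7)
  have e17 : 17 = p :=
    (Nat.prime_dvd_prime_iff_eq (by norm_num) hp).mp (Nat.Prime.dvd_of_dvd_pow (by norm_num) h17)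
  omega

section Lin

variable {p : ℕ} [Fact p.Prime] {V : Type*} [AddCommGroup V] [Module (ZMod p) V] [Finite V]

/-- A fixed-point-free group stabilizing a subspace `W` has order dividing `|W| - 1`. -/
theorem fpf_dvd_sub {G : Type*} [Group G] [Finite G] {ρ : G →* (V ≃ₗ[ZMod p] V)} (hf : IsFpf ρ)
    (W : Submodule (ZMod p) V) (hW : ∀ g : G, ∀ w ∈ W, ρ g w ∈ W) :
    Nat.card G ∣ Nat.card W - 1 := by
  classical
  letI : MulAction G {w : W // w ≠ 0} :=
    { smul := fun g w => ⟨⟨ρ g w.1.1, hW g w.1.1 w.1.2⟩, fun h => w.2 (by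
        have h' : ρ g w.1.1 = 0 := congrArg Subtype.val h
        have h'' : (w.1 : V) = 0 := by simpa using h'
        exact Subtype.ext h'')⟩
      one_smul := fun w => Subtype.ext (Subtype.ext (rho_one ρ w.1.1))
      mul_smul := fun g h w => Subtype.ext (Subtype.ext (rho_mul ρ g h w.1.1)) }
  have hstab : ∀ w : {w : W // w ≠ 0}, MulAction.stabilizer G w = ⊥ := by
    intro w
    rw [eq_bot_iff]
    intro g hg
    rw [MulAction.mem_stabilizer_iff] at hg
    rw [mem_bot]
    by_contra hne
    have h1 : ρ g w.1.1 = w.1.1 := congrArg (fun x : {w : W // w ≠ 0} => (x.1 : V)) hg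
    exact w.2 (Subtype.ext (hf g hne w.1.1 h1))
  have h := index_dvd_card_of_stabilizer_eq (G := G) (Ω := {w : W // w ≠ 0}) ⊥ hstab
  rw [Subgroup.index_bot] at h
  have hX : Nat.card {w : W // w ≠ 0} + 1 = Nat.card W := by
    rw [← Finite.card_option, Nat.card_congr (Equiv.optionSubtypeNe (0 : W))]
  have hX' : Nat.card {w : W // w ≠ 0} = Nat.card W - 1 := by omega
  rwa [hX'] at h

/-- **Eigenspace splitting** of a quaternion frame over `ZMod p`, `p` odd. -/
theorem frame_split {S T : Module.End (ZMod p) V} (F : RF S T) (hp2 : p ≠ 2) :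
    ∃ W : Submodule (ZMod p) V, Nat.card V = Nat.card W * Nat.card W ∧
      ∀ c : Module.End (ZMod p) V, c * S = S * c → c * T = T * c → ∀ w ∈ W, c w ∈ W := by
  obtain ⟨a, b, hab⟩ := ZMod.sq_add_sq p (-1 : ZMod p)
  have h2 : (2 : ZMod p) ≠ 0 := by
    intro h
    have h3 : ((2 : ℕ) : ZMod p) = 0 := by exact_mod_cast h
    rw [ZMod.natCast_eq_zero_iff] at h3
    exact hp2 ((Nat.prime_dvd_prime_iff_eq (Fact.out : p.Prime) Nat.prime_two).mp h3)
  obtain ⟨h, hh⟩ : ∃ h : ZMod p, h + h = 1 := ⟨2⁻¹, by rw [← two_mul, mul_inv_cancel₀ h2]⟩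
  have hSS : ∀ v, S (S v) = -v := fun v => by
    have h' := congrArg (fun f : Module.End (ZMod p) V => f v) F.hS
    simpa using h'
  have hTT : ∀ v, T (T v) = -v := fun v => by
    have h' := congrArg (fun f : Module.End (ZMod p) V => f v) F.hT
    simpa using h'
  have hTS : ∀ v, T (S v) = -(S (T v)) := fun v => by
    have h' := congrArg (fun f : Module.End (ZMod p) V => f v) F.hTS
    simpa using h'
  obtain ⟨J, hJv⟩ : ∃ J : Module.End (ZMod p) V, ∀ v, J v = a • S v + b • T v :=
    ⟨a • S + b • T, fun v => rfl⟩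
  have hJJ : ∀ v, J (J v) = v := by
    intro v
    rw [hJv, hJv]
    simp only [map_add, map_smul, hSS, hTT, hTS]
    have e : a • (a • -v + b • S (T v)) + b • (a • -(S (T v)) + b • -v)
        = (-(a ^ 2 + b ^ 2)) • v := by module
    rw [e, hab, neg_neg, one_smul]
  have hUU : ∀ v, S (T (S (T v))) = -v := by
    intro v
    simp only [hTS, hTT, hSS, map_neg, neg_neg]
  have hJU : ∀ v, J (S (T v)) = -(S (T (J v))) := by
    intro v
    rw [hJv, hJv]
    simp only [map_add, map_smul, map_neg, hSS, hTT, hTS, neg_neg]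
    module
  have hmem : ∀ w : V, w ∈ LinearMap.ker (J - 1) ↔ J w = w := by
    intro w
    rw [LinearMap.mem_ker, LinearMap.sub_apply, Module.End.one_apply, sub_eq_zero]
  have hhalf : ∀ v : V, h • (v + v) = v := fun v => by
    rw [smul_add, ← add_smul, hh, one_smul]
  refine ⟨LinearMap.ker (J - 1), ?_, ?_⟩
  · have hinj : Function.Injective (fun x : LinearMap.ker (J - 1) × LinearMap.ker (J - 1) =>
        (x.1 : V) + S (T (x.2 : V))) := by
      rintro ⟨⟨w₁, hw₁⟩, ⟨w₂, hw₂⟩⟩ ⟨⟨w₁', hw₁'⟩, ⟨w₂', hw₂'⟩⟩ e1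
      rw [hmem] at hw₁ hw₂ hw₁' hw₂'
      have e1' : w₁ + S (T w₂) = w₁' + S (T w₂') := e1
      have e2 := congrArg J e1'
      rw [map_add, map_add, hJU, hJU, hw₁, hw₂, hw₁', hw₂'] at e2
      have e3 : w₁ + w₁ = w₁' + w₁' := by
        calc w₁ + w₁ = (w₁ + S (T w₂)) + (w₁ + -(S (T w₂))) := by abel
          _ = (w₁' + S (T w₂')) + (w₁' + -(S (T w₂'))) := by rw [e1', e2]
          _ = w₁' + w₁' := by abel
      have e4 : w₁ = w₁' := by rw [← hhalf w₁, e3, hhalf]
      rw [e4] at e1'
      have e5 : S (T w₂) = S (T w₂') := add_left_cancel e1'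
      have e6 : w₂ = w₂' := by
        have e7 := congrArg (fun v => S (T v)) e5
        simp only [hUU] at e7
        exact neg_injective e7
      exact Prod.ext (Subtype.ext e4) (Subtype.ext e6)
    have hsurj : Function.Surjective (fun x : LinearMap.ker (J - 1) × LinearMap.ker (J - 1) =>
        (x.1 : V) + S (T (x.2 : V))) := by
      intro v
      have hw₁ : h • (v + J v) ∈ LinearMap.ker (J - 1) := by
        rw [hmem, map_smul, map_add, hJJ, add_comm]
      have hw₂ : h • -(S (T (v - J v))) ∈ LinearMap.ker (J - 1) := by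
        rw [hmem, map_smul, map_neg, hJU, neg_neg, map_sub, hJJ]
        congr 1
        rw [← map_neg, ← map_neg, neg_sub]
      refine ⟨(⟨_, hw₁⟩, ⟨_, hw₂⟩), ?_⟩
      show h • (v + J v) + S (T (h • -(S (T (v - J v))))) = v
      simp only [map_smul, map_neg, hUU, neg_neg]
      rw [← smul_add]
      have e : v + J v + (v - J v) = v + v := by abel
      rw [e, hhalf]
    rw [← Nat.card_prod]
    exact (Nat.card_congr (Equiv.ofBijective _ ⟨hinj, hsurj⟩)).symm
  · intro c hcS hcT w hw
    rw [hmem] at hw ⊢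
    have hcS' : ∀ v, c (S v) = S (c v) := fun v =>
      congrArg (fun f : Module.End (ZMod p) V => f v) hcS
    have hcT' : ∀ v, c (T v) = T (c v) := fun v =>
      congrArg (fun f : Module.End (ZMod p) V => f v) hcT
    calc J (c w) = a • S (c w) + b • T (c w) := hJv _
      _ = a • c (S w) + b • c (T w) := by rw [hcS', hcT']
      _ = c (a • S w + b • T w) := by rw [map_add, map_smul, map_smul]
      _ = c w := by rw [← hJv, hw]

end Lin

end Cfsg.Agent.Lib.Helper12.NearJ
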