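import Mathlib
import Cfsg.Agent.Lib.Helper12.FpfLin
import Cfsg.Agent.Lib.Helper12.NearJ
import Cfsg.Agent.Lib.Helper12.HupT
import Cfsg.Agent.Lib.Helper12.HupF

/-!
# Huppert's theorem, the metacyclic case (helper12)

`G` regular on the non-zero vectors of `V`, with a self-centralizing abelian normal subgroup `A`:
then `A` is irreducible, `V` is a one-dimensional semilinear space, and `G` has a normal
subgroup of index two when the characteristic is odd.
-/

set_option autoImplicit false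

namespace Cfsg.Agent.Lib.Helper12.HupA

open Subgroup
open Cfsg.Agent.Lib.Helper12.FpfLin
open Cfsg.Agent.Lib.Helper12.NearJ

variable {p : ℕ} [Fact p.Prime] {V : Type*} [AddCommGroup V] [Module (ZMod p) V] [Finite V]
  [Nontrivial V]
variable {G : Type*} [Group G]

/-- `|G| + 1 = |V|` for a group regular on the non-zero vectors. -/
theorem card_reg {ρ : G →* (V ≃ₗ[ZMod p] V)} (hf : IsFpf ρ) (ht : IsTrans ρ) :
    Nat.card G + 1 = Nat.card V := by
  classical
  obtain ⟨v₀, hv₀⟩ := exists_ne (0 : V)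
  have hbij : Function.Bijective (fun g : G =>
      (⟨ρ g v₀, fun h0 => hv₀ (by simpa using h0)⟩ : {v : V // v ≠ 0})) := by
    constructor
    · intro g h hh
      have h1 : ρ g v₀ = ρ h v₀ := congrArg Subtype.val hh
      exact eq_of_apply_eq hf hv₀ h1
    · rintro ⟨w, hw⟩
      obtain ⟨g, hg⟩ := ht v₀ w hv₀ hw
      exact ⟨g, Subtype.ext hg⟩
  rw [Nat.card_congr (Equiv.ofBijective _ hbij), ← Finite.card_option,
    Nat.card_congr (Equiv.optionSubtypeNe (0 : V))]

/-- The restriction of a fixed-point-free representation to a subgroup. -/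
theorem fpf_sub {ρ : G →* (V ≃ₗ[ZMod p] V)} (hf : IsFpf ρ) (A : Subgroup G) :
    IsFpf (ρ.comp A.subtype) := by
  intro a ha v hv
  exact hf (a : G) (fun h => ha (Subtype.ext h)) v hv

/-- The conjugation action on a cyclic normal subgroup, with values in a commutative group. -/
noncomputable def conjHom (A : Subgroup G) [A.Normal] [IsCyclic A] :
    G →* (ZMod (Nat.card A))ˣ :=
  (IsCyclic.mulAutMulEquiv A).toMonoidHom.comp (MulAut.conjNormal (H := A))

theorem conjHom_ker (A : Subgroup G) [A.Normal] [IsCyclic A] :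
    (conjHom A).ker = centralizer (A : Set G) := by
  ext x
  rw [MonoidHom.mem_ker, mem_centralizer_iff]
  show (IsCyclic.mulAutMulEquiv A) (MulAut.conjNormal x) = 1 ↔ _
  rw [MulEquiv.map_eq_one_iff]
  constructor
  · intro h t ht
    have h2 := congrArg (fun φ : MulAut A => ((φ ⟨t, ht⟩ : A) : G)) h
    simp only [MulAut.conjNormal_apply, MulAut.one_apply] at h2
    calc t * x = (x * t * x⁻¹) * x := by rw [h2]
      _ = x * t := by group
  · intro h
    ext t
    rw [MulAut.conjNormal_apply, MulAut.one_apply]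
    have := h t t.2
    calc x * t * x⁻¹ = (t * x) * x⁻¹ := by rw [this]
      _ = t := by group

/-- The index of a self-centralizing cyclic normal subgroup is at most its order. -/
theorem index_le_card [Finite G] (A : Subgroup G) [A.Normal] [IsCyclic A]
    (hCA : centralizer (A : Set G) = A) : A.index ≤ Nat.card A := by
  haveI : NeZero (Nat.card A) := ⟨Nat.card_pos.ne'⟩
  have h1 : A.index = Nat.card (conjHom A).range := by
    rw [← Subgroup.index_ker, conjHom_ker, hCA]
  rw [h1]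
  calc Nat.card (conjHom A).range ≤ Nat.card (ZMod (Nat.card A))ˣ :=
        Nat.card_le_card_of_injective _ Subtype.val_injective
    _ ≤ Nat.card (ZMod (Nat.card A)) :=
        Nat.card_le_card_of_injective _ Units.val_injective
    _ = Nat.card A := Nat.card_zmod _

/-- A self-centralizing abelian normal subgroup of a regular group acts irreducibly. -/
theorem irr_of_self_centralizing [Finite G] {ρ : G →* (V ≃ₗ[ZMod p] V)} (hf : IsFpf ρ)
    (ht : IsTrans ρ) (A : Subgroup G) [A.Normal] (hAc : ∀ a ∈ A, ∀ b ∈ A, a * b = b * a)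
    (hCA : centralizer (A : Set G) = A) (W : Submodule (ZMod p) V) (hW : Inv ρ A W) :
    W = ⊥ ∨ W = ⊤ := by
  classical
  by_contra hcon
  push Not at hcon
  obtain ⟨hW0, hWtop⟩ := hcon
  obtain ⟨W₁, hle, h1⟩ := exists_minInv ρ A W hW0 hW
  have hW₁top : W₁ ≠ ⊤ := by
    intro e
    apply hWtop
    rw [eq_top_iff, ← e]
    exact hle
  obtain ⟨w₀, hw₀, hw₀0⟩ := Submodule.exists_mem_ne_zero_of_ne_bot h1.1
  obtain ⟨u, hu⟩ : ∃ u : V, u ∉ W₁ := by
    by_contra hall
    push Not at hall
    exact hW₁top (eq_top_iff.mpr (fun v _ => hall v))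
  have hu0 : u ≠ 0 := fun e => hu (e ▸ W₁.zero_mem)
  obtain ⟨g, hg⟩ := ht w₀ u hw₀0 hu0
  have h2 := h1.map g
  have hne : W₁ ≠ W₁.map (ρ g : V →ₗ[ZMod p] V) := by
    intro e
    apply hu
    rw [e]
    exact ⟨w₀, hw₀, hg⟩
  have hdisj : W₁ ⊓ W₁.map (ρ g : V →ₗ[ZMod p] V) = ⊥ := by
    rcases h1.eq_or_disjoint h2 with h | h
    · exact absurd h hne
    · exact h
  -- counting
  have c1 : Nat.card W₁ * Nat.card W₁ ≤ Nat.card V := by
    rw [← Nat.card_prod]
    apply Nat.card_le_card_of_injective (fun x : W₁ × W₁ => (x.1 : V) + ρ g (x.2 : V))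
    rintro ⟨a, b⟩ ⟨a', b'⟩ hab
    have hab' : (a : V) + ρ g (b : V) = (a' : V) + ρ g (b' : V) := hab
    have h3 : (a : V) - (a' : V) = ρ g ((b' : V) - (b : V)) := by
      rw [map_sub, sub_eq_sub_iff_add_eq_add, hab', add_comm]
    have h4 : (a : V) - (a' : V) ∈ W₁ ⊓ W₁.map (ρ g : V →ₗ[ZMod p] V) := by
      refine ⟨W₁.sub_mem a.2 a'.2, ?_⟩
      rw [h3]
      exact ⟨(b' : V) - (b : V), W₁.sub_mem b'.2 b.2, rfl⟩
    rw [hdisj, Submodule.mem_bot] at h4
    have h5 : ρ g ((b' : V) - (b : V)) = 0 := by rw [← h3, h4]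
    have h6 : (b' : V) - (b : V) = 0 := (LinearEquiv.map_eq_zero_iff _).mp h5
    exact Prod.ext (Subtype.ext (sub_eq_zero.mp h4)) (Subtype.ext (sub_eq_zero.mp h6).symm)
  have hW₁card : 2 ≤ Nat.card W₁ := by
    have : Nontrivial W₁ := ⟨⟨⟨w₀, hw₀⟩, 0, fun h => hw₀0 (congrArg Subtype.val h)⟩⟩
    exact Finite.one_lt_card
  have c2 : Nat.card A ∣ Nat.card W₁ - 1 :=
    fpf_dvd_sub (fpf_sub hf A) W₁ (fun a w hw => h1.2.1 a a.2 w hw)
  have c2' : Nat.card A ≤ Nat.card W₁ - 1 := Nat.le_of_dvd (by omega) c2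
  haveI : IsCyclic A := abelian_isCyclic hf A hAc
  have c3 := index_le_card A hCA
  have c4 := card_reg hf ht
  have c5 : Nat.card G = A.index * Nat.card A := by rw [mul_comm]; exact (A.card_mul_index).symm
  have c6 : Nat.card G ≤ (Nat.card W₁ - 1) * (Nat.card W₁ - 1) := by
    rw [c5]
    exact Nat.mul_le_mul (c3.trans c2') c2'
  obtain ⟨k, hk⟩ : ∃ k, Nat.card W₁ = k + 2 := ⟨Nat.card W₁ - 2, by omega⟩
  rw [hk] at c1 c6
  have h7 : (k + 2) * (k + 2) ≤ (k + 2 - 1) * (k + 2 - 1) + 1 := by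
    calc (k + 2) * (k + 2) ≤ Nat.card V := c1
      _ = Nat.card G + 1 := c4.symm
      _ ≤ (k + 2 - 1) * (k + 2 - 1) + 1 := Nat.add_le_add_right c6 1
  have h8 : k + 2 - 1 = k + 1 := by omega
  rw [h8] at h7
  nlinarith

/-- In odd characteristic, a regular group with a self-centralizing abelian normal subgroup has a
normal subgroup of index two. -/
theorem index_two_of_self_centralizing [Finite G] {ρ : G →* (V ≃ₗ[ZMod p] V)} (hf : IsFpf ρ)
    (ht : IsTrans ρ) (hp2 : p ≠ 2) (A : Subgroup G) [A.Normal]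
    (hAc : ∀ a ∈ A, ∀ b ∈ A, a * b = b * a) (hCA : centralizer (A : Set G) = A) :
    ∃ N : Subgroup G, N.Normal ∧ N.index = 2 := by
  haveI : IsCyclic A := abelian_isCyclic hf A hAc
  haveI : Fact (Nat.Prime 2) := ⟨Nat.prime_two⟩
  by_cases h2 : 2 ∣ Nat.card (conjHom A).range
  · exact HupT.index_two_of_comm_image (conjHom A) h2
  · have hG2 : 2 ∣ Nat.card G := by
      have c4 := card_reg hf ht
      rw [← FiniteField.pow_finrank_eq_natCard p V] at c4
      have hodd : Odd (p ^ Module.finrank (ZMod p) V) :=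
        ((Fact.out : p.Prime).odd_of_ne_two hp2).pow
      have : Even (Nat.card G) := by
        by_contra hne
        have h3 : Odd (Nat.card G) := Nat.not_even_iff_odd.mp hne
        have h4 : Even (Nat.card G + 1) := h3.add_one
        rw [c4] at h4
        exact (Nat.not_even_iff_odd.mpr hodd) h4
      exact even_iff_two_dvd.mp this
    obtain ⟨P⟩ : Nonempty (Sylow 2 G) := inferInstance
    have hPA : (P : Subgroup G) ≤ A := by
      intro x hx
      rw [← hCA, ← conjHom_ker, MonoidHom.mem_ker]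
      obtain ⟨k, hk⟩ := P.2 ⟨x, hx⟩
      have hk' : x ^ 2 ^ k = 1 := by simpa using congrArg Subtype.val hk
      have h3 : (conjHom A x) ^ 2 ^ k = 1 := by rw [← map_pow, hk', map_one]
      have h4 : (conjHom A x) ^ Nat.card (conjHom A).range = 1 := by
        have h5 : (⟨conjHom A x, x, rfl⟩ : (conjHom A).range) ^ Nat.card (conjHom A).range = 1 :=
          pow_card_eq_one'
        simpa using congrArg Subtype.val h5
      have hcop : Nat.Coprime (2 ^ k) (Nat.card (conjHom A).range) :=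
        Nat.Coprime.pow_left k ((Nat.Prime.coprime_iff_not_dvd Nat.prime_two).mpr h2)
      have h6 := orderOf_dvd_of_pow_eq_one h3
      have h7 := orderOf_dvd_of_pow_eq_one h4
      have h8 : orderOf (conjHom A x) = 1 := Nat.eq_one_of_dvd_coprimes hcop h6 h7
      exact orderOf_eq_one_iff.mp h8
    have hPc : IsCyclic (P : Subgroup G) :=
      abelian_isCyclic hf (P : Subgroup G) (fun a ha b hb => hAc a (hPA ha) b (hPA hb))
    exact HupT.cyclic_sylow_index_two hG2 P hPc

/-- **Huppert, metacyclic case**. -/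
theorem d1 [Finite G] {ρ : G →* (V ≃ₗ[ZMod p] V)} (hf : IsFpf ρ)
    (ht : IsTrans ρ) (A : Subgroup G) [A.Normal] (hAc : ∀ a ∈ A, ∀ b ∈ A, a * b = b * a)
    (hCA : centralizer (A : Set G) = A) :
    (∃ (F : Type) (_ : Field F) (_ : Fintype F) (e : V ≃+ F),
        ∀ g : G, ∃ (a : F) (σ : F ≃+* F), ∀ v : V, e (ρ g v) = a * σ (e v)) ∧
    (p ≠ 2 → ∃ N : Subgroup G, N.Normal ∧ N.index = 2) := by
  refine ⟨?_, fun hp2 => index_two_of_self_centralizing hf ht hp2 A hAc hCA⟩
  obtain ⟨R, hR1, hR2, φ, hφ⟩ :=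
    HupF.exists_field ρ A hAc (irr_of_self_centralizing hf ht A hAc hCA)
  exact HupT.field_transport (fun (g : G) (v : V) => ρ g v) R φ hφ

end Cfsg.Agent.Lib.Helper12.HupA
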