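import Mathlib
import Cfsg.Agent.Lib.Helper12.FpfLin
import Cfsg.Agent.Lib.Helper12.NearJ
import Cfsg.Agent.Lib.Helper12.HupT
import Cfsg.Agent.Lib.Helper12.HupF
import Cfsg.Agent.Lib.Helper12.HupA
import Cfsg.Agent.Lib.Helper12.HupI

/-!
# Huppert's theorem for transitive linear groups: the metacyclic case (helper12)

`G` faithful on `V`, transitive on the non-zero vectors, with a self-centralizing abelian normal
subgroup `A`: then `V` is a one-dimensional semilinear space.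
-/

set_option autoImplicit false

namespace Cfsg.Agent.Lib.Helper12.HupE

open Subgroup
open Cfsg.Agent.Lib.Helper12.FpfLin
open Cfsg.Agent.Lib.Helper12.NearJ

variable {p : ℕ} [Fact p.Prime] {V : Type*} [AddCommGroup V] [Module (ZMod p) V] [Finite V]
  [Nontrivial V]
variable {G : Type*} [Group G]

/-- `|V| ≤ |G| + 1` for a group transitive on the non-zero vectors. -/
theorem card_le_of_trans [Finite G] {ρ : G →* (V ≃ₗ[ZMod p] V)} (ht : IsTrans ρ) :
    Nat.card V ≤ Nat.card G + 1 := by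
  classical
  obtain ⟨v₀, hv₀⟩ := exists_ne (0 : V)
  have hsurj : Function.Surjective (fun g : G =>
      (⟨ρ g v₀, fun h0 => hv₀ (by simpa using h0)⟩ : {v : V // v ≠ 0})) := by
    rintro ⟨w, hw⟩
    obtain ⟨g, hg⟩ := ht v₀ w hv₀ hw
    exact ⟨g, Subtype.ext hg⟩
  have h1 := Nat.card_le_card_of_surjective _ hsurj
  have h2 : Nat.card {v : V // v ≠ 0} + 1 = Nat.card V := by
    rw [← Finite.card_option, Nat.card_congr (Equiv.optionSubtypeNe (0 : V))]
  omega

/-- The restriction of the representation to an abelian normal subgroup is fixed-point-free. -/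
theorem fpf_restrict [Finite G] {ρ : G →* (V ≃ₗ[ZMod p] V)} (hinj : Function.Injective ρ)
    (ht : IsTrans ρ) (A : Subgroup G) [A.Normal] (hAc : ∀ a ∈ A, ∀ b ∈ A, a * b = b * a) :
    IsFpf (ρ.comp A.subtype) := by
  intro a ha v hv
  exact HupI.abelian_normal_fpf hinj ht A hAc (a : G) a.2 (fun h => ha (Subtype.ext h)) v hv

/-- An abelian normal subgroup of a transitive linear group is cyclic. -/
theorem cyclic_of_abelian_normal [Finite G] {ρ : G →* (V ≃ₗ[ZMod p] V)}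
    (hinj : Function.Injective ρ) (ht : IsTrans ρ) (A : Subgroup G) [A.Normal]
    (hAc : ∀ a ∈ A, ∀ b ∈ A, a * b = b * a) : IsCyclic A := by
  have hf := fpf_restrict hinj ht A hAc
  have h := abelian_isCyclic hf (⊤ : Subgroup A)
    (fun a _ b _ => Subtype.ext (hAc a a.2 b b.2))
  exact isCyclic_of_surjective (Subgroup.topEquiv : (⊤ : Subgroup A) ≃* A)
    (Subgroup.topEquiv : (⊤ : Subgroup A) ≃* A).surjective

/-- A self-centralizing abelian normal subgroup of a transitive linear group acts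
irreducibly. -/
theorem irr_of_self_centralizing [Finite G] {ρ : G →* (V ≃ₗ[ZMod p] V)}
    (hinj : Function.Injective ρ) (ht : IsTrans ρ) (A : Subgroup G) [A.Normal]
    (hAc : ∀ a ∈ A, ∀ b ∈ A, a * b = b * a)
    (hCA : centralizer (A : Set G) = A) (W : Submodule (ZMod p) V) (hW : Inv ρ A W) :
    W = ⊥ ∨ W = ⊤ := by
  classical
  by_contra hcon
  push Not at hcon
  obtain ⟨hW0, hWtop⟩ := hcon
  obtain ⟨W₁, hle, h1⟩ := exists_minInv ρ A W hW0 hW
  have hW₁top : W₁ ≠ ⊤ := by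
    intro e
    apply hWtop
    rw [eq_top_iff, ← e]
    exact hle
  obtain ⟨w₀, hw₀, hw₀0⟩ := Submodule.exists_mem_ne_zero_of_ne_bot h1.1
  obtain ⟨u, hu⟩ : ∃ u : V, u ∉ W₁ := by
    by_contra hall
    push Not at hall
    exact hW₁top (eq_top_iff.mpr (fun v _ => hall v))
  have hu0 : u ≠ 0 := fun e => hu (e ▸ W₁.zero_mem)
  obtain ⟨g, hg⟩ := ht w₀ u hw₀0 hu0
  have h2 := h1.map g
  have hne : W₁ ≠ W₁.map (ρ g : V →ₗ[ZMod p] V) := by
    intro e
    apply hu
    rw [e]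
    exact ⟨w₀, hw₀, hg⟩
  have hdisj : W₁ ⊓ W₁.map (ρ g : V →ₗ[ZMod p] V) = ⊥ := by
    rcases h1.eq_or_disjoint h2 with h | h
    · exact absurd h hne
    · exact h
  have c1 : Nat.card W₁ * Nat.card W₁ ≤ Nat.card V := by
    rw [← Nat.card_prod]
    apply Nat.card_le_card_of_injective (fun x : W₁ × W₁ => (x.1 : V) + ρ g (x.2 : V))
    rintro ⟨a, b⟩ ⟨a', b'⟩ hab
    have hab' : (a : V) + ρ g (b : V) = (a' : V) + ρ g (b' : V) := hab
    have h3 : (a : V) - (a' : V) = ρ g ((b' : V) - (b : V)) := by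
      rw [map_sub, sub_eq_sub_iff_add_eq_add, hab', add_comm]
    have h4 : (a : V) - (a' : V) ∈ W₁ ⊓ W₁.map (ρ g : V →ₗ[ZMod p] V) := by
      refine ⟨W₁.sub_mem a.2 a'.2, ?_⟩
      rw [h3]
      exact ⟨(b' : V) - (b : V), W₁.sub_mem b'.2 b.2, rfl⟩
    rw [hdisj, Submodule.mem_bot] at h4
    have h5 : ρ g ((b' : V) - (b : V)) = 0 := by rw [← h3, h4]
    have h6 : (b' : V) - (b : V) = 0 := (LinearEquiv.map_eq_zero_iff _).mp h5
    exact Prod.ext (Subtype.ext (sub_eq_zero.mp h4)) (Subtype.ext (sub_eq_zero.mp h6).symm)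
  have hW₁card : 2 ≤ Nat.card W₁ := by
    have : Nontrivial W₁ := ⟨⟨⟨w₀, hw₀⟩, 0, fun h => hw₀0 (congrArg Subtype.val h)⟩⟩
    exact Finite.one_lt_card
  have c2 : Nat.card A ∣ Nat.card W₁ - 1 :=
    fpf_dvd_sub (fpf_restrict hinj ht A hAc) W₁ (fun a w hw => h1.2.1 a a.2 w hw)
  have c2' : Nat.card A ≤ Nat.card W₁ - 1 := Nat.le_of_dvd (by omega) c2
  haveI : IsCyclic A := cyclic_of_abelian_normal hinj ht A hAc
  have c3 := HupA.index_le_card A hCA
  have c4 := card_le_of_trans (G := G) ht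
  have c5 : Nat.card G = A.index * Nat.card A := by rw [mul_comm]; exact (A.card_mul_index).symm
  have c6 : Nat.card G ≤ (Nat.card W₁ - 1) * (Nat.card W₁ - 1) := by
    rw [c5]
    exact Nat.mul_le_mul (c3.trans c2') c2'
  obtain ⟨k, hk⟩ : ∃ k, Nat.card W₁ = k + 2 := ⟨Nat.card W₁ - 2, by omega⟩
  rw [hk] at c1 c6
  have h7 : (k + 2) * (k + 2) ≤ (k + 2 - 1) * (k + 2 - 1) + 1 := by
    calc (k + 2) * (k + 2) ≤ Nat.card V := c1
      _ ≤ Nat.card G + 1 := c4
      _ ≤ (k + 2 - 1) * (k + 2 - 1) + 1 := Nat.add_le_add_right c6 1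
  have h8 : k + 2 - 1 = k + 1 := by omega
  rw [h8] at h7
  nlinarith

/-- **Huppert, transitive case, metacyclic branch**. -/
theorem easy_case [Finite G] {ρ : G →* (V ≃ₗ[ZMod p] V)} (hinj : Function.Injective ρ)
    (ht : IsTrans ρ) (A : Subgroup G) [A.Normal] (hAc : ∀ a ∈ A, ∀ b ∈ A, a * b = b * a)
    (hCA : centralizer (A : Set G) = A) :
    ∃ (F : Type) (_ : Field F) (_ : Fintype F) (e : V ≃+ F),
        ∀ g : G, ∃ (a : F) (σ : F ≃+* F), ∀ v : V, e (ρ g v) = a * σ (e v) := by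
  obtain ⟨R, hR1, hR2, φ, hφ⟩ :=
    HupF.exists_field ρ A hAc (irr_of_self_centralizing hinj ht A hAc hCA)
  exact HupT.field_transport (fun (g : G) (v : V) => ρ g v) R φ hφ

end Cfsg.Agent.Lib.Helper12.HupE
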