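import Mathlib
import Cfsg.Agent.S2904
import Cfsg.Agent.Lib.Helper66.HupPieces
import Cfsg.Agent.Lib.Helper63.HupArith
import Cfsg.Agent.Lib.Helper41.HupP9
import Cfsg.Agent.Lib.Helper32.HupP3
import Cfsg.Agent.Lib.Helper32.HupP4
import Cfsg.Agent.Lib.Helper95.HupP5
import Cfsg.Agent.Lib.Helper30.HupP8
import Cfsg.Agent.Lib.Helper30.HupP11

/-!
# Huppert's theorem for transitive solvable linear groups: the group-theoretic core (helper12)

`Data G p f d N A Z` records the configuration reached in the non-metacyclic case: `N` is a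
normal subgroup of class two with centre `Z`, of index `d ^ 2` over its centre, `A = C_G(N)` is
cyclic of order dividing `p ^ f - 1`, and `p ^ (f * d) - 1` divides `|G|`.
-/

set_option autoImplicit false
set_option linter.unusedSectionVars false
set_option linter.style.haveILetI false

namespace Cfsg.Agent.Lib.Helper12.HupC

open Subgroup
open Cfsg.Agent.Lib.Helper32.HupP3 Cfsg.Agent.Lib.Helper32.HupP4 Cfsg.Agent.Lib.Helper95.HupP5
open Cfsg.Agent.Lib.Helper30.HupP8 Cfsg.Agent.Lib.Helper30.HupP11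

/-- The order of an intermediate subgroup. -/
theorem card_eq_mul_relIndex {G : Type*} [Group G] {H K : Subgroup G} (h : H ≤ K) :
    Nat.card K = Nat.card H * H.relIndex K := by
  have := relIndex_mul_relIndex ⊥ H K bot_le h
  rw [relIndex_bot_left, relIndex_bot_left] at this
  exact this.symm

/-- The configuration of the non-metacyclic case. -/
structure Data (G : Type*) [Group G] (p f d : ℕ) (N A Z : Subgroup G) : Prop where
  hp : p.Prime
  hd : 2 ≤ d
  hf : 1 ≤ f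
  hG : p ^ (f * d) - 1 ∣ Nat.card G
  hNn : N.Normal
  hAn : A.Normal
  hZn : Z.Normal
  hZ : ∀ z : G, z ∈ Z ↔ z ∈ N ∧ ∀ y ∈ N, y * z = z * y
  hAN : ∀ a ∈ A, ∀ y ∈ N, a * y = y * a
  hCN : ∀ g : G, (∀ y ∈ N, g * y = y * g) → g ∈ A
  hcl : ∀ a ∈ N, ∀ b ∈ N, a * b * a⁻¹ * b⁻¹ ∈ Z
  hAcyc : IsCyclic A
  hAcard : Nat.card A ∣ p ^ f - 1
  hidx : Z.relIndex N = d ^ 2
  hNcard : ∃ r m : ℕ, r.Prime ∧ Nat.card N = r ^ m

namespace Data

variable {G : Type*} [Group G] [Finite G] {p f d : ℕ} {N A Z : Subgroup G}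

theorem Z_le_N (D : Data G p f d N A Z) : Z ≤ N := fun z hz => ((D.hZ z).1 hz).1

theorem Z_le_A (D : Data G p f d N A Z) : Z ≤ A := fun z hz =>
  D.hCN z (fun y hy => (((D.hZ z).1 hz).2 y hy).symm)

theorem mem_Z_iff (D : Data G p f d N A Z) (z : G) : z ∈ Z ↔ z ∈ A ∧ z ∈ N := by
  constructor
  · intro hz
    exact ⟨D.Z_le_A hz, D.Z_le_N hz⟩
  · rintro ⟨hzA, hzN⟩
    exact (D.hZ z).2 ⟨hzN, fun y hy => (D.hAN z hzA y hy).symm⟩

theorem card_N (D : Data G p f d N A Z) : Nat.card N = Nat.card Z * d ^ 2 := by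
  rw [card_eq_mul_relIndex D.Z_le_N, D.hidx]

theorem card_Z_dvd (D : Data G p f d N A Z) : Nat.card Z ∣ p ^ f - 1 :=
  (Subgroup.card_dvd_of_le D.Z_le_A).trans D.hAcard

theorem d_sq_ge (D : Data G p f d N A Z) : 4 ≤ d ^ 2 := by
  have := D.hd
  nlinarith

/-- The centralizer in `N` of an element centralizing `Z`. -/
theorem cent_card (D : Data G p f d N A Z) (y : G) (hy : ∀ z ∈ Z, y * z = z * y) :
    ∃ i : ℕ, i ∣ d ^ 2 ∧ Nat.card (N ⊓ centralizer {y} : Subgroup G) = Nat.card Z * i ∧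
      (i = d ^ 2 → y ∈ A) := by
  have hZH : Z ≤ N ⊓ centralizer {y} := by
    intro z hz
    refine ⟨D.Z_le_N hz, mem_centralizer_iff.mpr ?_⟩
    intro h hh
    rw [Set.mem_singleton_iff] at hh
    rw [hh]
    exact hy z hz
  have hHN : N ⊓ centralizer {y} ≤ N := inf_le_left
  refine ⟨Z.relIndex (N ⊓ centralizer {y}), ?_, card_eq_mul_relIndex hZH, ?_⟩
  · rw [← D.hidx]
    exact ⟨_, (relIndex_mul_relIndex Z _ N hZH hHN).symm⟩
  · intro hi
    have hcard : Nat.card N ≤ Nat.card (N ⊓ centralizer {y} : Subgroup G) := by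
      rw [card_eq_mul_relIndex hZH, hi, D.card_N]
    have hEq : N ⊓ centralizer {y} = N := Subgroup.eq_of_le_of_card_ge hHN hcard
    apply D.hCN
    intro n hn
    have hn' : n ∈ N ⊓ centralizer {y} := by rw [hEq]; exact hn
    exact mem_centralizer_iff.mp hn'.2 y rfl

/-- `N` is an `r`-group, `r` divides `|Z|` and `d ^ 2` is a power of `r`. -/
theorem r_data (D : Data G p f d N A Z) :
    ∃ r : ℕ, r.Prime ∧ r ∣ Nat.card Z ∧ ∃ j : ℕ, d ^ 2 = r ^ j := by
  obtain ⟨r, m, hr, hN⟩ := D.hNcard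
  have hcard := D.card_N
  rw [hN] at hcard
  have h1 : d ^ 2 ∣ r ^ m := ⟨Nat.card Z, by rw [hcard, mul_comm]⟩
  have h2 : Nat.card Z ∣ r ^ m := ⟨d ^ 2, hcard⟩
  obtain ⟨j, -, hj⟩ := (Nat.dvd_prime_pow hr).1 h1
  obtain ⟨a, -, ha⟩ := (Nat.dvd_prime_pow hr).1 h2
  refine ⟨r, hr, ?_, j, hj⟩
  rcases Nat.eq_zero_or_pos a with ha0 | ha0
  · exfalso
    rw [ha0, pow_zero] at ha
    have hbot : Z = ⊥ := Subgroup.eq_bot_of_card_eq Z ha
    have hNZ : N ≤ Z := by
      intro n hn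
      rw [D.hZ]
      refine ⟨hn, fun y hy => ?_⟩
      have h := D.hcl y hy n hn
      rw [hbot, Subgroup.mem_bot] at h
      have h3 : y * n * y⁻¹ = n := by
        have := congrArg (fun t => t * n) h
        simpa using this
      have h4 := congrArg (fun t => t * y) h3
      simpa using h4
    have h5 := (relIndex_eq_one (H := Z) (K := N)).2 hNZ
    rw [D.hidx] at h5
    have := D.d_sq_ge
    omega
  · rw [ha]
    exact dvd_pow_self r (by omega)

/-- `|N A| = |A| d²`. -/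
theorem sup_card (D : Data G p f d N A Z) :
    Nat.card (N ⊔ A : Subgroup G) = Nat.card A * d ^ 2 := by
  haveI := D.hAn
  have hinf : A ⊓ N = Z := by
    ext z
    rw [Subgroup.mem_inf, D.mem_Z_iff]
  have h1 : A.relIndex (A ⊔ N) = d ^ 2 := by
    rw [relIndex_sup_left, ← inf_relIndex_right, hinf, D.hidx]
  rw [sup_comm, card_eq_mul_relIndex (le_sup_left : A ≤ A ⊔ N), h1]

theorem isCyclic_Z (D : Data G p f d N A Z) : IsCyclic Z := by
  haveI := D.hAcyc
  exact isCyclic_of_surjective (Subgroup.subgroupOfEquivOfLe D.Z_le_A)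
    (Subgroup.subgroupOfEquivOfLe D.Z_le_A).surjective

/-- An element centralizing `Z` and acting trivially on `N / Z` lies in `N A`. -/
theorem mem_sup_of (D : Data G p f d N A Z) (g : G) (hgZ : ∀ z ∈ Z, g * z = z * g)
    (hgN : ∀ y ∈ N, g * y * g⁻¹ * y⁻¹ ∈ Z) : g ∈ N ⊔ A := by
  haveI := D.hNn
  obtain ⟨t, ht, htg⟩ := exists_mem_mul_centralizer N Z
    (fun z => by rw [D.hZ]) D.isCyclic_Z D.hcl g hgZ hgN
  have hA : t⁻¹ * g ∈ A := D.hCN _ htg
  have : g = t * (t⁻¹ * g) := by group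
  rw [this]
  exact Subgroup.mul_mem _ (Subgroup.mem_sup_left ht) (Subgroup.mem_sup_right hA)

theorem comm_mem_of_mem_sup (D : Data G p f d N A Z) (g : G) (hg : g ∈ N ⊔ A) :
    ∀ y ∈ N, g * y * g⁻¹ * y⁻¹ ∈ Z := by
  haveI := D.hNn
  intro y hy
  have hg' : g ∈ ((N ⊔ A : Subgroup G) : Set G) := hg
  rw [Subgroup.normal_mul] at hg'
  obtain ⟨t, ht, a, ha, rfl⟩ := Set.mem_mul.mp hg'
  have h1 : t * a * y * (t * a)⁻¹ * y⁻¹ = t * y * t⁻¹ * y⁻¹ := by
    have h2 : a * y * a⁻¹ = y := by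
      rw [D.hAN a ha y hy]
      group
    calc t * a * y * (t * a)⁻¹ * y⁻¹ = t * (a * y * a⁻¹) * t⁻¹ * y⁻¹ := by group
      _ = t * y * t⁻¹ * y⁻¹ := by rw [h2]
  rw [h1]
  exact D.hcl t ht y hy


/-- When `A` is central, `G / N A` embeds in `Aut (N / Z)`. -/
theorem index_dvd [N.Normal] [Z.Normal] (D : Data G p f d N A Z)
    (hAcen : ∀ g : G, ∀ a ∈ A, g * a = a * g) :
    (N ⊔ A : Subgroup G).index ∣ Nat.card (MulAut (↥N ⧸ Z.subgroupOf N)) := by
  apply Cfsg.Agent.Lib.Helper41.HupP9.index_dvd_card_mulAut N Z (N ⊔ A)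
  intro g
  constructor
  · exact D.comm_mem_of_mem_sup g
  · intro h
    exact D.mem_sup_of g (fun z hz => hAcen g z (D.Z_le_A hz)) h

theorem card_G (D : Data G p f d N A Z) :
    Nat.card G = Nat.card A * d ^ 2 * (N ⊔ A : Subgroup G).index := by
  rw [← D.sup_card, Subgroup.card_mul_index]

theorem two_dvd (D : Data G p 1 d N A Z) (k : ℕ) (hk : 1 ≤ k) (hdk : d = 2 ^ k) : 2 ∣ p - 1 := by
  obtain ⟨r, hr, hrZ, j, hj⟩ := D.r_data
  have h2 : 2 ∣ r ^ j := by
    rw [← hj, hdk, ← pow_mul]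
    exact dvd_pow_self 2 (by omega)
  have hr2 : r = 2 :=
    ((Nat.prime_dvd_prime_iff_eq Nat.prime_two hr).1 (Nat.prime_two.dvd_of_dvd_pow h2)).symm
  rw [hr2] at hrZ
  have := hrZ.trans D.card_Z_dvd
  simpa using this

theorem orderOf_dvd_of_mem {H : Subgroup G} {y : G} (hy : y ∈ H) : orderOf y ∣ Nat.card H := by
  have := orderOf_dvd_natCard (⟨y, hy⟩ : H)
  rwa [Subgroup.orderOf_mk] at this

/-- Primes dividing `p ^ d - 1` but not `p - 1` divide some `2 ^ c - 1`. -/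
theorem pl (D : Data G p 1 d N A Z) (hAcen : ∀ g : G, ∀ a ∈ A, g * a = a * g) (k : ℕ)
    (hk : 1 ≤ k) (hdk : d = 2 ^ k) (s : ℕ) (hs : s.Prime) (hsd : s ∣ p ^ d - 1)
    (hsp : ¬ s ∣ p - 1) : ∃ c, 1 ≤ c ∧ c ≤ 2 * k ∧ s ∣ 2 ^ c - 1 := by
  haveI := D.hNn
  haveI : Fact s.Prime := ⟨hs⟩
  have hG : p ^ d - 1 ∣ Nat.card G := by simpa using D.hG
  have hsG : s ∣ Nat.card G := hsd.trans hG
  obtain ⟨y, hy⟩ := exists_prime_orderOf_dvd_card' s hsG
  have hys : y ^ s = 1 := by rw [← hy]; exact pow_orderOf_eq_one y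
  have hZp : Nat.card Z ∣ p - 1 := by simpa using D.card_Z_dvd
  have hAp : Nat.card A ∣ p - 1 := by simpa using D.hAcard
  obtain ⟨i, hi, hcard, hiA⟩ := D.cent_card y (fun z hz => hAcen y z (D.Z_le_A hz))
  have hmod := card_modEq_card_centralizer N y s hs hys
  rw [hcard, D.card_N] at hmod
  have hd2 : d ^ 2 = 2 ^ (2 * k) := by rw [hdk, ← pow_mul, mul_comm]
  rw [hd2] at hi hmod hiA
  obtain ⟨b, hb, rfl⟩ := (Nat.dvd_prime_pow Nat.prime_two).1 hi
  have hbne : b ≠ 2 * k := by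
    intro hb'
    have hyA := hiA (by rw [hb'])
    have h1 := orderOf_dvd_of_mem hyA
    rw [hy] at h1
    exact hsp (h1.trans hAp)
  have hblt : b < 2 * k := lt_of_le_of_ne hb hbne
  have hdvd : s ∣ Nat.card Z * 2 ^ (2 * k) - Nat.card Z * 2 ^ b :=
    (Nat.modEq_iff_dvd' (Nat.mul_le_mul_left _
      (Nat.pow_le_pow_right (by norm_num) hb))).1 hmod.symm
  have hfac : Nat.card Z * 2 ^ (2 * k) - Nat.card Z * 2 ^ b
      = Nat.card Z * 2 ^ b * (2 ^ (2 * k - b) - 1) := by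
    have h1 : 2 ^ (2 * k) = 2 ^ b * 2 ^ (2 * k - b) := by
      rw [← pow_add]; congr 1; omega
    rw [h1, Nat.mul_sub, mul_one, mul_assoc]
  rw [hfac] at hdvd
  have hsZ : ¬ s ∣ Nat.card Z := fun h => hsp (h.trans hZp)
  have hs2 : s ≠ 2 := by
    intro h2
    apply hsp
    rw [h2]
    exact D.two_dvd k hk hdk
  refine ⟨2 * k - b, by omega, by omega, ?_⟩
  rcases hs.dvd_mul.1 hdvd with h | h
  · exfalso
    rcases hs.dvd_mul.1 h with h' | h'
    · exact hsZ h'
    · exact hs2 ((Nat.prime_dvd_prime_iff_eq hs Nat.prime_two).1 (hs.dvd_of_dvd_pow h'))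
  · exact h

/-- The case `d = 4`: if `5 ∤ p - 1` then `25 ∤ p ^ 4 - 1`. -/
theorem h25 (D : Data G p 1 4 N A Z) (hAcen : ∀ g : G, ∀ a ∈ A, g * a = a * g) :
    ¬ 5 ∣ p - 1 → ¬ 25 ∣ p ^ 4 - 1 := by
  intro h5 h25
  haveI := D.hNn
  haveI := D.hZn
  haveI : Fact (Nat.Prime 5) := ⟨by norm_num⟩
  have hG : p ^ 4 - 1 ∣ Nat.card G := by simpa using D.hG
  have hG' : 5 ^ 2 ∣ Nat.card G := by
    have := h25.trans hG
    simpa using this
  obtain ⟨P, hP⟩ := Sylow.exists_subgroup_card_pow_prime 5 hG'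
  have hZp : Nat.card Z ∣ p - 1 := by simpa using D.card_Z_dvd
  have hAp : Nat.card A ∣ p - 1 := by simpa using D.hAcard
  have h5Z : ¬ 5 ∣ Nat.card Z := fun h => h5 (h.trans hZp)
  have hfree : ∀ y ∈ P, y ≠ 1 → ∀ t ∈ N, y * t = t * y → t ∈ Z := by
    intro y hyP hy1 t ht hyt
    have ho : orderOf y ∣ 5 ^ 2 := by
      have := orderOf_dvd_of_mem hyP
      rwa [hP] at this
    have ho1 : orderOf y ≠ 1 := fun h => hy1 (orderOf_eq_one_iff.mp h)
    have h5o : 5 ∣ orderOf y := by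
      obtain ⟨e, he, heq⟩ := (Nat.dvd_prime_pow (by norm_num : Nat.Prime 5)).1 ho
      rw [heq]
      rcases Nat.eq_zero_or_pos e with h0 | h0
      · rw [h0, pow_zero] at heq; exact absurd heq ho1
      · exact dvd_pow_self 5 (by omega)
    have hopos : orderOf y ≠ 0 := by
      intro h
      rw [h] at ho
      simp at ho
    obtain ⟨y', hy'⟩ : ∃ y' : G, y' = y ^ (orderOf y / 5) := ⟨_, rfl⟩
    have hoy' : orderOf y' = 5 := by rw [hy']; exact orderOf_pow_orderOf_div hopos h5o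
    have hy'5 : y' ^ 5 = 1 := by rw [← hoy']; exact pow_orderOf_eq_one y'
    have hy'Z : ∀ z ∈ Z, y' * z = z * y' := fun z hz => hAcen y' z (D.Z_le_A hz)
    obtain ⟨i, hi, hcard, hiA⟩ := D.cent_card y' hy'Z
    have hmod := card_modEq_card_centralizer N y' 5 (by norm_num) hy'5
    rw [hcard, D.card_N] at hmod
    have hi16 : i ∣ 16 := by simpa using hi
    have hine : i ≠ 16 := by
      intro h16
      have hyA := hiA (by rw [h16]; norm_num)
      have h1 := orderOf_dvd_of_mem hyA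
      rw [hoy'] at h1
      exact h5 (h1.trans hAp)
    have hile : i ≤ 16 := Nat.le_of_dvd (by norm_num) hi16
    have hi1 : i = 1 := by
      have hdvd : 5 ∣ Nat.card Z * 4 ^ 2 - Nat.card Z * i :=
        (Nat.modEq_iff_dvd' (Nat.mul_le_mul_left _ (by norm_num; exact hile))).1 hmod.symm
      have hfac : Nat.card Z * 4 ^ 2 - Nat.card Z * i = Nat.card Z * (16 - i) := by
        rw [Nat.mul_sub]; norm_num
      rw [hfac] at hdvd
      have h5' : 5 ∣ 16 - i :=
        ((Nat.Prime.dvd_mul (by norm_num)).1 hdvd).resolve_left h5Z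
      interval_cases i <;> omega
    have hH : (N ⊓ centralizer {y'} : Subgroup G) = Z := by
      symm
      apply Subgroup.eq_of_le_of_card_ge
      · intro z hz
        refine ⟨D.Z_le_N hz, mem_centralizer_iff.mpr ?_⟩
        intro h hh
        rw [Set.mem_singleton_iff] at hh
        rw [hh]
        exact hy'Z z hz
      · rw [hcard, hi1, mul_one]
    rw [← hH]
    refine ⟨ht, mem_centralizer_iff.mpr ?_⟩
    intro h hh
    rw [Set.mem_singleton_iff] at hh
    rw [hh, hy']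
    exact (Commute.pow_left (show Commute y t from hyt) _).eq
  have hdvd := card_dvd_sub_of_free N Z P D.Z_le_N hfree
  rw [hP, D.card_N] at hdvd
  have hfac : Nat.card Z * 4 ^ 2 - Nat.card Z = Nat.card Z * 3 * 5 := by omega
  rw [hfac] at hdvd
  have h2 : 5 ∣ Nat.card Z * 3 :=
    Nat.dvd_of_mul_dvd_mul_right (by norm_num : 0 < 5) (by simpa using hdvd)
  exact h5Z (((Nat.Prime.dvd_mul (by norm_num)).1 h2).resolve_right (by norm_num))

/-- The endgame: `f = 1`, `d = 2 ^ k`. -/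
theorem endgame (D : Data G p 1 d N A Z) (hAcen : ∀ g : G, ∀ a ∈ A, g * a = a * g) (k : ℕ)
    (hk : 1 ≤ k) (hdk : d = 2 ^ k) (hpr : k = 1 ∨ (2 ^ k + 1).Prime) :
    p ^ d ∈ ({9, 25, 49, 121, 529, 81} : Set ℕ) := by
  haveI := D.hNn
  haveI := D.hZn
  have hp := D.hp
  have h2 := D.two_dvd k hk hdk
  have hodd : p ≠ 2 := by
    intro h
    rw [h] at h2
    norm_num at h2
  have hp3 : 3 ≤ p := by
    have := hp.two_le
    omega
  have hG : p ^ d - 1 ∣ Nat.card G := by simpa using D.hG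
  have hAp : Nat.card A ∣ p - 1 := by simpa using D.hAcard
  have hidx := D.index_dvd hAcen
  have hcardG := D.card_G
  have hq : Nat.card (↥N ⧸ Z.subgroupOf N) = d ^ 2 := D.hidx
  have hd2 : d ^ 2 = 2 ^ (2 * k) := by rw [hdk, ← pow_mul, mul_comm]
  haveI : Finite (MulAut (↥N ⧸ Z.subgroupOf N)) :=
    Finite.of_injective (fun e : MulAut (↥N ⧸ Z.subgroupOf N) =>
      (e : ↥N ⧸ Z.subgroupOf N → ↥N ⧸ Z.subgroupOf N)) DFunLike.coe_injective
  by_cases hk1 : k = 1
  · subst hk1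
    have hd : d = 2 := by rw [hdk]; norm_num
    subst hd
    have h6 : Nat.card (MulAut (↥N ⧸ Z.subgroupOf N)) ∣ 6 :=
      Cfsg.Agent.Lib.Helper66.HupPieces.card_mulAut_dvd_six (by rw [hq]; norm_num)
    have h1 : Nat.card G ∣ (p - 1) * 4 * 6 := by
      rw [hcardG]
      exact Nat.mul_dvd_mul (Nat.mul_dvd_mul hAp (by norm_num)) (hidx.trans h6)
    have h3 : p ^ 2 - 1 ∣ (p - 1) * 24 := by
      have := hG.trans h1
      rwa [mul_assoc] at this
    exact arith_k1 p hp hodd h3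
  · have hpr' : (2 ^ k + 1).Prime := hpr.resolve_left hk1
    by_cases hk8 : 8 ≤ k
    · exfalso
      have hle := Cfsg.Agent.Lib.Helper66.HupPieces.card_mulAut_le_pow
        (E := ↥N ⧸ Z.subgroupOf N) (2 * k) (by rw [hq, hd2])
      rw [hq, hd2] at hle
      have hidxle : (N ⊔ A : Subgroup G).index ≤ (2 ^ (2 * k)) ^ (2 * k) :=
        (Nat.le_of_dvd Nat.card_pos hidx).trans hle
      have hAle : Nat.card A ≤ p - 1 := Nat.le_of_dvd (by omega) hAp
      have hGle : Nat.card G ≤ (p - 1) * 2 ^ (2 * k) * (2 ^ (2 * k)) ^ (2 * k) := by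
        rw [hcardG, hd2]
        exact Nat.mul_le_mul (Nat.mul_le_mul_right _ hAle) hidxle
      have hlt := Cfsg.Agent.Lib.Helper66.HupPieces.arith_big p k hp3 hk8
      have hGge : p ^ d - 1 ≤ Nat.card G := Nat.le_of_dvd Nat.card_pos hG
      rw [hdk] at hGge
      omega
    · have hk' : k = 2 ∨ k = 3 ∨ k = 4 ∨ k = 5 ∨ k = 6 ∨ k = 7 := by omega
      rcases hk' with rfl | rfl | rfl | rfl | rfl | rfl
      · have hd : d = 4 := by rw [hdk]; norm_num
        subst hd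
        have hp3' : p = 3 := Cfsg.Agent.Lib.Helper63.HupArith.arith_k2 p hp hodd
          (fun s hs hsd hsp => by
            obtain ⟨c, h1, h2, h3⟩ := D.pl hAcen 2 (by norm_num) (by norm_num) s hs hsd hsp
            exact ⟨c, h1, by omega, h3⟩)
          (D.h25 hAcen)
        rw [hp3']
        norm_num
      · exfalso; norm_num at hpr'
      · have hd : d = 16 := by rw [hdk]; norm_num
        subst hd
        exact (Cfsg.Agent.Lib.Helper63.HupArith.arith_k4 p hp hodd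
          (fun s hs hsd hsp => by
            obtain ⟨c, h1, h2, h3⟩ := D.pl hAcen 4 (by norm_num) (by norm_num) s hs hsd hsp
            exact ⟨c, h1, by omega, h3⟩)).elim
      · exfalso; norm_num at hpr'
      · exfalso; norm_num at hpr'
      · exfalso; norm_num at hpr'

/-- The generic step: a primitive prime divisor `ℓ` of `p ^ (f d) - 1` forces `f = 1` and
`ℓ = d + 1`. -/
theorem generic (D : Data G p f d N A Z) {L : Type*} [Field L] [Finite L]
    (hL : Nat.card L = p ^ f) (σ : G →* RingAut L)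
    (hσ : ∀ g, σ g = 1 → ∀ a ∈ A, g * a = a * g)
    (ℓ : ℕ) (hℓ : ℓ.Prime) (hdvd : ℓ ∣ p ^ (f * d) - 1)
    (hprim : ∀ k, 0 < k → k < f * d → ¬ ℓ ∣ p ^ k - 1)
    (hab : ∀ x : G, x ^ ℓ = 1 → x ≠ 1 → ∀ a b : G, a * x = x * a → b * x = x * b →
      a * b = b * a) :
    ℓ = d + 1 ∧ f = 1 := by
  haveI := D.hNn
  haveI : Fact ℓ.Prime := ⟨hℓ⟩
  have hp := D.hp
  have hd := D.hd
  have hf := D.hf
  have hn1 : 1 ≤ f * d := by nlinarith
  obtain ⟨hge, hℓp⟩ := arith_ppd_ge p (f * d) ℓ hp hℓ hn1 hdvd hprim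
  obtain ⟨x, hx⟩ := exists_prime_orderOf_dvd_card' ℓ (hdvd.trans D.hG)
  have hxℓ : x ^ ℓ = 1 := by rw [← hx]; exact pow_orderOf_eq_one x
  have hx1 : x ≠ 1 := by
    intro h
    rw [h, orderOf_one] at hx
    exact hℓ.one_lt.ne hx
  have hflt : f < f * d := by nlinarith
  have hσx : σ x = 1 := by
    apply ringAut_eq_one_of_ppd p f ℓ hp hℓ hL hℓp
      (fun i hi hif => hprim i hi (lt_of_le_of_lt hif hflt))
    rw [← map_pow, hxℓ, map_one]
  have hxA := hσ x hσx
  have hxZ : ∀ z ∈ Z, x * z = z * x := fun z hz => hxA z (D.Z_le_A hz)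
  have hℓZ : ¬ ℓ ∣ Nat.card Z := fun h => hprim f (by omega) hflt (h.trans D.card_Z_dvd)
  have hcop : (Nat.card Z).Coprime ℓ := ((Nat.Prime.coprime_iff_not_dvd hℓ).2 hℓZ).symm
  have hcen := centralizer_le_of_coprime N Z (fun z => by rw [D.hZ]) D.hcl x ℓ hxℓ hcop hxZ
    (fun a _ b _ => hab x hxℓ hx1 a b)
  have hH : (N ⊓ centralizer {x} : Subgroup G) = Z := by
    apply le_antisymm
    · rintro y ⟨hyN, hyc⟩
      exact hcen y hyN (mem_centralizer_iff.mp hyc x rfl).symm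
    · intro z hz
      refine ⟨D.Z_le_N hz, mem_centralizer_iff.mpr ?_⟩
      intro h hh
      rw [Set.mem_singleton_iff] at hh
      rw [hh]
      exact hxZ z hz
  have hmod := card_modEq_card_centralizer N x ℓ hℓ hxℓ
  rw [hH, D.card_N] at hmod
  have hdvd2 : ℓ ∣ Nat.card Z * d ^ 2 - Nat.card Z :=
    (Nat.modEq_iff_dvd' (a := Nat.card Z) (b := Nat.card Z * d ^ 2)
      (Nat.le_mul_of_pos_right _ (by have := D.d_sq_ge; omega))).1 hmod.symm
  have hfac : Nat.card Z * d ^ 2 - Nat.card Z = Nat.card Z * (d ^ 2 - 1) := by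
    rw [Nat.mul_sub, mul_one]
  rw [hfac] at hdvd2
  have hd2 : ℓ ∣ d ^ 2 - 1 := (hℓ.dvd_mul.1 hdvd2).resolve_left hℓZ
  exact arith_ell ℓ d f (f * d) hℓ hd rfl hf hge hd2

/-- The Zsigmondy exception `(p, n) = (2, 6)` does not occur. -/
theorem case26 (D : Data G 2 f d N A Z) (hfd : f * d = 6) : False := by
  haveI := D.hNn
  haveI := D.hZn
  have hd := D.hd
  have hf := D.hf
  obtain ⟨r, hr, hrZ, j, hj⟩ := D.r_data
  have hZ := D.card_Z_dvd
  have hcases : (f = 1 ∧ d = 6) ∨ (f = 2 ∧ d = 3) ∨ (f = 3 ∧ d = 2) := by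
    have hf6 : f ≤ 3 := by nlinarith
    interval_cases f <;> omega
  rcases hcases with ⟨rfl, rfl⟩ | ⟨rfl, rfl⟩ | ⟨rfl, rfl⟩
  · have h1 : r ∣ 1 := hrZ.trans (by simpa using hZ)
    exact hr.one_lt.ne' (Nat.dvd_one.mp h1)
  · have hZ3 : Nat.card Z ∣ 3 := by simpa using hZ
    have hZcard : Nat.card Z = 3 := by
      rcases (Nat.dvd_prime Nat.prime_three).1 hZ3 with h | h
      · rw [h] at hrZ
        exact absurd (Nat.dvd_one.mp hrZ) hr.one_lt.ne'
      · exact h
    haveI : Fact (Nat.Prime 7) := ⟨by norm_num⟩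
    have h7 : 7 ∣ Nat.card G := (by norm_num : 7 ∣ 2 ^ (2 * 3) - 1).trans D.hG
    obtain ⟨y, hy⟩ := exists_prime_orderOf_dvd_card' 7 h7
    have hy7 : y ^ 7 = 1 := by rw [← hy]; exact pow_orderOf_eq_one y
    have hmodZ := card_modEq_card_centralizer Z y 7 (by norm_num) hy7
    have hZle : Nat.card (Z ⊓ centralizer {y} : Subgroup G) ∣ 3 := by
      rw [← hZcard]
      exact Subgroup.card_dvd_of_le inf_le_left
    have hZc : Nat.card (Z ⊓ centralizer {y} : Subgroup G) = 3 := by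
      rcases (Nat.dvd_prime Nat.prime_three).1 hZle with h | h
      · rw [hZcard, h] at hmodZ
        exact absurd hmodZ (by decide)
      · exact h
    have hZeq : (Z ⊓ centralizer {y} : Subgroup G) = Z :=
      Subgroup.eq_of_le_of_card_ge inf_le_left (by rw [hZc, hZcard])
    have hyZ : ∀ z ∈ Z, y * z = z * y := by
      intro z hz
      have hz' : z ∈ Z ⊓ centralizer {y} := by rw [hZeq]; exact hz
      exact mem_centralizer_iff.mp hz'.2 y rfl
    obtain ⟨i, hi, hcard, hiA⟩ := D.cent_card y hyZ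
    have hmod := card_modEq_card_centralizer N y 7 (by norm_num) hy7
    rw [hcard, D.card_N, hZcard] at hmod
    have hi9 : i ∣ 9 := by simpa using hi
    have hile : i ≤ 9 := Nat.le_of_dvd (by norm_num) hi9
    have hi9' : i = 9 := by
      interval_cases i <;>
        first
          | rfl
          | (exfalso; revert hmod; decide)
          | (exfalso; revert hi9; decide)
    have hyA := hiA (by rw [hi9']; norm_num)
    have h1 := orderOf_dvd_of_mem hyA
    rw [hy] at h1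
    have h3 := h1.trans D.hAcard
    norm_num at h3
  · have h2 : r = 2 := by
      have h4 : 2 ∣ r ^ j := by rw [← hj]; norm_num
      exact ((Nat.prime_dvd_prime_iff_eq Nat.prime_two hr).1
        (Nat.prime_two.dvd_of_dvd_pow h4)).symm
    have h7 : r ∣ 7 := hrZ.trans (by simpa using hZ)
    rw [h2] at h7
    norm_num at h7

end Data

/-- A field of prime order has no non-trivial automorphism. -/
theorem ringAut_trivial {L : Type*} [Field L] (p : ℕ) (hp : p.Prime) (hL : Nat.card L = p)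
    (σ : RingAut L) : σ = 1 := by
  haveI : Fact p.Prime := ⟨hp⟩
  apply RingEquiv.ext
  intro c
  have htop : AddSubgroup.zmultiples (1 : L) = ⊤ :=
    zmultiples_eq_top_of_prime_card hL one_ne_zero
  have hc : c ∈ AddSubgroup.zmultiples (1 : L) := by rw [htop]; exact AddSubgroup.mem_top c
  obtain ⟨k, rfl⟩ := AddSubgroup.mem_zmultiples_iff.mp hc
  show σ (k • (1 : L)) = k • (1 : L)
  rw [map_zsmul, map_one]

/-- The group-theoretic core of Huppert's theorem in the non-metacyclic case. -/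
theorem core {G : Type*} [Group G] [Finite G] {p f d : ℕ} {N A Z : Subgroup G}
    (D : Data G p f d N A Z) {L : Type*} [Field L] [Finite L] (hL : Nat.card L = p ^ f)
    (σ : G →* RingAut L) (hσ : ∀ g, σ g = 1 → ∀ a ∈ A, g * a = a * g)
    (hppd : ∀ ℓ : ℕ, ℓ.Prime → ℓ ∣ p ^ (f * d) - 1 →
      (∀ k, 0 < k → k < f * d → ¬ ℓ ∣ p ^ k - 1) →
      ∀ x : G, x ^ ℓ = 1 → x ≠ 1 → ∀ a b : G, a * x = x * a → b * x = x * b → a * b = b * a) :
    p ^ (f * d) ∈ ({9, 25, 49, 121, 529, 81} : Set ℕ) := by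
  have hp := D.hp
  have hd := D.hd
  have hf := D.hf
  have key : f = 1 → ∀ k, 1 ≤ k → d = 2 ^ k → (k = 1 ∨ (2 ^ k + 1).Prime) →
      p ^ (f * d) ∈ ({9, 25, 49, 121, 529, 81} : Set ℕ) := by
    intro hf1 k hk hdk hpr
    subst hf1
    have hAcen : ∀ g : G, ∀ a ∈ A, g * a = a * g := fun g =>
      hσ g (ringAut_trivial p hp (by simpa using hL) (σ g))
    rw [one_mul]
    exact D.endgame hAcen k hk hdk hpr
  by_cases hn2 : f * d = 2
  · have hf1 : f = 1 := by nlinarith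
    have hd2 : d = 2 := by rw [hf1] at hn2; omega
    exact key hf1 1 le_rfl (by rw [hd2]; norm_num) (Or.inl rfl)
  · by_cases h26 : p = 2 ∧ f * d = 6
    · obtain ⟨rfl, hfd⟩ := h26
      exact (D.case26 hfd).elim
    · have hn : 1 < f * d := by nlinarith
      obtain ⟨ℓ, hℓ, hdvd, hprim⟩ :=
        Cfsg.Agent.S2904.result p (f * d) hp.one_lt hn h26 (fun h => hn2 h.1)
      obtain ⟨hℓd, hf1⟩ := D.generic hL σ hσ ℓ hℓ hdvd hprim (hppd ℓ hℓ hdvd hprim)
      obtain ⟨r, hr, hrZ, j, hj⟩ := D.r_data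
      obtain ⟨-, k, hk, hdk⟩ := arith_two d r j hr hd hj (hℓd ▸ hℓ)
      refine key hf1 k hk hdk (Or.inr ?_)
      rw [← hdk, ← hℓd]
      exact hℓ

end Cfsg.Agent.Lib.Helper12.HupC
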