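import Mathlib
import Cfsg.Agent.Lib.Helper12.FpfLin
import Cfsg.Agent.Lib.Helper12.PerfD

/-!
# The field attached to an irreducible normal subgroup (helper12)

If `N` is a normal subgroup of `G` acting irreducibly on the finite `ZMod p`-module `V`, then the
commutant `L` of `N` in `End V` is a finite field, `V` is an `L`-vector space on which `N` acts
`L`-linearly, every additive endomorphism commuting with `N` is a scalar of `L`, and `G` acts
`L`-semilinearly through a homomorphism `G →* RingAut L`.
-/

set_option autoImplicit false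

namespace Cfsg.Agent.Lib.Helper12.HupL

open Cfsg.Agent.Lib.Helper12.FpfLin Cfsg.Agent.Lib.Helper12.PerfD

universe u

variable {p : ℕ} [Fact p.Prime] {V : Type u} [AddCommGroup V] [Module (ZMod p) V] [Finite V]
  [Nontrivial V]
variable {G : Type*} [Group G]

theorem exists_field (ρ : G →* (V ≃ₗ[ZMod p] V)) (N : Subgroup G) [hNn : N.Normal]
    (hirr : ∀ W : Submodule (ZMod p) V, Inv ρ N W → W = ⊥ ∨ W = ⊤) :
    ∃ (L : Type u) (_ : Field L) (_ : Finite L) (_ : Module L V) (σ : G →* RingAut L),
      (∀ n ∈ N, ∀ (c : L) (v : V), ρ n (c • v) = c • ρ n v) ∧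
      (∀ T : V →+ V, (∀ n ∈ N, ∀ v, T (ρ n v) = ρ n (T v)) → ∃ c : L, ∀ v, T v = c • v) ∧
      (∀ (g : G) (c : L) (v : V), ρ g (c • v) = σ g c • ρ g v) := by
  classical
  haveI : Finite (Module.End (ZMod p) V) :=
    Finite.of_injective (fun f : Module.End (ZMod p) V => (f : V → V)) DFunLike.coe_injective
  obtain ⟨T, hT⟩ : ∃ T : G →* Module.End (ZMod p) V, T = toEnd ρ := ⟨_, rfl⟩
  have hTa : ∀ g v, T g v = ρ g v := fun g v => by rw [hT]; rfl
  obtain ⟨K, hK⟩ : ∃ K : Subring (Module.End (ZMod p) V),
      K = Subring.centralizer (T '' (N : Set G)) := ⟨_, rfl⟩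
  have hmem : ∀ x : Module.End (ZMod p) V, x ∈ K ↔ ∀ a ∈ N, x * T a = T a * x := by
    intro x
    rw [hK]
    constructor
    · intro hx a ha
      exact (Subring.mem_centralizer_iff.mp hx (T a) ⟨a, ha, rfl⟩).symm
    · intro hx
      apply Subring.mem_centralizer_iff.mpr
      rintro _ ⟨a, ha, rfl⟩
      exact (hx a ha).symm
  have hinj : ∀ x ∈ K, x ≠ 0 → Function.Injective x := by
    intro x hx hx0
    rw [← LinearMap.ker_eq_bot]
    have hker : Inv ρ N (LinearMap.ker x) := by
      intro a ha w hw
      rw [LinearMap.mem_ker] at hw ⊢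
      have := congrArg (fun e : Module.End (ZMod p) V => e w) ((hmem x).mp hx a ha)
      simp only [Module.End.mul_apply] at this
      rw [← hTa, this, hw, map_zero]
    rcases hirr _ hker with h | h
    · exact h
    · exfalso
      apply hx0
      ext w
      have : w ∈ LinearMap.ker x := by rw [h]; exact Submodule.mem_top
      simpa using this
  haveI : Nontrivial K := by
    refine ⟨⟨0, 1, ?_⟩⟩
    intro h01
    have h1 : (0 : Module.End (ZMod p) V) = 1 := congrArg Subtype.val h01
    obtain ⟨w, hw⟩ := exists_ne (0 : V)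
    have := congrArg (fun e : Module.End (ZMod p) V => e w) h1
    simp at this
    exact hw this.symm
  haveI : NoZeroDivisors K := by
    refine ⟨fun {x y} hxy => ?_⟩
    by_cases hx : x = 0
    · exact Or.inl hx
    · right
      have hx' : (x : Module.End (ZMod p) V) ≠ 0 := fun h => hx (Subtype.ext h)
      apply Subtype.ext
      ext w
      have h2 := congrArg (fun e : K => (e : Module.End (ZMod p) V) w) hxy
      simp only [Subring.coe_mul, Module.End.mul_apply, Subring.coe_zero,
        LinearMap.zero_apply] at h2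
      have := hinj x x.2 hx' (h2.trans (map_zero _).symm)
      simpa using this
  haveI : IsDomain K := NoZeroDivisors.to_isDomain K
  have hfield := Finite.isDomain_to_isField K
  -- conjugation
  have hTinv : ∀ g : G, T g * T g⁻¹ = 1 := fun g => by rw [← map_mul, mul_inv_cancel, map_one]
  have hTinv' : ∀ g : G, T g⁻¹ * T g = 1 := fun g => by rw [← map_mul, inv_mul_cancel, map_one]
  have hconj : ∀ (g : G) (x : Module.End (ZMod p) V), x ∈ K → T g * x * T g⁻¹ ∈ K := by
    intro g x hx
    rw [hmem]
    intro a ha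
    have ha' : g⁻¹ * a * g ∈ N := by
      have := hNn.conj_mem a ha g⁻¹
      rwa [inv_inv] at this
    have h1 : T g⁻¹ * T a = T (g⁻¹ * a * g) * T g⁻¹ := by
      rw [← map_mul, ← map_mul]
      congr 1
      group
    have h2 : T g * T (g⁻¹ * a * g) = T a * T g := by
      rw [← map_mul, ← map_mul]
      congr 1
      group
    calc T g * x * T g⁻¹ * T a = T g * x * (T g⁻¹ * T a) := by rw [mul_assoc]
      _ = T g * (x * T (g⁻¹ * a * g)) * T g⁻¹ := by rw [h1]; simp only [mul_assoc]
      _ = T g * (T (g⁻¹ * a * g) * x) * T g⁻¹ := by rw [(hmem x).mp hx _ ha']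
      _ = (T g * T (g⁻¹ * a * g)) * x * T g⁻¹ := by simp only [mul_assoc]
      _ = T a * (T g * x * T g⁻¹) := by rw [h2]; simp only [mul_assoc]
  let τ₀ : G → K ≃+* K := fun g =>
    { toFun := fun x => ⟨T g * x * T g⁻¹, hconj g x x.2⟩
      invFun := fun x => ⟨T g⁻¹ * x * T g, by
        have := hconj g⁻¹ x x.2
        rwa [inv_inv] at this⟩
      left_inv := fun x => by
        apply Subtype.ext
        show T g⁻¹ * (T g * x * T g⁻¹) * T g = x
        calc T g⁻¹ * (T g * x * T g⁻¹) * T g = (T g⁻¹ * T g) * x * (T g⁻¹ * T g) := by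
              simp only [mul_assoc]
          _ = x := by rw [hTinv', one_mul, mul_one]
      right_inv := fun x => by
        apply Subtype.ext
        show T g * (T g⁻¹ * x * T g) * T g⁻¹ = x
        calc T g * (T g⁻¹ * x * T g) * T g⁻¹ = (T g * T g⁻¹) * x * (T g * T g⁻¹) := by
              simp only [mul_assoc]
          _ = x := by rw [hTinv, one_mul, mul_one]
      map_mul' := fun x y => by
        apply Subtype.ext
        show T g * (x * y) * T g⁻¹ = (T g * x * T g⁻¹) * (T g * y * T g⁻¹)
        calc T g * (x * y) * T g⁻¹ = T g * x * 1 * y * T g⁻¹ := by simp only [mul_assoc, one_mul]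
          _ = (T g * x * T g⁻¹) * (T g * y * T g⁻¹) := by
              rw [← hTinv' g]; simp only [mul_assoc]
      map_add' := fun x y => by
        apply Subtype.ext
        show T g * (x + y) * T g⁻¹ = (T g * x * T g⁻¹) + (T g * y * T g⁻¹)
        rw [mul_add, add_mul] }
  have hτ₀ : ∀ (g : G) (x : K), ((τ₀ g x : K) : Module.End (ZMod p) V) = T g * x * T g⁻¹ :=
    fun g x => rfl
  let τ : G →* RingAut K := MonoidHom.mk' τ₀ (by
    intro g h
    apply RingEquiv.ext
    intro x
    apply Subtype.ext
    show T (g * h) * x * T (g * h)⁻¹ = T g * (T h * x * T h⁻¹) * T g⁻¹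
    rw [mul_inv_rev, map_mul, map_mul]
    simp only [mul_assoc])
  have hτ : ∀ (g : G) (x : K), ((τ g x : K) : Module.End (ZMod p) V) = T g * x * T g⁻¹ :=
    fun g x => rfl
  letI : Field K := hfield.toField
  letI : Module K V := Module.compHom V K.subtype
  have hsmul : ∀ (c : K) (v : V), c • v = (c : Module.End (ZMod p) V) v := fun c v => rfl
  refine ⟨K, inferInstance, inferInstance, inferInstance, τ, ?_, ?_, ?_⟩
  · intro n hn c v
    rw [hsmul, hsmul, ← hTa, ← hTa, ← Module.End.mul_apply, ← Module.End.mul_apply,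
      (hmem c).mp c.2 n hn]
  · intro S hS
    have hSK : (AddMonoidHom.toZModLinearMap p S : Module.End (ZMod p) V) ∈ K := by
      rw [hmem]
      intro n hn
      ext v
      simp only [Module.End.mul_apply]
      rw [hTa, hTa]
      exact hS n hn v
    exact ⟨⟨_, hSK⟩, fun v => rfl⟩
  · intro g c v
    rw [hsmul, hsmul, hτ]
    simp only [Module.End.mul_apply]
    rw [hTa g⁻¹, hTa g, rho_inv_apply]

end Cfsg.Agent.Lib.Helper12.HupL
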