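import Mathlib
import Cfsg.Agent.Lib.Helper12.FpfLin
import Cfsg.Agent.Lib.Helper12.PerfD
import Cfsg.Agent.Lib.Helper12.HupI

/-!
# Elements of primitive prime order have abelian centralizer (helper12)

If `x` has prime order `ℓ`, a primitive prime divisor of `p ^ n - 1` where `|V| = p ^ n`, then
`x` acts irreducibly on `V`, so its centralizer in a faithful linear group is abelian.
-/

set_option autoImplicit false
set_option linter.unusedSectionVars false
set_option linter.style.haveILetI false

namespace Cfsg.Agent.Lib.Helper12.HupP7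

open Cfsg.Agent.Lib.Helper12.FpfLin Cfsg.Agent.Lib.Helper12.PerfD

variable {p : ℕ} [Fact p.Prime] {V : Type*} [AddCommGroup V] [Module (ZMod p) V] [Finite V]
variable {G : Type*} [Group G]

/-- Orbit counting on an invariant subspace. -/
theorem card_modEq_fix (ρ : G →* (V ≃ₗ[ZMod p] V)) (x : G) (ℓ : ℕ) (hℓ : ℓ.Prime)
    (hx : x ^ ℓ = 1) (W : Submodule (ZMod p) V)
    (hW : ∀ m : Subgroup.zpowers x, ∀ w ∈ W, ρ (m : G) w ∈ W) :
    Nat.card W ≡ Nat.card (W ⊓ LinearMap.eqLocus (ρ x : V →ₗ[ZMod p] V) LinearMap.id :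
      Submodule (ZMod p) V) [MOD ℓ] := by
  haveI : Fact ℓ.Prime := ⟨hℓ⟩
  have hQ : IsPGroup ℓ (Subgroup.zpowers x) := by
    rintro ⟨g, hg⟩
    obtain ⟨k, rfl⟩ := Subgroup.mem_zpowers_iff.mp hg
    refine ⟨1, Subtype.ext ?_⟩
    change (x ^ k) ^ (ℓ ^ 1) = 1
    rw [pow_one, ← zpow_natCast, ← zpow_mul, mul_comm, zpow_mul, zpow_natCast, hx, one_zpow]
  letI : MulAction (Subgroup.zpowers x) W :=
    { smul := fun m w => ⟨ρ (m : G) w, hW m w w.2⟩
      one_smul := fun w => Subtype.ext (rho_one ρ w)
      mul_smul := fun g h w => Subtype.ext (rho_mul ρ g h w) }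
  have hsm : ∀ (m : Subgroup.zpowers x) (w : W), ((m • w : W) : V) = ρ (m : G) w :=
    fun m w => rfl
  have h := hQ.card_modEq_card_fixedPoints W
  have e : MulAction.fixedPoints (Subgroup.zpowers x) W ≃
      (W ⊓ LinearMap.eqLocus (ρ x : V →ₗ[ZMod p] V) LinearMap.id : Submodule (ZMod p) V) :=
    { toFun := fun w => ⟨w.1.1, w.1.2, by
        have h1 := w.2 ⟨x, Subgroup.mem_zpowers x⟩
        exact congrArg Subtype.val h1⟩
      invFun := fun v => ⟨⟨v.1, v.2.1⟩, by
        intro m
        apply Subtype.ext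
        rw [hsm]
        have hv : ρ x (v : V) = v := v.2.2
        have hle : Subgroup.zpowers x ≤ HupI.stab ρ ⊤ (v : V) := by
          rw [Subgroup.zpowers_le]
          exact ⟨Subgroup.mem_top x, hv⟩
        exact (hle m.2).2⟩
      left_inv := fun w => rfl
      right_inv := fun v => rfl }
  rw [Nat.card_congr e] at h
  exact h

/-- The order of a subspace is a power of `p`. -/
theorem card_submodule (n : ℕ) (hV : Nat.card V = p ^ n) (W : Submodule (ZMod p) V) :
    ∃ k, k ≤ n ∧ Nat.card W = p ^ k := by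
  have hp : p.Prime := Fact.out
  have h1 : Nat.card W ∣ Nat.card V := AddSubgroup.card_addSubgroup_dvd_card W.toAddSubgroup
  rw [hV] at h1
  exact (Nat.dvd_prime_pow hp).1 h1

/-- Piece P7 of S3360. -/
theorem comm_of_ppd (ρ : G →* (V ≃ₗ[ZMod p] V)) (hinj : Function.Injective ρ)
    (n ℓ : ℕ) (hℓ : ℓ.Prime) (hV : Nat.card V = p ^ n) (hdvd : ℓ ∣ p ^ n - 1)
    (hprim : ∀ k, 0 < k → k < n → ¬ ℓ ∣ p ^ k - 1) (x : G) (hx : x ^ ℓ = 1) (hx1 : x ≠ 1) :
    ∀ a b : G, a * x = x * a → b * x = x * b → a * b = b * a := by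
  classical
  have hp : p.Prime := Fact.out
  haveI : Nontrivial V := by
    by_contra hnt
    rw [not_nontrivial_iff_subsingleton] at hnt
    apply hx1
    apply hinj
    apply LinearEquiv.ext
    intro v
    exact Subsingleton.elim _ _
  have hn0 : 0 < n := by
    rcases Nat.eq_zero_or_pos n with h0 | h0
    · exfalso
      rw [h0, pow_zero] at hV
      have := Finite.one_lt_card (α := V)
      omega
    · exact h0
  have hℓp : ¬ ℓ ∣ p := by
    intro h
    have h1 : ℓ ∣ p ^ n := h.trans (dvd_pow_self p (by omega))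
    have h2 : 1 ≤ p ^ n := Nat.one_le_pow _ _ hp.pos
    have h3 : ℓ ∣ 1 := by
      have := Nat.dvd_sub h1 hdvd
      rwa [Nat.sub_sub_self h2] at this
    exact hℓ.one_lt.ne' (Nat.dvd_one.mp h3)
  -- the fixed space is zero
  obtain ⟨F, hF⟩ : ∃ F : Submodule (ZMod p) V,
      F = LinearMap.eqLocus (ρ x : V →ₗ[ZMod p] V) LinearMap.id := ⟨_, rfl⟩
  have hFbot : F = ⊥ := by
    have hmod := card_modEq_fix ρ x ℓ hℓ hx ⊤ (fun _ _ _ => Submodule.mem_top)
    rw [← hF, top_inf_eq] at hmod
    have hVtop : Nat.card (⊤ : Submodule (ZMod p) V) = Nat.card V :=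
      Nat.card_congr (Submodule.topEquiv (R := ZMod p) (M := V)).toEquiv
    rw [hVtop, hV] at hmod
    obtain ⟨j, hj, hFj⟩ := card_submodule n hV F
    rw [hFj] at hmod
    have hdvd2 : ℓ ∣ p ^ n - p ^ j :=
      (Nat.modEq_iff_dvd' (Nat.pow_le_pow_right hp.pos hj)).1 hmod.symm
    rcases Nat.eq_zero_or_pos j with h0 | h0
    · rw [h0, pow_zero] at hFj
      haveI : Subsingleton F := (Nat.card_eq_one_iff_unique.mp hFj).1
      exact Submodule.eq_bot_of_subsingleton
    · exfalso
      rcases Nat.lt_or_ge j n with hlt | hge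
      · have hfac : p ^ n - p ^ j = p ^ j * (p ^ (n - j) - 1) := by
          have h1 : p ^ n = p ^ j * p ^ (n - j) := by
            rw [← pow_add]; congr 1; omega
          rw [h1, Nat.mul_sub, mul_one]
        rw [hfac] at hdvd2
        rcases hℓ.dvd_mul.1 hdvd2 with h | h
        · exact hℓp (hℓ.dvd_of_dvd_pow h)
        · exact hprim (n - j) (by omega) (by omega) h
      · have hjn : j = n := le_antisymm hj hge
        rw [hjn, ← hV] at hFj
        have hFtop : F = ⊤ := by
          have h1 : F.toAddSubgroup = ⊤ := (AddSubgroup.card_eq_iff_eq_top _).mp hFj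
          rw [eq_top_iff]
          intro v _
          have : v ∈ F.toAddSubgroup := by rw [h1]; exact AddSubgroup.mem_top v
          exact this
        apply hx1
        apply hinj
        apply LinearEquiv.ext
        intro v
        have hv : v ∈ F := by rw [hFtop]; exact Submodule.mem_top
        rw [hF] at hv
        rw [map_one]
        exact hv
  -- `x` acts irreducibly
  let r : Subgroup.zpowers x →* Module.End (ZMod p) V := (toEnd ρ).comp (Subgroup.zpowers x).subtype
  have hr : ∀ (m : Subgroup.zpowers x) (v : V), r m v = ρ (m : G) v := fun m v => rfl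
  have hirr : ∀ W : Submodule (ZMod p) V, (∀ m : Subgroup.zpowers x, ∀ w ∈ W, r m w ∈ W) →
      W = ⊥ ∨ W = ⊤ := by
    intro W hW
    by_cases hW0 : W = ⊥
    · exact Or.inl hW0
    · right
      have hmod := card_modEq_fix ρ x ℓ hℓ hx W hW
      rw [← hF, hFbot, inf_bot_eq] at hmod
      have hbot : Nat.card (⊥ : Submodule (ZMod p) V) = 1 := Nat.card_unique
      rw [hbot] at hmod
      obtain ⟨k, hk, hWk⟩ := card_submodule n hV W
      rw [hWk] at hmod
      have hdvd2 : ℓ ∣ p ^ k - 1 :=
        (Nat.modEq_iff_dvd' (Nat.one_le_pow _ _ hp.pos)).1 hmod.symm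
      have hk0 : 0 < k := by
        rcases Nat.eq_zero_or_pos k with h0 | h0
        · exfalso
          rw [h0, pow_zero] at hWk
          haveI : Subsingleton W := (Nat.card_eq_one_iff_unique.mp hWk).1
          exact hW0 Submodule.eq_bot_of_subsingleton
        · exact h0
      have hkn : k = n := by
        by_contra hne
        exact hprim k hk0 (lt_of_le_of_ne hk hne) hdvd2
      rw [hkn, ← hV] at hWk
      have h1 : W.toAddSubgroup = ⊤ := (AddSubgroup.card_eq_iff_eq_top _).mp hWk
      rw [eq_top_iff]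
      intro v _
      have : v ∈ W.toAddSubgroup := by rw [h1]; exact AddSubgroup.mem_top v
      exact this
  intro a b ha hb
  have hcomm : ∀ c : G, c * x = x * c → ∀ m : Subgroup.zpowers x, toEnd ρ c * r m = r m * toEnd ρ c := by
    intro c hc m
    have hle : Subgroup.zpowers x ≤ Subgroup.centralizer {c} := by
      rw [Subgroup.zpowers_le, Subgroup.mem_centralizer_iff]
      intro h hh
      rw [Set.mem_singleton_iff] at hh
      rw [hh]
      exact hc
    have h1 : c * (m : G) = (m : G) * c := Subgroup.mem_centralizer_iff.mp (hle m.2) c rfl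
    show toEnd ρ c * toEnd ρ (m : G) = toEnd ρ (m : G) * toEnd ρ c
    rw [← map_mul, ← map_mul, h1]
  have hab := commutant_comm r hirr (toEnd ρ a) (toEnd ρ b) (hcomm a ha) (hcomm b hb)
  apply hinj
  apply LinearEquiv.ext
  intro v
  have := congrArg (fun T : Module.End (ZMod p) V => T v) hab
  rw [rho_mul, rho_mul]
  exact this

end Cfsg.Agent.Lib.Helper12.HupP7
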