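import Mathlib
import Cfsg.Agent.Lib.Helper12.FpfLin
import Cfsg.Agent.Lib.Helper12.MinQuat
import Cfsg.Agent.Lib.Helper12.HupI
import Cfsg.Agent.Lib.Helper12.HupE
import Cfsg.Agent.Lib.Helper12.HupL
import Cfsg.Agent.Lib.Helper12.HupC
import Cfsg.Agent.Lib.Helper12.HupP7
import Cfsg.Agent.Lib.Helper32.HupP2
import Cfsg.Agent.Lib.Helper95.HupP6

/-!
# Huppert's theorem for transitive solvable linear groups: the non-metacyclic case (helper12)

`G` is a finite solvable group acting faithfully on the finite `ZMod p`-module `V`, transitively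
on the non-zero vectors, `A` a maximal abelian normal subgroup whose centralizer is not abelian.
Then `|V|` is one of `9, 25, 49, 121, 529, 81`.
-/

set_option autoImplicit false
set_option linter.unusedSectionVars false
set_option linter.style.haveILetI false

namespace Cfsg.Agent.Lib.Helper12.HupH

open Subgroup
open scoped commutatorElement
open Cfsg.Agent.Lib.Helper12.FpfLin Cfsg.Agent.Lib.Helper12.MinQuat
open Cfsg.Agent.Lib.Helper12.HupP7 Cfsg.Agent.Lib.Helper32.HupP2 Cfsg.Agent.Lib.Helper95.HupP6

universe u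

variable {p : ℕ} [Fact p.Prime] {V : Type u} [AddCommGroup V] [Module (ZMod p) V] [Finite V]
  [Nontrivial V]
variable {G : Type*} [Group G]

/-- Transitivity on the non-zero vectors: `|V| - 1` divides `|G|`. -/
theorem card_sub_one_dvd [Finite G] {ρ : G →* (V ≃ₗ[ZMod p] V)} (ht : IsTrans ρ) :
    Nat.card V - 1 ∣ Nat.card G := by
  classical
  obtain ⟨v₀, hv₀⟩ := exists_ne (0 : V)
  letI : MulAction G V := MulAction.compHom V ρ
  have hsmul : ∀ (g : G) (v : V), g • v = ρ g v := fun g v => rfl
  have horb : MulAction.orbit G v₀ = ({0} : Set V)ᶜ := by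
    ext v
    rw [MulAction.mem_orbit_iff, Set.mem_compl_iff, Set.mem_singleton_iff]
    constructor
    · rintro ⟨g, rfl⟩
      rw [hsmul]
      intro h0
      exact hv₀ ((LinearEquiv.map_eq_zero_iff _).mp h0)
    · intro hv
      obtain ⟨g, hg⟩ := ht v₀ v hv₀ hv
      exact ⟨g, hg⟩
  have h1 := MulAction.index_stabilizer (G := G) (x := v₀)
  rw [horb, Set.ncard_compl, Set.ncard_singleton] at h1
  rw [← h1]
  exact Subgroup.index_dvd_card _

/-- **Huppert, transitive case, non-metacyclic branch**. -/
theorem hard_case [Finite G] [Group.IsSolvable G] {ρ : G →* (V ≃ₗ[ZMod p] V)}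
    (hinj : Function.Injective ρ) (ht : IsTrans ρ) (A : Subgroup G) (hAn : A.Normal)
    (hAc : IsMulCommutative A)
    (hAmax : ∀ B : Subgroup G, B.Normal → IsMulCommutative B → A ≤ B → B = A)
    (hC : ¬ IsMulCommutative (centralizer (A : Set G))) :
    Nat.card V ∈ ({9, 25, 49, 121, 529, 81} : Set ℕ) := by
  classical
  haveI := hAn
  have hp : p.Prime := Fact.out
  have hAc' := (comm_iff A).1 hAc
  obtain ⟨N, hNn, hNle, hNna, hNmin⟩ :=
    exists_min_nonabelian (centralizer (A : Set G)) inferInstance hC
  haveI := hNn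
  have hcen := cen_of_min A hAn hAc hAmax N hNle hNmin
  have hna : ¬ ∀ a ∈ N, ∀ b ∈ N, a * b = b * a := fun h => hNna ((comm_iff N).2 h)
  have hder : ⁅N, N⁆ ≠ N := by
    intro h
    haveI : Nontrivial N := by
      by_contra hnt
      rw [not_nontrivial_iff_subsingleton] at hnt
      apply hna
      intro a ha b hb
      have := Subsingleton.elim (⟨a, ha⟩ : N) ⟨b, hb⟩
      have hab : a = b := congrArg Subtype.val this
      rw [hab]
    have hlt := Group.IsSolvable.commutator_lt_top_of_nontrivial (G := N)
    apply hlt.ne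
    apply Subgroup.map_injective N.subtype_injective
    rw [_root_.commutator_def, Subgroup.map_commutator, ← MonoidHom.range_eq_map,
      Subgroup.range_subtype]
    exact h
  -- irreducibility and the field
  have hirrN := HupI.irr_of_nonabelian hinj ht N hna
  obtain ⟨L, hLfield, hLfin, hLmod, σ, hlin, hcomm, hσ⟩ := HupL.exists_field ρ N hirrN
  -- elements centralizing `N` act as scalars
  have hscal : ∀ g : G, (∀ y ∈ N, g * y = y * g) → ∃ c : L, ∀ v, ρ g v = c • v := by
    intro g hg
    obtain ⟨c, hc⟩ := hcomm (ρ g : V →ₗ[ZMod p] V).toAddMonoidHom (by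
      intro n hn v
      show ρ g (ρ n v) = ρ n (ρ g v)
      rw [← rho_mul, ← rho_mul, hg n hn])
    exact ⟨c, hc⟩
  have hAN : ∀ a ∈ A, ∀ y ∈ N, a * y = y * a := fun a ha y hy =>
    mem_centralizer_iff.mp (hNle hy) a ha
  -- `C_G(N) = A`
  have hCN : ∀ g : G, (∀ y ∈ N, g * y = y * g) → g ∈ A := by
    have hCcomm : IsMulCommutative (centralizer (N : Set G)) := by
      rw [comm_iff]
      intro g hg g' hg'
      have hg1 : ∀ y ∈ N, g * y = y * g := fun y hy => (mem_centralizer_iff.mp hg y hy).symm
      have hg1' : ∀ y ∈ N, g' * y = y * g' := fun y hy =>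
        (mem_centralizer_iff.mp hg' y hy).symm
      obtain ⟨c, hc⟩ := hscal g hg1
      obtain ⟨c', hc'⟩ := hscal g' hg1'
      apply hinj
      apply LinearEquiv.ext
      intro v
      rw [rho_mul, rho_mul, hc', hc, hc, hc', smul_smul, smul_smul, mul_comm]
    have hAle : A ≤ centralizer (N : Set G) := by
      intro a ha
      rw [mem_centralizer_iff]
      intro y hy
      exact (hAN a ha y hy).symm
    have hEq := hAmax _ inferInstance hCcomm hAle
    intro g hg
    rw [← hEq, mem_centralizer_iff]
    intro y hy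
    exact (hg y hy).symm
  -- the centre of `N`
  obtain ⟨Z, hZdef⟩ : ∃ Z : Subgroup G, Z = N ⊓ A := ⟨_, rfl⟩
  have hZn : Z.Normal := by rw [hZdef]; infer_instance
  have hZ : ∀ z : G, z ∈ Z ↔ z ∈ N ∧ ∀ y ∈ N, y * z = z * y := by
    intro z
    rw [hZdef, Subgroup.mem_inf]
    constructor
    · rintro ⟨hzN, hzA⟩
      exact ⟨hzN, fun y hy => (hAN z hzA y hy).symm⟩
    · rintro ⟨hzN, hz⟩
      exact ⟨hzN, hCN z (fun y hy => (hz y hy).symm)⟩
  have hcl : ∀ a ∈ N, ∀ b ∈ N, a * b * a⁻¹ * b⁻¹ ∈ Z := by
    intro a ha b hb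
    have hmem : a * b * a⁻¹ * b⁻¹ ∈ ⁅N, N⁆ := Subgroup.commutator_mem_commutator ha hb
    have hle : ⁅N, N⁆ ≤ N := Subgroup.commutator_le_left N N
    have hc := hcen ⁅N, N⁆ inferInstance hle hder
    rw [hZ]
    exact ⟨hle hmem, fun y hy => (hc _ hmem y hy).symm⟩
  -- the `L`-linear representation of `N`
  let r : N →* Module.End L V :=
    { toFun := fun n =>
        { toFun := fun v => ρ (n : G) v
          map_add' := fun v w => map_add _ v w
          map_smul' := fun c v => hlin n n.2 c v }
      map_one' := by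
        ext v
        exact rho_one ρ v
      map_mul' := fun n m => by
        ext v
        exact rho_mul ρ n m v }
  have hidx0 := center_index_eq_sq r
    (by
      intro n m hnm
      apply Subtype.ext
      apply hinj
      apply LinearEquiv.ext
      intro v
      have := congrArg (fun T : Module.End L V => T v) hnm
      exact this)
    (by
      intro W hW
      have hW' : Inv ρ N (AddSubgroup.toZModSubmodule p W.toAddSubgroup) := by
        intro n hn v hv
        exact hW ⟨n, hn⟩ v hv
      rcases hirrN _ hW' with h | h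
      · left
        rw [eq_bot_iff]
        intro v hv
        have hv' : v ∈ AddSubgroup.toZModSubmodule p W.toAddSubgroup := hv
        rw [h] at hv'
        exact hv'
      · right
        rw [eq_top_iff]
        intro v _
        have hv' : v ∈ AddSubgroup.toZModSubmodule p W.toAddSubgroup := by
          rw [h]; exact Submodule.mem_top
        exact hv')
    (by
      intro T hT
      obtain ⟨c, hc⟩ := hcomm (T : V →ₗ[L] V).toAddMonoidHom (by
        intro n hn v
        have := congrArg (fun S : Module.End L V => S v) (hT ⟨n, hn⟩)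
        exact this)
      refine ⟨c, ?_⟩
      ext v
      simp only [LinearMap.smul_apply, Module.End.one_apply]
      exact hc v)
    (by
      intro a b
      rw [Subgroup.mem_center_iff]
      intro g
      apply Subtype.ext
      have h1 := hcl a a.2 b b.2
      exact ((hZ _).1 h1).2 g g.2)
  have hcenter : Subgroup.center N = Z.subgroupOf N := by
    ext ⟨n, hn⟩
    rw [Subgroup.mem_center_iff, Subgroup.mem_subgroupOf, hZ]
    constructor
    · intro h
      exact ⟨hn, fun y hy => congrArg Subtype.val (h ⟨y, hy⟩)⟩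
    · rintro ⟨-, h⟩ g
      exact Subtype.ext (h g g.2)
  obtain ⟨d, hd⟩ : ∃ d, d = Module.finrank L V := ⟨_, rfl⟩
  have hidx : Z.relIndex N = d ^ 2 := by
    rw [hd, ← hidx0, hcenter]
    rfl
  have hd2 : 2 ≤ d := by
    by_contra hlt
    have hd1 : d ^ 2 ≤ 1 := by
      have : d ≤ 1 := by omega
      interval_cases d <;> norm_num
    have hpos : Z.relIndex N ≠ 0 := Subgroup.index_ne_zero_of_finite
    have h1 : Z.relIndex N = 1 := by omega
    have hNZ := Subgroup.relIndex_eq_one.mp h1
    apply hna
    intro a ha b hb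
    exact (((hZ b).1 (hNZ hb)).2 a ha)
  -- cardinalities
  have hV1 : Nat.card V = Nat.card L ^ d := by
    rw [hd]
    exact Module.natCard_eq_pow_finrank
  have hV2 : Nat.card V = p ^ Module.finrank (ZMod p) V := by
    rw [Module.natCard_eq_pow_finrank (K := ZMod p) (V := V), Nat.card_zmod]
  have hLdvd : Nat.card L ∣ p ^ Module.finrank (ZMod p) V := by
    rw [← hV2, hV1]
    exact dvd_pow_self _ (by omega)
  obtain ⟨f, -, hLf⟩ := (Nat.dvd_prime_pow hp).1 hLdvd
  have hf1 : 1 ≤ f := by
    rcases Nat.eq_zero_or_pos f with h0 | h0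
    · exfalso
      rw [h0, pow_zero] at hLf
      have := Finite.one_lt_card (α := L)
      omega
    · exact h0
  have hVcard : Nat.card V = p ^ (f * d) := by rw [hV1, hLf, pow_mul]
  -- `A` is cyclic of order dividing `p ^ f - 1`
  have hAcyc : IsCyclic A := HupE.cyclic_of_abelian_normal hinj ht A hAc'
  have hAcard : Nat.card A ∣ p ^ f - 1 := by
    obtain ⟨a₀, ha₀⟩ := IsCyclic.exists_generator (α := A)
    have hord : orderOf a₀ = Nat.card A := orderOf_eq_card_of_forall_mem_zpowers ha₀
    rw [← hord]
    apply orderOf_dvd_of_pow_eq_one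
    obtain ⟨c, hc⟩ := hscal (a₀ : G) (fun y hy => hAN a₀ a₀.2 y hy)
    have hc0 : c ≠ 0 := by
      intro h0
      obtain ⟨v, hv⟩ := exists_ne (0 : V)
      have h1 := hc v
      rw [h0, zero_smul] at h1
      exact hv ((LinearEquiv.map_eq_zero_iff _).mp h1)
    have hpow : ∀ k : ℕ, ∀ v, ρ ((a₀ : G) ^ k) v = c ^ k • v := by
      intro k
      induction k with
      | zero =>
        intro v
        rw [pow_zero, pow_zero, rho_one, one_smul]
      | succ k ih =>
        intro v
        rw [pow_succ, pow_succ, rho_mul, hc, ih, smul_smul]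
    have hcpow : c ^ (p ^ f - 1) = 1 := by
      have h1 : (Units.mk0 c hc0) ^ (Nat.card Lˣ) = 1 := pow_card_eq_one'
      rw [Nat.card_units, hLf] at h1
      have := congrArg Units.val h1
      simpa using this
    apply Subtype.ext
    apply hinj
    apply LinearEquiv.ext
    intro v
    rw [Subgroup.coe_pow, hpow, hcpow, one_smul, Subgroup.coe_one, rho_one]
  -- the semilinear action
  have hσA : ∀ g, σ g = 1 → ∀ a ∈ A, g * a = a * g := by
    intro g hg a ha
    obtain ⟨c, hc⟩ := hscal a (hAN a ha)
    apply hinj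
    apply LinearEquiv.ext
    intro v
    rw [rho_mul, rho_mul, hc, hc, hσ, hg]
    rfl
  have hG : p ^ (f * d) - 1 ∣ Nat.card G := by
    rw [← hVcard]
    exact card_sub_one_dvd ht
  have D : HupC.Data G p f d N A Z :=
    { hp := hp
      hd := hd2
      hf := hf1
      hG := hG
      hNn := hNn
      hAn := hAn
      hZn := hZn
      hZ := hZ
      hAN := hAN
      hCN := hCN
      hcl := hcl
      hAcyc := hAcyc
      hAcard := hAcard
      hidx := hidx
      hNcard := exists_prime_pow_card N hna hcen hder }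
  rw [hVcard]
  exact HupC.core D hLf σ hσA
    (fun ℓ hℓ hdvd hprim x hx hx1 => comm_of_ppd ρ hinj (f * d) ℓ hℓ hVcard hdvd hprim x hx hx1)

end Cfsg.Agent.Lib.Helper12.HupH
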