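import Mathlib
import Cfsg.Prelude.Def_Transfer
import Cfsg.Prelude.Def_CaseTheorems
import Cfsg.Prelude.Def_Perm
import Cfsg.Agent.Lib.Helper95.EqPBR
import Cfsg.Agent.Lib.Helper55.SolvCore
import Cfsg.Agent.Lib.Helper65.EqLIN
import Cfsg.Agent.Lib.Helper65.EqCARD
import Cfsg.Agent.Lib.Helper82.EqSAC
import Cfsg.Agent.Lib.Helper30.P25AR
import Cfsg.Agent.Lib.Helper30.P25CNT
import Cfsg.Agent.Lib.Helper95.EqPSemi
import Cfsg.Agent.Lib.Helper33.EqEMB
import Cfsg.Agent.Lib.Helper23.No65
import Cfsg.Agent.Lib.Helper67.EqPL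

/-!
# Groups whose p-subgroups of equal order are conjugate: normaliser of an elementary abelian
Sylow subgroup (helper12, assembly for S4025)
-/

set_option autoImplicit false

namespace Cfsg.Agent.Lib.Helper12.EqMain

universe u

/-- An injective homomorphism into a permutation group whose image lies in a subgroup of order
at most that of the source is an isomorphism onto that subgroup. -/
theorem iso_of_card_le {A : Type*} [Group A] [Finite A] {X : Type*} [Finite X]
    (T : Subgroup (Equiv.Perm X))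
    (f : A →* Equiv.Perm X) (hf : Function.Injective f) (hT : ∀ y, f y ∈ T)
    (hc : Nat.card T ≤ Nat.card A) : Nonempty (A ≃* T) := by
  let g : A →* T := f.codRestrict T hT
  have hg : Function.Injective g := fun a b h => hf (congrArg Subtype.val h)
  have hb : Function.Bijective g := by
    rw [Nat.bijective_iff_injective_and_card]
    exact ⟨hg, le_antisymm (Nat.card_le_card_of_injective g hg) hc⟩
  exact ⟨MulEquiv.ofBijective g hb⟩

/-- A group of automorphisms transitive on the subgroups of order `m` has order divisible by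
their number. -/
theorem card_subgroups_dvd {Q : Type u} [Group Q] [Finite Q] (m : ℕ)
    (S : Subgroup (MulAut Q))
    (hne : Nat.card {W : Subgroup Q // Nat.card W = m} ≠ 0)
    (htr : ∀ A B : Subgroup Q, Nat.card A = m → Nat.card B = m →
      ∃ s ∈ S, B = A.map (s : MulAut Q).toMonoidHom) :
    Nat.card {W : Subgroup Q // Nat.card W = m} ∣ Nat.card S := by
  classical
  have : Nonempty {W : Subgroup Q // Nat.card W = m} := by
    by_contra h
    rw [not_nonempty_iff] at h
    exact hne Nat.card_of_isEmpty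
  obtain ⟨W₀, hW₀⟩ := ‹Nonempty {W : Subgroup Q // Nat.card W = m}›
  -- the action of `S` on subgroups of `Q`
  let act : S → Subgroup Q → Subgroup Q := fun s W => W.map ((s : MulAut Q)).toMonoidHom
  let _ : MulAction S (Subgroup Q) :=
    { smul := act
      one_smul := fun W => by
        show W.map ((1 : MulAut Q)).toMonoidHom = W
        ext x
        simp
      mul_smul := fun s t W => by
        show W.map ((s * t : MulAut Q)).toMonoidHom =
          (W.map ((t : MulAut Q)).toMonoidHom).map ((s : MulAut Q)).toMonoidHom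
        rw [Subgroup.map_map]
        rfl }
  have hsm : ∀ (s : S) (W : Subgroup Q), s • W = W.map ((s : MulAut Q)).toMonoidHom :=
    fun _ _ => rfl
  have horb : MulAction.orbit S W₀ = {W : Subgroup Q | Nat.card W = m} := by
    ext W
    constructor
    · rintro ⟨s, rfl⟩
      show Nat.card ((s • W₀ : Subgroup Q)) = m
      rw [hsm, Subgroup.card_map_of_injective (MulEquiv.injective _)]
      exact hW₀
    · intro hW
      obtain ⟨s, hs, hB⟩ := htr W₀ W hW₀ hW
      exact ⟨⟨s, hs⟩, by rw [hB]; rfl⟩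
  have h1 : Nat.card {W : Subgroup Q // Nat.card W = m} = Nat.card (MulAction.orbit S W₀) := by
    rw [horb]
    rfl
  rw [h1, Nat.card_coe_set_eq, ← MulAction.index_stabilizer]
  exact Subgroup.index_dvd_card _

/-- The multiplier of a semilinear description of an automorphism is non-zero. -/
theorem semi_ne_zero {Q : Type u} [Group Q] [Nontrivial Q] {F : Type*} [Field F]
    (e : Additive Q ≃+ F) (s : MulAut Q) (a : F) (σ : F ≃+* F)
    (hs : ∀ x : Q, e (Additive.ofMul (s x)) = a * σ (e (Additive.ofMul x))) : a ≠ 0 := by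
  rintro rfl
  obtain ⟨x, hx⟩ := exists_ne (1 : Q)
  have h1 := hs x
  rw [zero_mul] at h1
  have h2 : Additive.ofMul (s x) = 0 := by
    rw [← e.map_zero] at h1
    exact e.injective h1
  have h3 : s x = 1 := h2
  exact hx (s.injective (h3.trans (map_one s).symm))

section setting

variable {M : Type u} [Group M] [Finite M] {p n : ℕ} [Fact p.Prime]
  (Q : Subgroup M) [Q.Normal]

omit [Finite M] in
/-- A normal subgroup of order prime to `|Q|` centralises `Q`. -/
theorem conjNormal_eq_one_of_coprime (K : Subgroup M) [K.Normal]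
    (hcop : (Nat.card K).Coprime (Nat.card Q)) (x : M) (hx : x ∈ K) :
    (MulAut.conjNormal x : MulAut Q) = 1 := by
  have hbot : K ⊓ Q = ⊥ := (Subgroup.disjoint_of_coprime_natCard hcop).eq_bot
  apply MulEquiv.ext
  intro v
  apply Subtype.ext
  rw [MulAut.conjNormal_apply]
  show x * (v : M) * x⁻¹ = v
  have h1 : x * (v : M) * x⁻¹ * (v : M)⁻¹ ∈ K ⊓ Q := by
    refine ⟨?_, ?_⟩
    · have h3 : (v : M) * x⁻¹ * (v : M)⁻¹ ∈ K := ‹K.Normal›.conj_mem _ (K.inv_mem hx) _
      have h2 := K.mul_mem hx h3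
      simpa [mul_assoc] using h2
    · exact Q.mul_mem (‹Q.Normal›.conj_mem _ v.2 _) (Q.inv_mem v.2)
  rw [hbot, Subgroup.mem_bot] at h1
  exact mul_inv_eq_one.mp h1

omit [Finite M] in
/-- The group of automorphisms induced on `Q` is solvable if `M ⧸ K` is. -/
theorem range_solvable (K : Subgroup M) [K.Normal]
    (hcop : (Nat.card K).Coprime (Nat.card Q)) (hsolv : Group.IsSolvable (M ⧸ K)) :
    Group.IsSolvable (MulAut.conjNormal (H := Q) : M →* MulAut Q).range := by
  let φ : M →* MulAut Q := MulAut.conjNormal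
  have hK : K ≤ φ.ker := fun x hx =>
    MonoidHom.mem_ker.mpr (conjNormal_eq_one_of_coprime Q K hcop x hx)
  let ψ : M ⧸ K →* φ.range := (QuotientGroup.lift K φ hK).codRestrict φ.range (by
    intro y
    obtain ⟨x, rfl⟩ := QuotientGroup.mk_surjective y
    exact ⟨x, rfl⟩)
  have hψ : Function.Surjective ψ := by
    rintro ⟨_, x, rfl⟩
    exact ⟨QuotientGroup.mk x, rfl⟩
  exact Group.isSolvable_of_surjective hψ

/-- Transitivity on subgroups of order `p`, in elementwise form. -/
theorem trans_elt (hQp : ∀ a : Q, a ^ p = 1)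
    (htr : ∀ A B : Subgroup M, A ≤ Q → B ≤ Q → Nat.card A = Nat.card B →
      ∃ g : M, B = A.map (MulAut.conj g).toMonoidHom) (x y : Q) (hx : x ≠ 1) (hy : y ≠ 1) :
    ∃ s ∈ (MulAut.conjNormal (H := Q) : M →* MulAut Q).range, ∃ k : ℕ, s x = y ^ k := by
  have hp : p.Prime := Fact.out
  have hord : ∀ z : Q, z ≠ 1 → orderOf (z : M) = p := by
    intro z hz
    apply orderOf_eq_prime
    · have h := congrArg Subtype.val (hQp z)
      simpa using h
    · intro h
      exact hz (Subtype.ext h)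
  obtain ⟨g, hg⟩ := htr (Subgroup.zpowers (x : M)) (Subgroup.zpowers (y : M))
    (by rw [Subgroup.zpowers_le]; exact x.2) (by rw [Subgroup.zpowers_le]; exact y.2)
    (by rw [Nat.card_zpowers, Nat.card_zpowers, hord x hx, hord y hy])
  have h1 : g * (x : M) * g⁻¹ ∈ Subgroup.zpowers (y : M) := by
    rw [hg]
    exact ⟨x, Subgroup.mem_zpowers _, rfl⟩
  rw [← mem_powers_iff_mem_zpowers] at h1
  obtain ⟨k, hk⟩ := h1
  refine ⟨MulAut.conjNormal g, ⟨g, rfl⟩, k, ?_⟩
  apply Subtype.ext
  rw [MulAut.conjNormal_apply]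
  simpa using hk.symm

omit [Finite M] in
/-- Transitivity on subgroups of `Q` of a given order, in terms of the induced automorphisms. -/
theorem trans_sub (m : ℕ)
    (htr : ∀ A B : Subgroup M, A ≤ Q → B ≤ Q → Nat.card A = Nat.card B →
      ∃ g : M, B = A.map (MulAut.conj g).toMonoidHom) (A B : Subgroup Q)
    (hA : Nat.card A = m) (hB : Nat.card B = m) :
    ∃ s ∈ (MulAut.conjNormal (H := Q) : M →* MulAut Q).range,
      B = A.map (s : MulAut Q).toMonoidHom := by
  obtain ⟨g, hg⟩ := htr (A.map Q.subtype) (B.map Q.subtype) (Subgroup.map_subtype_le A)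
    (Subgroup.map_subtype_le B)
    (by rw [Subgroup.card_map_of_injective Q.subtype_injective,
      Subgroup.card_map_of_injective Q.subtype_injective, hA, hB])
  refine ⟨MulAut.conjNormal g, ⟨g, rfl⟩, ?_⟩
  ext b
  constructor
  · intro hb
    have h1 : (b : M) ∈ B.map Q.subtype := ⟨b, hb, rfl⟩
    rw [hg] at h1
    obtain ⟨a', ⟨a, ha, rfl⟩, hab⟩ := h1
    refine ⟨a, ha, Subtype.ext ?_⟩
    show ((MulAut.conjNormal g a : Q) : M) = b
    rw [MulAut.conjNormal_apply]
    exact hab
  · rintro ⟨a, ha, rfl⟩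
    have h1 : ((MulAut.conjNormal g a : Q) : M) ∈ B.map Q.subtype := by
      rw [hg]
      refine ⟨a, ⟨a, ha, rfl⟩, ?_⟩
      rw [MulAut.conjNormal_apply]
      rfl
    obtain ⟨b, hb, hbe⟩ := h1
    have h2 : b = MulAut.conjNormal g a := Subtype.ext hbe
    show MulAut.conjNormal g a ∈ B
    rw [← h2]
    exact hb

end setting

/-- The main theorem in the normaliser, for an abstract `p'`-core `K`: `Q` a normal elementary
abelian Sylow `p`-subgroup of order `p ^ n`, `n ≥ 3`, with all subgroups of `Q` of equal order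
conjugate, and solvable quotient by `K`. -/
theorem main_K {M : Type u} [Group M] [Finite M] {p n : ℕ} [Fact p.Prime] (hn : 3 ≤ n)
    (Q : Subgroup M) [Q.Normal] (hQc : ∀ a b : Q, a * b = b * a) (hQp : ∀ a : Q, a ^ p = 1)
    (hQ : Nat.card Q = p ^ n) (hidx : ¬ p ∣ Q.index)
    (htr : ∀ A B : Subgroup M, A ≤ Q → B ≤ Q → Nat.card A = Nat.card B →
      ∃ g : M, B = A.map (MulAut.conj g).toMonoidHom)
    (K : Subgroup M) [K.Normal] (hKp : (Nat.card K).Coprime p)
    (hKmax : ∀ L : Subgroup M, L.Normal → (Nat.card L).Coprime p → L ≤ K)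
    (hsolv : Group.IsSolvable (M ⧸ K)) :
    (n = 3 ∧ (∃ f : M ⧸ K →* ↥(Cfsg.semiaffineGroup (GaloisField p 3)),
        Function.Injective f) ∧
      (p = 2 → Nonempty (M ⧸ K ≃* Cfsg.semiaffineGroup (GaloisField 2 3)) ∨
               Nonempty (M ⧸ K ≃* Cfsg.affineGroup (GaloisField 2 3)))) ∨
    (n = 5 ∧ p = 2 ∧
      Nonempty (M ⧸ K ≃* Cfsg.semiaffineGroup (GaloisField 2 5))) := by
  classical
  have hp : p.Prime := Fact.out
  have hp2 : 2 ≤ p := hp.two_le
  have hKQ : (Nat.card K).Coprime (Nat.card Q) := by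
    rw [hQ]; exact Nat.Coprime.pow_right n hKp
  obtain ⟨S, hSdef⟩ : ∃ S : Subgroup (MulAut Q),
      S = (MulAut.conjNormal (H := Q) : M →* MulAut Q).range := ⟨_, rfl⟩
  have hS : Group.IsSolvable S := by rw [hSdef]; exact range_solvable Q K hKQ hsolv
  have hQpg : IsPGroup p Q := IsPGroup.of_card hQ
  have hpn : p ^ 3 ≤ p ^ n := Nat.pow_le_pow_right hp.pos hn
  have hp3 : 8 ≤ p ^ 3 := by
    calc 8 = 2 ^ 3 := by norm_num
      _ ≤ p ^ 3 := Nat.pow_le_pow_left hp2 3
  have hpp : p < p ^ 3 := by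
    calc p = p ^ 1 := (pow_one p).symm
      _ < p ^ 3 := Nat.pow_lt_pow_right hp.one_lt (by norm_num)
  have : Nontrivial Q := by
    rw [← Finite.one_lt_card_iff_nontrivial, hQ]
    omega
  -- plane count
  have hcnt := Cfsg.Agent.Lib.Helper30.P25CNT.card_planes (p := p) (n := n) hQc hQp hQ
  have hWne : Nat.card {W : Subgroup Q // Nat.card W = p ^ 2} ≠ 0 := by
    intro h0
    rw [h0, zero_mul] at hcnt
    have h1 : 0 < p ^ n - 1 := by omega
    have h2 : 0 < p ^ n - p := by omega
    have h3 := Nat.mul_pos h1 h2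
    omega
  have htrS : ∀ A B : Subgroup Q, Nat.card A = p ^ 2 → Nat.card B = p ^ 2 →
      ∃ s ∈ S, B = A.map (s : MulAut Q).toMonoidHom := by
    intro A B hA hB
    rw [hSdef]
    exact trans_sub Q (p ^ 2) htr A B hA hB
  have hWS : Nat.card {W : Subgroup Q // Nat.card W = p ^ 2} ∣ Nat.card S :=
    card_subgroups_dvd (p ^ 2) S hWne htrS
  have hcq : Nat.card Q * Nat.card S ∣ Nat.card (M ⧸ K) := by
    rw [hSdef]; exact Cfsg.Agent.Lib.Helper65.EqCARD.card_quot_dvd Q hQc K hKQ
  have hpos : 0 < Nat.card (M ⧸ K) := Nat.card_pos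
  have hbr := Cfsg.Agent.Lib.Helper95.EqPBR.bridge hQc hQp hQ (by omega) S hS (fun x y hx hy => by
    rw [hSdef]; exact trans_elt Q hQp htr x y hx hy)
  rcases hbr with ⟨e, hsl⟩ | hexc
  · -- the semilinear case
    have hF : Nat.card (GaloisField p n) = p ^ n := GaloisField.card p n (by omega)
    have hdv := Cfsg.Agent.Lib.Helper67.EqPL.planes_dvd (F := GaloisField p n) (by omega : 2 ≤ n) hQc hQp hQ hcnt e
      (fun T hT => Cfsg.Agent.Lib.Helper95.EqPSemi.semi_card hF e T hT) S hsl htrS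
    obtain ⟨f₀, hf₀, hf₀'⟩ := Cfsg.Agent.Lib.Helper33.EqEMB.embed Q hQpg hidx K hKp hKmax
    let ε : Q ≃ GaloisField p n := Additive.ofMul.trans e.toEquiv
    let f : M ⧸ K →* Equiv.Perm (GaloisField p n) := ε.permCongrHom.toMonoidHom.comp f₀
    have hf : Function.Injective f := ε.permCongrHom.injective.comp hf₀
    have hfy : ∀ y : M ⧸ K, ∃ (a : GaloisField p n)
        (σ : GaloisField p n ≃+* GaloisField p n) (b : GaloisField p n) (s : MulAut Q),
        s ∈ S ∧ a ≠ 0 ∧ (∀ x : Q, e (Additive.ofMul (s x)) = a * σ (e (Additive.ofMul x))) ∧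
        ∀ z, f y z = a * σ z + b := by
      intro y
      obtain ⟨x, b, hxb⟩ := hf₀' y
      have hxS : (MulAut.conjNormal x : MulAut Q) ∈ S := by rw [hSdef]; exact ⟨x, rfl⟩
      obtain ⟨a, σ, hs⟩ := hsl _ hxS
      refine ⟨a, σ, e (Additive.ofMul b), MulAut.conjNormal x, hxS,
        semi_ne_zero e _ a σ hs, hs, fun z => ?_⟩
      show ε (f₀ y (ε.symm z)) = a * σ z + e (Additive.ofMul b)
      rw [hxb]
      show e (Additive.ofMul (b * MulAut.conjNormal x (ε.symm z))) = _
      have hz : e (Additive.ofMul (ε.symm z)) = z := by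
        show e (Additive.ofMul (Additive.toMul (e.symm z))) = z
        simp
      rw [ofMul_mul, map_add, hs, add_comm, hz]
    have hsemi : ∀ y, f y ∈ Cfsg.semiaffineGroup (GaloisField p n) := by
      intro y
      obtain ⟨a, σ, b, s, -, ha, -, hz⟩ := hfy y
      exact ⟨Units.mk0 a ha, b, σ, fun z => by rw [hz]; rfl⟩
    rcases Cfsg.Agent.Lib.Helper30.P25AR.arith_planes p n hp hn hdv with h3 | ⟨h5, h2⟩
    · left
      subst h3
      refine ⟨rfl, ⟨f.codRestrict _ hsemi, fun a b h => hf (congrArg Subtype.val h)⟩, ?_⟩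
      intro hp2
      subst hp2
      have hW7 : Nat.card {W : Subgroup Q // Nat.card W = 2 ^ 2} = 7 := by
        have e1 : (2 ^ 2 - 1) * (2 ^ 2 - 2) = 6 := by norm_num
        have e2 : (2 ^ 3 - 1) * (2 ^ 3 - 2) = 42 := by norm_num
        rw [e1, e2] at hcnt
        omega
      have h7 : 7 ∣ Nat.card S := by rw [← hW7]; exact hWS
      rw [hQ] at hcq
      by_cases h3 : 3 ∣ Nat.card S
      · left
        have h21 : 21 ∣ Nat.card S :=
          Nat.Coprime.mul_dvd_of_dvd_of_dvd (by norm_num : Nat.Coprime 3 7) h3 h7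
        have h168 : 2 ^ 3 * 21 ∣ Nat.card (M ⧸ K) :=
          (Nat.mul_dvd_mul_left _ h21).trans hcq
        have hle := Nat.le_of_dvd hpos h168
        have hsa := Cfsg.Agent.Lib.Helper82.EqSAC.card_semiaffine_le 2 3 (by norm_num)
        exact iso_of_card_le _ f hf hsemi (by norm_num at hsa hle; omega)
      · right
        have hra := Cfsg.Agent.Lib.Helper82.EqSAC.card_ringAut 2 3 (by norm_num)
        have haff : ∀ y, f y ∈ Cfsg.affineGroup (GaloisField 2 3) := by
          intro y
          obtain ⟨a, σ, b, s, hsS, ha, hs, hz⟩ := hfy y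
          have hm : s ^ Nat.card S = 1 := by
            have h := pow_card_eq_one' (G := S) (x := ⟨s, hsS⟩)
            exact congrArg Subtype.val h
          have hσ : σ = RingEquiv.refl _ := by
            apply Cfsg.Agent.Lib.Helper65.EqLIN.linear_of_coprime e s a σ hs (Nat.card S) hm
            rw [hra]
            exact (Nat.Prime.coprime_iff_not_dvd Nat.prime_three).mpr h3 |>.symm
          exact ⟨Units.mk0 a ha, b, fun z => by rw [hz, hσ]; rfl⟩
        have h56 : 2 ^ 3 * 7 ∣ Nat.card (M ⧸ K) :=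
          (Nat.mul_dvd_mul_left _ h7).trans hcq
        have hle := Nat.le_of_dvd hpos h56
        have hsa := Cfsg.Agent.Lib.Helper82.EqSAC.card_affine_le 2 3 (by norm_num)
        exact iso_of_card_le _ f hf haff (by norm_num at hsa hle; omega)
    · right
      subst h5
      subst h2
      refine ⟨rfl, rfl, ?_⟩
      have hW : Nat.card {W : Subgroup Q // Nat.card W = 2 ^ 2} = 155 := by
        have e1 : (2 ^ 2 - 1) * (2 ^ 2 - 2) = 6 := by norm_num
        have e2 : (2 ^ 5 - 1) * (2 ^ 5 - 2) = 930 := by norm_num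
        rw [e1, e2] at hcnt
        omega
      have h155 : 155 ∣ Nat.card S := by rw [← hW]; exact hWS
      rw [hQ] at hcq
      have h4960 : 2 ^ 5 * 155 ∣ Nat.card (M ⧸ K) :=
        (Nat.mul_dvd_mul_left _ h155).trans hcq
      have hle := Nat.le_of_dvd hpos h4960
      have hsa := Cfsg.Agent.Lib.Helper82.EqSAC.card_semiaffine_le 2 5 (by norm_num)
      exact iso_of_card_le _ f hf hsemi (by norm_num at hsa hle; omega)
  · -- the exceptional case
    exfalso
    obtain ⟨h3, h4⟩ := Cfsg.Agent.Lib.Helper30.P25AR.arith_exc p n hp hn hexc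
    subst h3
    subst h4
    have hW : Nat.card {W : Subgroup Q // Nat.card W = 3 ^ 2} = 130 := by
      have e1 : (3 ^ 2 - 1) * (3 ^ 2 - 3) = 48 := by norm_num
      have e2 : (3 ^ 4 - 1) * (3 ^ 4 - 3) = 6240 := by norm_num
      rw [e1, e2] at hcnt
      omega
    have h130 : 130 ∣ Nat.card S := by rw [← hW]; exact hWS
    exact Cfsg.Agent.Lib.Helper23.No65.no65 hQc hQp (by rw [hQ]; norm_num) S hS
      (Dvd.dvd.trans (by norm_num) h130) (Dvd.dvd.trans (by norm_num) h130)

/-- The main theorem in the normaliser: `Q` a normal elementary abelian Sylow `p`-subgroup of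
order `p ^ n`, `n ≥ 3`, with all subgroups of `Q` of equal order conjugate, and solvable
quotient by the `p'`-core. -/
theorem main_X {M : Type u} [Group M] [Finite M] {p n : ℕ} [Fact p.Prime] (hn : 3 ≤ n)
    (Q : Subgroup M) [Q.Normal] (hQc : ∀ a b : Q, a * b = b * a) (hQp : ∀ a : Q, a ^ p = 1)
    (hQ : Nat.card Q = p ^ n) (hidx : ¬ p ∣ Q.index)
    (htr : ∀ A B : Subgroup M, A ≤ Q → B ≤ Q → Nat.card A = Nat.card B →
      ∃ g : M, B = A.map (MulAut.conj g).toMonoidHom)
    (hsolv : Group.IsSolvable (M ⧸ Cfsg.pPrimeCore p M)) :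
    (n = 3 ∧ (∃ f : M ⧸ Cfsg.pPrimeCore p M →* ↥(Cfsg.semiaffineGroup (GaloisField p 3)),
        Function.Injective f) ∧
      (p = 2 → Nonempty (M ⧸ Cfsg.pPrimeCore p M ≃* Cfsg.semiaffineGroup (GaloisField 2 3)) ∨
               Nonempty (M ⧸ Cfsg.pPrimeCore p M ≃* Cfsg.affineGroup (GaloisField 2 3)))) ∨
    (n = 5 ∧ p = 2 ∧
      Nonempty (M ⧸ Cfsg.pPrimeCore p M ≃* Cfsg.semiaffineGroup (GaloisField 2 5))) :=
  main_K hn Q hQc hQp hQ hidx htr (Cfsg.pPrimeCore p M)
    (Cfsg.Agent.Lib.Helper55.SolvCore.card_pPrimeCore_coprime p)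
    (fun _ hL hc => le_sSup ⟨hL, hc⟩) hsolv

end Cfsg.Agent.Lib.Helper12.EqMain
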