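import Mathlib
import Cfsg.Agent.Lib.Helper12.FpfLin
import Cfsg.Agent.Lib.Helper12.FpfIrr
import Cfsg.Agent.Lib.Helper12.QuatReg
import Cfsg.Agent.Lib.Helper12.NearJ
import Cfsg.Agent.Lib.Helper12.HupA

/-!
# Huppert's theorem, the quaternion case: linear algebra (helper12)

`quat_case`: if `G` is regular on the non-zero vectors of the `ZMod p`-module `V` and has a normal
subgroup `N` isomorphic to the quaternion group of order 8, then `p` is odd, `|V| = p ^ 2`, the
centraliser of `N` is central in `G`, its order divides `p - 1` and its index divides `24`.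
-/

set_option autoImplicit false

namespace Cfsg.Agent.Lib.Helper12.HupQ

open QuaternionGroup Subgroup
open Cfsg.Agent.Lib.Helper12.FpfLin
open Cfsg.Agent.Lib.Helper12.QuatReg
open Cfsg.Agent.Lib.Helper12.NearJ

variable {p : ℕ} [Fact p.Prime] {V : Type*} [AddCommGroup V] [Module (ZMod p) V] [Finite V]
  [Nontrivial V]
variable {G : Type*} [Group G]

theorem quat_case [Finite G] {ρ : G →* (V ≃ₗ[ZMod p] V)} (hf : IsFpf ρ) (ht : IsTrans ρ)
    (N : Subgroup G) (hNn : N.Normal) (e : N ≃* QuaternionGroup 2) :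
    p ≠ 2 ∧ Nat.card V = p ^ 2 ∧
      (∀ c ∈ centralizer (N : Set G), ∀ g : G, c * g = g * c) ∧
      Nat.card (centralizer (N : Set G)) ∣ p - 1 ∧ (centralizer (N : Set G)).index ∣ 24 := by
  classical
  haveI := hNn
  obtain ⟨sN, hsN⟩ : ∃ sN : N, sN = e.symm (a 1) := ⟨_, rfl⟩
  obtain ⟨tN, htN⟩ : ∃ tN : N, tN = e.symm (xa 0) := ⟨_, rfl⟩
  have hstN : sN * tN ≠ tN * sN := by
    rw [hsN, htN, ← map_mul, ← map_mul]
    intro h
    exact absurd (e.symm.injective h) (by decide)
  have hssN : sN * sN * (sN * sN) = 1 := by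
    rw [hsN, ← map_mul, ← map_mul,
      show (a 1 : QuaternionGroup 2) * a 1 * (a 1 * a 1) = 1 from by decide, map_one]
  have httN : tN * tN = sN * sN := by
    rw [hsN, htN, ← map_mul, ← map_mul,
      show (xa 0 : QuaternionGroup 2) * xa 0 = a 1 * a 1 from by decide]
  have hstzN : sN * tN = tN * sN * (sN * sN) := by
    rw [hsN, htN]
    simp only [← map_mul]
    rw [show (a 1 : QuaternionGroup 2) * xa 0 = xa 0 * a 1 * (a 1 * a 1) from by decide]
  have hz1N : sN * sN ≠ 1 := by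
    rw [hsN, ← map_mul]
    intro h
    rw [← map_one e.symm] at h
    exact absurd (e.symm.injective h) (by decide)
  obtain ⟨s₀, hs₀⟩ : ∃ s₀ : G, s₀ = (sN : G) := ⟨_, rfl⟩
  obtain ⟨t₀, ht₀⟩ : ∃ t₀ : G, t₀ = (tN : G) := ⟨_, rfl⟩
  have hs₀N : s₀ ∈ N := by rw [hs₀]; exact sN.2
  have ht₀N : t₀ ∈ N := by rw [ht₀]; exact tN.2
  have hss : s₀ * s₀ * (s₀ * s₀) = 1 := by
    rw [hs₀]; exact_mod_cast congrArg Subtype.val hssN
  have htt : t₀ * t₀ = s₀ * s₀ := by
    rw [hs₀, ht₀]; exact_mod_cast congrArg Subtype.val httN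
  have hstz : s₀ * t₀ = t₀ * s₀ * (s₀ * s₀) := by
    rw [hs₀, ht₀]; exact_mod_cast congrArg Subtype.val hstzN
  have hz1 : s₀ * s₀ ≠ 1 := by
    rw [hs₀]; exact fun h => hz1N (Subtype.ext h)
  have hna : ¬ ∀ a ∈ N, ∀ b ∈ N, a * b = b * a := by
    intro h
    exact hstN (Subtype.ext (h sN sN.2 tN tN.2))
  obtain ⟨s, hs⟩ : ∃ s : V ≃ₗ[ZMod p] V, s = ρ s₀ := ⟨_, rfl⟩
  obtain ⟨t, ht'⟩ : ∃ t : V ≃ₗ[ZMod p] V, t = ρ t₀ := ⟨_, rfl⟩
  have hzneg : ∀ v, s (s v) = -v := by
    intro v
    have h1 := invol_neg hf (z := s₀ * s₀) hss hz1 v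
    rw [rho_mul] at h1
    rw [hs]; exact h1
  have htneg : ∀ v, t (t v) = -v := by
    intro v
    have h3 : ρ (t₀ * t₀) v = ρ (s₀ * s₀) v := by rw [htt]
    rw [rho_mul, rho_mul] at h3
    rw [← hzneg v, hs, ht']; exact h3
  have hanti : ∀ v, s (t v) = -(t (s v)) := by
    intro v
    have h3 : ρ (s₀ * t₀) v = ρ (t₀ * s₀ * (s₀ * s₀)) v := by rw [← hstz]
    rw [rho_mul, rho_mul, rho_mul, rho_mul] at h3
    have h4 : s (t v) = t (s (s (s v))) := by rw [hs, ht']; exact h3
    rw [h4, hzneg, map_neg]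
  have h2ne : (2 : ZMod p) ≠ 0 := by
    intro h2
    obtain ⟨v₀, hv₀⟩ := exists_ne (0 : V)
    have h3 : s (s v₀) = v₀ := by
      rw [hzneg]
      have h4 : (2 : ZMod p) • v₀ = 0 := by rw [h2, zero_smul]
      rw [two_smul] at h4
      exact (eq_neg_of_add_eq_zero_left h4).symm
    rw [hs, ← rho_mul] at h3
    exact hv₀ (hf (s₀ * s₀) hz1 v₀ h3)
  obtain ⟨ca, cb, hab⟩ := ZMod.sq_add_sq p (-1)
  have hab' : ca * ca + cb * cb = -1 := by rw [← hab]; ring
  obtain ⟨U, hU⟩ : ∃ U : V →ₗ[ZMod p] V, ∀ v, U v = ca • s v + cb • t v :=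
    ⟨ca • (s : V →ₗ[ZMod p] V) + cb • (t : V →ₗ[ZMod p] V), fun v => rfl⟩
  have hUU : ∀ v, U (U v) = v := by
    intro v
    rw [hU (U v), hU v]
    simp only [map_add, map_smul, hzneg, htneg, hanti]
    have h1 : (ca * ca + cb * cb) • v = -v := by rw [hab', neg_one_smul]
    have h2 : ca • (ca • -v + cb • -t (s v)) + cb • (ca • t (s v) + cb • -v)
        = -((ca * ca + cb * cb) • v) := by module
    rw [h2, h1, neg_neg]
  obtain ⟨v₀, hv₀⟩ := exists_ne (0 : V)
  obtain ⟨v', hv', ε, hε, hUv⟩ : ∃ v' : V, v' ≠ 0 ∧ ∃ ε : ZMod p, ε * ε = 1 ∧ U v' = ε • v' := by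
    by_cases h : U v₀ + v₀ = 0
    · refine ⟨v₀, hv₀, -1, by ring, ?_⟩
      rw [neg_one_smul]; exact eq_neg_of_add_eq_zero_left h
    · refine ⟨U v₀ + v₀, h, 1, by ring, ?_⟩
      rw [map_add, hUU, one_smul, add_comm]
  obtain ⟨w, hw⟩ : ∃ w : V, w = s (t v') := ⟨_, rfl⟩
  have E1 : ca • s v' + cb • t v' = ε • v' := by rw [← hU]; exact hUv
  have E2 : ca • t v' - cb • s v' = ε • w := by
    have h := congrArg (fun x => s (t x)) E1
    simp only [map_add, map_smul] at h
    have h1 : s (t (s v')) = t v' := by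
      rw [hanti (s v'), hzneg, map_neg, neg_neg]
    have h2 : s (t (t v')) = - s v' := by rw [htneg, map_neg]
    rw [h1, h2, ← hw] at h
    rw [← h]; module
  have hX : s v' = ε • (cb • w - ca • v') := by
    have h : (ca * ca + cb * cb) • s v' = ca • (ε • v') - cb • (ε • w) := by
      rw [← E1, ← E2]; module
    rw [hab', neg_one_smul] at h
    rw [← neg_neg (s v'), h]; module
  have hY : t v' = -(ε • (cb • v' + ca • w)) := by
    have h : (ca * ca + cb * cb) • t v' = cb • (ε • v') + ca • (ε • w) := by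
      rw [← E1, ← E2]; module
    rw [hab', neg_one_smul] at h
    rw [← neg_neg (t v'), h]; module
  have hsw : s w = - t v' := by rw [hw, hzneg]
  have htw : t w = s v' := by
    have h := hanti (t v')
    rw [htneg, map_neg] at h
    rw [hw]; exact (neg_injective h).symm
  obtain ⟨W, hWdef⟩ : ∃ W : Submodule (ZMod p) V, W = Submodule.span (ZMod p) {v', w} :=
    ⟨_, rfl⟩
  have hv'W : v' ∈ W := by rw [hWdef]; exact Submodule.subset_span (by simp)
  have hwW : w ∈ W := by rw [hWdef]; exact Submodule.subset_span (by simp)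
  have hXW : s v' ∈ W := by
    rw [hX]
    exact W.smul_mem _ (W.sub_mem (W.smul_mem _ hwW) (W.smul_mem _ hv'W))
  have hYW : t v' ∈ W := by
    rw [hY]
    exact W.neg_mem (W.smul_mem _ (W.add_mem (W.smul_mem _ hv'W) (W.smul_mem _ hwW)))
  have hsW : ∀ x ∈ W, s x ∈ W := by
    intro x hx
    rw [hWdef] at hx
    obtain ⟨c, d, rfl⟩ := Submodule.mem_span_pair.1 hx
    rw [map_add, map_smul, map_smul, hsw]
    exact W.add_mem (W.smul_mem _ hXW) (W.smul_mem _ (W.neg_mem hYW))
  have htW : ∀ x ∈ W, t x ∈ W := by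
    intro x hx
    rw [hWdef] at hx
    obtain ⟨c, d, rfl⟩ := Submodule.mem_span_pair.1 hx
    rw [map_add, map_smul, map_smul, htw]
    exact W.add_mem (W.smul_mem _ hYW) (W.smul_mem _ hXW)
  have hNW : Inv ρ N W := by
    intro n hn
    exact q8_ind' e hstN (fun n : N => ∀ v ∈ W, ρ (n : G) v ∈ W)
      (fun v hv => by
        show ρ 1 v ∈ W
        rw [rho_one]; exact hv)
      (fun v hv => by
        have h1 := htW v hv
        rw [ht', ht₀] at h1; exact h1)
      (fun g hg v hv => by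
        have h1 := hsW _ (hg v hv)
        rw [hs, hs₀, ← rho_mul] at h1; exact h1) ⟨n, hn⟩
  have hWtop : W = ⊤ := by
    rcases FpfLin.irreducible_of_normal hf ht N hna W hNW with h | h
    · rw [h] at hv'W
      exact absurd ((Submodule.mem_bot _).1 hv'W) hv'
    · exact h
  have hUw : U w = -(ε • w) := by
    rw [hU, hsw, htw, ← E2]; module
  have hw0 : w ≠ 0 := by
    rw [hw]; simpa using hv'
  have hε0 : ε ≠ 0 := by
    rintro rfl
    simp at hε
  have key0 : ∀ y : ZMod p, (2 * ε * y) • w = 0 → y = 0 := by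
    intro y h2
    rcases smul_eq_zero.1 h2 with h3 | h3
    · rcases mul_eq_zero.1 h3 with h4 | h4
      · rcases mul_eq_zero.1 h4 with h5 | h5
        · exact absurd h5 h2ne
        · exact absurd h5 hε0
      · exact h4
    · exact absurd h3 hw0
  have hind : ∀ c d : ZMod p, c • v' + d • w = 0 → c = 0 ∧ d = 0 := by
    intro c d h
    have h1 := congrArg U h
    rw [map_add, map_smul, map_smul, hUv, hUw, map_zero] at h1
    have h2 : (2 * ε * d) • w = 0 := by
      have h3 : (2 * ε * d) • w = ε • (c • v' + d • w) - (c • ε • v' + d • -(ε • w)) := by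
        module
      rw [h3, h, h1]; simp
    have hd : d = 0 := key0 d h2
    subst hd
    rw [zero_smul, add_zero] at h
    rcases smul_eq_zero.1 h with h3 | h3
    · exact ⟨h3, rfl⟩
    · exact absurd h3 hv'
  have hspan : ∀ x : V, ∃ c d : ZMod p, c • v' + d • w = x := by
    intro x
    have hx : x ∈ W := by rw [hWtop]; trivial
    rw [hWdef] at hx
    exact Submodule.mem_span_pair.1 hx
  have hcard : Nat.card V = p ^ 2 := by
    have hφ : Function.Bijective (fun x : ZMod p × ZMod p => x.1 • v' + x.2 • w) := by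
      constructor
      · rintro ⟨c, d⟩ ⟨c', d'⟩ h
        have h' : c • v' + d • w = c' • v' + d' • w := h
        have h1 : (c - c') • v' + (d - d') • w = 0 := by
          have h2 : (c - c') • v' + (d - d') • w = (c • v' + d • w) - (c' • v' + d' • w) := by
            module
          rw [h2, h', sub_self]
        obtain ⟨h2, h3⟩ := hind _ _ h1
        rw [sub_eq_zero.1 h2, sub_eq_zero.1 h3]
      · intro x
        obtain ⟨c, d, hcd⟩ := hspan x
        exact ⟨(c, d), hcd⟩
    rw [← Nat.card_congr (Equiv.ofBijective _ hφ), Nat.card_prod, Nat.card_zmod, sq]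
  obtain ⟨C, hC⟩ : ∃ C : Subgroup G, C = Subgroup.centralizer (N : Set G) := ⟨_, rfl⟩
  -- elements of the centraliser are scalars
  have hscal : ∀ c ∈ C, ∃ x : ZMod p, ∀ v : V, ρ c v = x • v := by
    intro c hc
    rw [hC] at hc
    have hcs : ∀ x, ρ c (s x) = s (ρ c x) := by
      intro x
      have h1 := Subgroup.mem_centralizer_iff.1 hc s₀ hs₀N
      have h2 : ρ (s₀ * c) x = ρ (c * s₀) x := by rw [h1]
      rw [rho_mul, rho_mul] at h2
      rw [hs]; exact h2.symm
    have hct : ∀ x, ρ c (t x) = t (ρ c x) := by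
      intro x
      have h1 := Subgroup.mem_centralizer_iff.1 hc t₀ ht₀N
      have h2 : ρ (t₀ * c) x = ρ (c * t₀) x := by rw [h1]
      rw [rho_mul, rho_mul] at h2
      rw [ht']; exact h2.symm
    have hUc : U (ρ c v') = ε • ρ c v' := by
      calc U (ρ c v')
          = ca • s (ρ c v') + cb • t (ρ c v') := hU _
        _ = ca • ρ c (s v') + cb • ρ c (t v') := by rw [hcs, hct]
        _ = ρ c (ca • s v' + cb • t v') := by rw [map_add, map_smul, map_smul]
        _ = ε • ρ c v' := by rw [E1, map_smul]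
    obtain ⟨x, y, hxy⟩ := hspan (ρ c v')
    rw [← hxy] at hUc
    rw [map_add, map_smul, map_smul, hUv, hUw] at hUc
    have h2 : (2 * ε * y) • w = 0 := by
      have h3 : (2 * ε * y) • w = ε • (x • v' + y • w) - (x • ε • v' + y • -(ε • w)) := by
        module
      rw [h3, hUc, sub_self]
    have hy : y = 0 := key0 y h2
    subst hy
    rw [zero_smul, add_zero] at hxy
    have hcw : ρ c w = x • w := by
      rw [hw, hcs, hct, ← hxy, map_smul, map_smul]
    refine ⟨x, fun v => ?_⟩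
    obtain ⟨c₁, d₁, rfl⟩ := hspan v
    rw [map_add, map_smul, map_smul, hcw, ← hxy]
    module
  have hcen : ∀ c ∈ C, ∀ g : G, c * g = g * c := by
    intro c hc g
    obtain ⟨x, hx⟩ := hscal c hc
    apply eq_of_apply_eq hf hv₀
    rw [rho_mul, rho_mul, hx, hx, map_smul]
  have hCinv : ∀ c : C, ∀ v ∈ Submodule.span (ZMod p) {v'},
      (ρ.comp C.subtype) c v ∈ Submodule.span (ZMod p) {v'} := by
    intro c v hv
    obtain ⟨x, hx⟩ := hscal c c.2
    show ρ (c : G) v ∈ Submodule.span (ZMod p) {v'}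
    rw [hx]
    exact Submodule.smul_mem _ _ hv
  have hCcard : Nat.card C ∣ p - 1 := by
    have h := fpf_dvd_sub (HupA.fpf_sub hf C) (Submodule.span (ZMod p) {v'}) hCinv
    rwa [← FiniteField.pow_finrank_eq_natCard p (Submodule.span (ZMod p) {v'}),
      finrank_span_singleton hv', pow_one] at h
  haveI : Finite (NCPair N) := by
    unfold NCPair; infer_instance
  have hidx : C.index ∣ 24 := by
    have h := index_dvd_card_of_stabilizer_eq (G := G) (Ω := NCPair N) C
      (fun q => by rw [hC]; exact nc_stab N e q)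
    rwa [nc_card N e] at h
  have hp2 : p ≠ 2 := by
    intro h
    have h3 : ((2 : ℕ) : ZMod p) = 0 := (ZMod.natCast_eq_zero_iff 2 p).mpr (by rw [h])
    exact h2ne (by exact_mod_cast h3)
  rw [hC] at hcen hCcard hidx
  exact ⟨hp2, hcard, hcen, hCcard, hidx⟩

end Cfsg.Agent.Lib.Helper12.HupQ
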