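import Mathlib
import Cfsg.Agent.Lib.Helper12.HupQ
import Cfsg.Agent.Lib.Helper12.HupT
import Cfsg.Agent.Lib.Helper12.ZsA
import Cfsg.Agent.Lib.Helper12.PerfA
import Cfsg.Agent.Lib.Helper2.SL23
import Cfsg.Agent.S3742

/-!
# Huppert's theorem, the quaternion case: identification (helper12)

`d2`: if `G` is regular on the non-zero vectors of the `ZMod p`-module `V`, `p ≠ 3`, and `G` has a
normal subgroup isomorphic to the quaternion group of order 8, then `|V|` is one of
`25, 49, 121, 529` and `G` has a normal subgroup of index two, or is `SL(2,3)` (`|V| = 25`) or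
`SL(2,3) × C₅` (`|V| = 121`).
-/

set_option autoImplicit false

namespace Cfsg.Agent.Lib.Helper12.HupR

open QuaternionGroup Subgroup
open Cfsg.Agent.Lib.Helper12.FpfLin
open Cfsg.Agent.Lib.Helper12.NearJ
open Cfsg.Agent.Lib.Helper12.ZsA
open Cfsg.Agent.Lib.Helper12.PerfA

theorem arith1 (p : ℕ) (hp : p.Prime) (h2 : p ≠ 2) (h3 : p ≠ 3) (h : (p + 1) ∣ 24) :
    p = 5 ∨ p = 7 ∨ p = 11 ∨ p = 23 := by
  have hle : p ≤ 23 := by
    have := Nat.le_of_dvd (by norm_num) h
    omega
  interval_cases p <;> first | omega | (exfalso; revert hp; decide) | (exfalso; revert h; decide)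

variable {G : Type*} [Group G]

/-- The conjugation action on a normal quaternion subgroup, as a homomorphism to `S₄`. -/
theorem s4_hom (N : Subgroup G) [N.Normal] (e : N ≃* QuaternionGroup 2) :
    ∃ f : G →* Equiv.Perm (Fin 4), f.ker = centralizer (N : Set G) := by
  obtain ⟨ψ⟩ := Cfsg.Agent.S3742.result
  refine ⟨(ψ.toMonoidHom.comp (MulAut.congr e).toMonoidHom).comp (MulAut.conjNormal (H := N)), ?_⟩
  ext x
  rw [MonoidHom.mem_ker, mem_centralizer_iff]
  show ψ (MulAut.congr e (MulAut.conjNormal x)) = 1 ↔ _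
  rw [MulEquiv.map_eq_one_iff, MulEquiv.map_eq_one_iff]
  constructor
  · intro h t ht
    have h2 := congrArg (fun φ : MulAut N => ((φ ⟨t, ht⟩ : N) : G)) h
    simp only [MulAut.conjNormal_apply, MulAut.one_apply] at h2
    calc t * x = (x * t * x⁻¹) * x := by rw [h2]
      _ = x * t := by group
  · intro h
    ext t
    rw [MulAut.conjNormal_apply, MulAut.one_apply]
    have := h t t.2
    calc x * t * x⁻¹ = (t * x) * x⁻¹ := by rw [this]
      _ = t := by group

theorem index_two_of_idx24 [Finite G] (N : Subgroup G) [N.Normal] (e : N ≃* QuaternionGroup 2)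
    (h : (centralizer (N : Set G)).index = 24) : ∃ N' : Subgroup G, N'.Normal ∧ N'.index = 2 := by
  obtain ⟨f, hf⟩ := s4_hom N e
  have hr : Nat.card f.range = Nat.card (Equiv.Perm (Fin 4)) := by
    rw [← Subgroup.index_ker, hf, h, card_S4]
  have hs := surj_of_card f hr
  exact HupT.index_two_comap f hs (alternatingGroup (Fin 4)) alternatingGroup.index_eq_two

theorem index_two_of_idx8 [Finite G] (N : Subgroup G) [N.Normal]
    (h : (centralizer (N : Set G)).index = 8) : ∃ N' : Subgroup G, N'.Normal ∧ N'.index = 2 := by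
  have hq : Nat.card (G ⧸ centralizer (N : Set G)) = 2 ^ (2 + 1) := by
    rw [← Subgroup.index_eq_card, h]; norm_num
  exact HupT.index_two_of_two_quotient (QuotientGroup.mk' _) (QuotientGroup.mk'_surjective _) hq

/-- The order of `N⟨x⟩` for `N ≅ Q₈` normal and `x` of order three. -/
theorem card_sup [Finite G] (N : Subgroup G) [N.Normal] (e : N ≃* QuaternionGroup 2) (x : G)
    (hx : orderOf x = 3) : Nat.card ↥(N ⊔ zpowers x) = 24 := by
  have h8 : Nat.card N = 8 := k8_card e
  have h3 : Nat.card (zpowers x) = 3 := by rw [Nat.card_zpowers, hx]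
  have d8 : 8 ∣ Nat.card ↥(N ⊔ zpowers x) := by
    rw [← h8]; exact Subgroup.card_dvd_of_le le_sup_left
  have d3 : 3 ∣ Nat.card ↥(N ⊔ zpowers x) := by
    rw [← h3]; exact Subgroup.card_dvd_of_le le_sup_right
  have hmul : Nat.card N * N.relIndex (N ⊔ zpowers x) = Nat.card ↥(N ⊔ zpowers x) := by
    have := Subgroup.relIndex_mul_relIndex ⊥ N (N ⊔ zpowers x) bot_le le_sup_left
    rwa [Subgroup.relIndex_bot_left, Subgroup.relIndex_bot_left] at this
  have hr : N.relIndex (N ⊔ zpowers x) ∣ 3 := by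
    rw [Subgroup.relIndex_sup_left, ← h3]
    exact Subgroup.relIndex_dvd_card _ _
  rw [h8] at hmul
  rcases (Nat.dvd_prime Nat.prime_three).mp hr with h | h
  · rw [h] at hmul
    omega
  · rw [h] at hmul
    omega

/-- `N⟨x⟩ ≅ SL(2,3)` for `N ≅ Q₈` normal and `x` of order three not centralising `N`. -/
theorem sl23_of_sup (N : Subgroup G) [N.Normal] (e : N ≃* QuaternionGroup 2) (x : G)
    (hx3 : x ^ 3 = 1) (hxC : ∃ q ∈ N, x * q ≠ q * x) :
    Nonempty (↥(N ⊔ zpowers x) ≃* Matrix.SpecialLinearGroup (Fin 2) (ZMod 3)) := by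
  obtain ⟨H, hH⟩ : ∃ H : Subgroup G, H = N ⊔ zpowers x := ⟨_, rfl⟩
  rw [← hH]
  have hNH : N ≤ H := by rw [hH]; exact le_sup_left
  have hxH : x ∈ H := by
    rw [hH]; exact (le_sup_right : zpowers x ≤ N ⊔ zpowers x) (mem_zpowers x)
  let e' : N.subgroupOf H ≃* QuaternionGroup 2 := (Subgroup.subgroupOfEquivOfLe hNH).trans e
  haveI : (N.subgroupOf H).Normal := inferInstance
  refine Cfsg.Agent.Lib.Helper2.SL23.iso_sl23 (N.subgroupOf H) e' ⟨x, hxH⟩ ?_ ?_ ?_ ?_
  · exact Subtype.ext (by simpa using hx3)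
  · rw [Subgroup.normalizer_eq_top]; exact Subgroup.mem_top _
  · obtain ⟨q, hq, hne⟩ := hxC
    refine ⟨⟨q, hNH hq⟩, ?_, ?_⟩
    · rw [Subgroup.mem_subgroupOf]; exact hq
    · intro h
      exact hne (congrArg Subtype.val h)
  · apply Subgroup.map_injective H.subtype_injective
    rw [Subgroup.map_sup, Subgroup.map_subgroupOf_eq_of_le hNH, MonoidHom.map_zpowers,
      ← MonoidHom.range_eq_map, Subgroup.range_subtype]
    exact hH.symm

/-- A group of order 24 with a normal `Q₈` whose centraliser has order prime to three is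
`SL(2,3)`. -/
theorem sl23_of_card24 [Finite G] (N : Subgroup G) [N.Normal] (e : N ≃* QuaternionGroup 2)
    (hG : Nat.card G = 24) (hC : ¬ 3 ∣ Nat.card (centralizer (N : Set G))) :
    Nonempty (G ≃* Matrix.SpecialLinearGroup (Fin 2) (ZMod 3)) := by
  haveI : Fact (Nat.Prime 3) := ⟨Nat.prime_three⟩
  obtain ⟨x, hx⟩ := exists_prime_orderOf_dvd_card' (G := G) 3 (by rw [hG]; norm_num)
  have hx3 : x ^ 3 = 1 := by rw [← hx]; exact pow_orderOf_eq_one x
  have hxC : ∃ q ∈ N, x * q ≠ q * x := by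
    by_contra hcon
    push Not at hcon
    apply hC
    have hxc : x ∈ centralizer (N : Set G) := by
      rw [mem_centralizer_iff]
      intro q hq
      exact (hcon q hq).symm
    have h1 : orderOf (⟨x, hxc⟩ : centralizer (N : Set G)) = 3 := by
      rw [Subgroup.orderOf_mk]; exact hx
    rw [← h1]
    exact orderOf_dvd_natCard _
  have hgen : N ⊔ zpowers x = ⊤ := by
    rw [← Subgroup.card_eq_iff_eq_top, card_sup N e x hx, hG]
  exact Cfsg.Agent.Lib.Helper2.SL23.iso_sl23 N e x hx3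
    (by rw [Subgroup.normalizer_eq_top]; exact Subgroup.mem_top _) hxC hgen

/-- A group of order 120 with a normal `Q₈` whose centraliser is central of order divisible by
five and prime to three is `SL(2,3) × C₅`. -/
theorem sl23_c5_of_card120 [Finite G] (N : Subgroup G) [N.Normal] (e : N ≃* QuaternionGroup 2)
    (hG : Nat.card G = 120)
    (hcen : ∀ c ∈ centralizer (N : Set G), ∀ g : G, c * g = g * c)
    (hC3 : ¬ 3 ∣ Nat.card (centralizer (N : Set G)))
    (hC5 : 5 ∣ Nat.card (centralizer (N : Set G))) :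
    Nonempty (G ≃* Matrix.SpecialLinearGroup (Fin 2) (ZMod 3) × Multiplicative (ZMod 5)) := by
  haveI : Fact (Nat.Prime 3) := ⟨Nat.prime_three⟩
  haveI : Fact (Nat.Prime 5) := ⟨by norm_num⟩
  obtain ⟨x, hx⟩ := exists_prime_orderOf_dvd_card' (G := G) 3 (by rw [hG]; norm_num)
  have hx3 : x ^ 3 = 1 := by rw [← hx]; exact pow_orderOf_eq_one x
  have hxC : ∃ q ∈ N, x * q ≠ q * x := by
    by_contra hcon
    push Not at hcon
    apply hC3
    have hxc : x ∈ centralizer (N : Set G) := by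
      rw [mem_centralizer_iff]
      intro q hq
      exact (hcon q hq).symm
    have h1 : orderOf (⟨x, hxc⟩ : centralizer (N : Set G)) = 3 := by
      rw [Subgroup.orderOf_mk]; exact hx
    rw [← h1]
    exact orderOf_dvd_natCard _
  obtain ⟨d', hd'⟩ := exists_prime_orderOf_dvd_card' (G := centralizer (N : Set G)) 5 hC5
  obtain ⟨d, hd⟩ : ∃ d : G, d = (d' : G) := ⟨_, rfl⟩
  have hdC : d ∈ centralizer (N : Set G) := by rw [hd]; exact d'.2
  have hd5 : orderOf d = 5 := by rw [hd, Subgroup.orderOf_coe]; exact hd'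
  obtain ⟨H, hH⟩ : ∃ H : Subgroup G, H = N ⊔ zpowers x := ⟨_, rfl⟩
  obtain ⟨M, hM⟩ : ∃ M : Subgroup G, M = zpowers d := ⟨_, rfl⟩
  have hHcard : Nat.card H = 24 := by rw [hH]; exact card_sup N e x hx
  have hMcard : Nat.card M = 5 := by rw [hM, Nat.card_zpowers, hd5]
  have hMC : M ≤ centralizer (N : Set G) := by
    rw [hM, zpowers_le]; exact hdC
  have hinf : H ⊓ M = ⊥ :=
    Subgroup.inf_eq_bot_of_coprime (by rw [hHcard, hMcard]; norm_num)
  have hcomm : ∀ s ∈ H, ∀ m ∈ M, s * m = m * s := fun s _ m hm => (hcen m (hMC hm) s).symm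
  obtain ⟨θ⟩ := prod_equiv H M hinf hcomm
  have htop : H ⊔ M = ⊤ := by
    rw [← Subgroup.card_eq_iff_eq_top, hG]
    have d24 : 24 ∣ Nat.card ↥(H ⊔ M) := by
      rw [← hHcard]; exact Subgroup.card_dvd_of_le le_sup_left
    have d5 : 5 ∣ Nat.card ↥(H ⊔ M) := by
      rw [← hMcard]; exact Subgroup.card_dvd_of_le le_sup_right
    have d120 : 120 ∣ Nat.card ↥(H ⊔ M) :=
      (Nat.Coprime.mul_dvd_of_dvd_of_dvd (by norm_num : Nat.Coprime 24 5) d24 d5)
    have hle : Nat.card ↥(H ⊔ M) ∣ 120 := by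
      rw [← hG]; exact Subgroup.card_subgroup_dvd_card _
    exact Nat.dvd_antisymm hle d120
  obtain ⟨θ₁⟩ : Nonempty (H ≃* Matrix.SpecialLinearGroup (Fin 2) (ZMod 3)) := by
    rw [hH]; exact sl23_of_sup N e x hx3 hxC
  have θ₂ : M ≃* Multiplicative (ZMod 5) :=
    mulEquivOfPrimeCardEq (p := 5) hMcard
      (by rw [Nat.card_congr Multiplicative.toAdd, Nat.card_zmod])
  have θ₃ : ↥(H ⊔ M) ≃* G := (MulEquiv.subgroupCongr htop).trans Subgroup.topEquiv
  exact ⟨θ₃.symm.trans (θ.symm.trans (MulEquiv.prodCongr θ₁ θ₂))⟩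

variable {p : ℕ} [Fact p.Prime] {V : Type*} [AddCommGroup V] [Module (ZMod p) V] [Finite V]
  [Nontrivial V]

/-- **Huppert, quaternion case**. -/
theorem d2 [Finite G] {ρ : G →* (V ≃ₗ[ZMod p] V)} (hf : IsFpf ρ) (ht : IsTrans ρ)
    (N : Subgroup G) (hNn : N.Normal) (e : N ≃* QuaternionGroup 2) (hp3 : p ≠ 3) :
    Nat.card V ∈ ({25, 49, 121, 529} : Set ℕ) ∧
    ((∃ N' : Subgroup G, N'.Normal ∧ N'.index = 2) ∨
      (Nat.card V = 25 ∧ Nonempty (G ≃* Matrix.SpecialLinearGroup (Fin 2) (ZMod 3))) ∨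
      (Nat.card V = 121 ∧
        Nonempty (G ≃* Matrix.SpecialLinearGroup (Fin 2) (ZMod 3) × Multiplicative (ZMod 5)))) := by
  haveI := hNn
  obtain ⟨hp2, hcard, hcen, hCcard, hidx⟩ := HupQ.quat_case hf ht N hNn e
  have hG := HupA.card_reg hf ht
  rw [hcard] at hG
  have hmul := (centralizer (N : Set G)).index_mul_card
  obtain ⟨idx, hidx'⟩ : ∃ idx, idx = (centralizer (N : Set G)).index := ⟨_, rfl⟩
  obtain ⟨c, hc'⟩ : ∃ c, c = Nat.card (centralizer (N : Set G)) := ⟨_, rfl⟩
  obtain ⟨n, hn⟩ : ∃ n, n = Nat.card G := ⟨_, rfl⟩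
  rw [← hidx', ← hc', ← hn] at hmul
  rw [← hidx'] at hidx
  rw [← hc'] at hCcard
  rw [← hn] at hG
  have hp1 : 1 ≤ p := (Fact.out : p.Prime).one_le
  have hcpos : 0 < c := by rw [hc']; exact Nat.card_pos
  have hdiv : (p + 1) ∣ 24 := by
    obtain ⟨k, hk⟩ := hCcard
    have h7 : (p - 1) * (p + 1) + 1 = p ^ 2 := by
      obtain ⟨m, rfl⟩ : ∃ m, p = m + 1 := ⟨p - 1, by omega⟩
      simp only [Nat.add_sub_cancel]; ring
    have h8 : (p - 1) * (p + 1) = n := Nat.add_right_cancel (h7.trans hG.symm)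
    have h5 : k * (p + 1) = idx := by
      apply Nat.eq_of_mul_eq_mul_left hcpos
      rw [← mul_assoc, ← hk, h8, ← hmul, mul_comm]
    exact (Dvd.intro_left k h5).trans hidx
  have hidxle : idx ≤ 24 := Nat.le_of_dvd (by norm_num) hidx
  rcases arith1 p Fact.out hp2 hp3 hdiv with h5 | h7 | h11 | h23
  · -- `p = 5`
    rw [h5] at hG hCcard hcard
    have hn24 : n = 24 := by omega
    have hc4 : c ∣ 4 := hCcard
    refine ⟨by rw [hcard]; simp, Or.inr (Or.inl ⟨by rw [hcard]; norm_num, ?_⟩)⟩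
    refine sl23_of_card24 N e (by rw [← hn, hn24]) ?_
    rw [← hc']
    intro h3
    have hcle : c ≤ 4 := Nat.le_of_dvd (by norm_num) hc4
    interval_cases c <;> omega
  · -- `p = 7`
    rw [h7] at hG hCcard hcard
    have hn48 : n = 48 := by omega
    have hc6 : c ∣ 6 := hCcard
    refine ⟨by rw [hcard]; simp, Or.inl ?_⟩
    have hcle : c ≤ 6 := Nat.le_of_dvd (by norm_num) hc6
    have hcases : idx = 24 ∨ idx = 8 := by
      rw [hn48] at hmul
      interval_cases c <;> interval_cases idx <;> omega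
    rcases hcases with h | h
    · exact index_two_of_idx24 N e (by rw [← hidx', h])
    · exact index_two_of_idx8 N (by rw [← hidx', h])
  · -- `p = 11`
    rw [h11] at hG hCcard hcard
    have hn120 : n = 120 := by omega
    have hc10 : c ∣ 10 := hCcard
    refine ⟨by rw [hcard]; simp, Or.inr (Or.inr ⟨by rw [hcard]; norm_num, ?_⟩)⟩
    have hcle : c ≤ 10 := Nat.le_of_dvd (by norm_num) hc10
    have hcases : c = 5 ∨ c = 10 := by
      rw [hn120] at hmul
      interval_cases c <;> interval_cases idx <;> omega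
    refine sl23_c5_of_card120 N e (by rw [← hn, hn120]) hcen ?_ ?_
    · rw [← hc']
      rcases hcases with h | h <;> rw [h] <;> norm_num
    · rw [← hc']
      rcases hcases with h | h <;> rw [h] <;> norm_num
  · -- `p = 23`
    rw [h23] at hG hCcard hcard
    have hn528 : n = 528 := by omega
    have hc22 : c ∣ 22 := hCcard
    refine ⟨by rw [hcard]; simp, Or.inl ?_⟩
    have hcle : c ≤ 22 := Nat.le_of_dvd (by norm_num) hc22
    have hcases : idx = 24 := by
      rw [hn528] at hmul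
      interval_cases idx <;> omega
    exact index_two_of_idx24 N e (by rw [← hidx', hcases])

end Cfsg.Agent.Lib.Helper12.HupR
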