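import Mathlib
import Cfsg.Agent.Lib.Helper26.J3Stmt

set_option autoImplicit false

/-!
# S3366 piece EINT: an abelian subgroup of order 27 meets `R` in a subgroup of order 9
containing `Z(R)`
-/

namespace Cfsg.Agent.Lib.Helper12.J3EINT

open Cfsg.Agent.Lib.Helper26.J3Stmt

universe u

set_option maxRecDepth 100000 in
theorem card_SL : Nat.card SL = 24 := by
  rw [Nat.card_eq_fintype_card]
  decide

theorem main : EINT.{u} := by
  intro X _ hyp hZ E hEc hE27
  obtain ⟨hfin, -, hR27, hexp, ⟨e⟩, -, -⟩ := hyp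
  obtain ⟨hZ3, hZR, hcomm, hcent, hZc⟩ := hZ
  have hRn : (R X).Normal := inferInstance
  have hEab : ∀ a ∈ E, ∀ b ∈ E, a * b = b * a := by
    intro a ha b hb
    exact congrArg Subtype.val (mul_comm' (⟨a, ha⟩ : E) ⟨b, hb⟩)
  have hdiv : Nat.divisors 27 = {1, 3, 9, 27} := by decide
  -- `R` is not abelian
  have hRna : ¬ ∀ r ∈ R X, ∀ s ∈ R X, r * s = s * r := by
    intro hab
    have h1 : R X ≤ Zc X := fun r hr => hcent r hr (fun s hs => hab r hr s hs)
    have h2 := Subgroup.card_le_of_le h1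
    have h3 : Nat.card (R X) = 27 := hR27
    omega
  -- abelian subgroups of `R` have order at most 9
  have hab9 : ∀ A : Subgroup X, A ≤ R X → (∀ a ∈ A, ∀ b ∈ A, a * b = b * a) →
      Nat.card A ≤ 9 := by
    intro A hAR hAab
    have h1 : Nat.card A ∣ 27 := hR27 ▸ Subgroup.card_dvd_of_le hAR
    have h2 : Nat.card A ≠ 27 := by
      intro h
      have h3 : A = R X := Subgroup.eq_of_le_of_card_ge hAR (by rw [h]; exact hR27.le)
      apply hRna
      rw [← h3]
      exact hAab
    have h3 : Nat.card A ∈ Nat.divisors 27 := Nat.mem_divisors.mpr ⟨h1, by norm_num⟩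
    rw [hdiv] at h3
    simp only [Finset.mem_insert, Finset.mem_singleton] at h3
    omega
  -- the index of `R`
  have hidx : (R X).index = 24 := by
    rw [Subgroup.index_eq_card, Nat.card_congr e.toEquiv, card_SL]
  have hrel : (R X).relIndex E ∣ 3 := by
    have h1 : (R X).relIndex E ∣ 24 := hidx ▸ Subgroup.relIndex_dvd_index_of_normal (R X) E
    have h2 : (R X).relIndex E ∣ 27 := hE27 ▸ Subgroup.relIndex_dvd_card (R X) E
    exact Nat.dvd_gcd h1 h2
  have hmul : Nat.card (E ⊓ R X : Subgroup X) * (R X).relIndex E = 27 := by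
    have h1 := Subgroup.card_mul_index ((R X).subgroupOf E)
    rw [hE27] at h1
    have h2 : Nat.card ((R X).subgroupOf E) = Nat.card (E ⊓ R X : Subgroup X) := by
      rw [← Subgroup.inf_subgroupOf_left (R X) E]
      exact Nat.card_congr (Subgroup.subgroupOfEquivOfLe inf_le_left).toEquiv
    rw [h2] at h1
    exact h1
  have hA9 : Nat.card (E ⊓ R X : Subgroup X) = 9 := by
    have h1 : (R X).relIndex E = 1 ∨ (R X).relIndex E = 3 :=
      (Nat.dvd_prime Nat.prime_three).mp hrel
    rcases h1 with h1 | h1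
    · exfalso
      rw [h1, mul_one] at hmul
      have h2 := hab9 (E ⊓ R X) inf_le_right
        (fun a ha b hb => hEab a ha.1 b hb.1)
      omega
    · rw [h1] at hmul
      omega
  refine ⟨?_, hA9⟩
  -- `(E ⊓ R) Z` is abelian
  obtain ⟨D, hD⟩ : ∃ D : Subgroup X, D = (E ⊓ R X) ⊔ Zc X := ⟨_, rfl⟩
  have hZcent : ∀ S : Set X, Zc X ≤ Subgroup.centralizer S := by
    intro S ζ hζ
    exact Subgroup.mem_centralizer_iff.mpr (fun h _ => hZc ζ hζ h)
  have h1 : D ≤ Subgroup.centralizer ((E ⊓ R X : Subgroup X) : Set X) := by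
    rw [hD]
    apply sup_le _ (hZcent _)
    intro a ha
    exact Subgroup.mem_centralizer_iff.mpr (fun h hh => hEab h hh.1 a ha.1)
  have h2 : D ≤ Subgroup.centralizer (D : Set X) := by
    conv_lhs => rw [hD]
    apply sup_le _ (hZcent _)
    intro a ha
    refine Subgroup.mem_centralizer_iff.mpr (fun h hh => ?_)
    exact (Subgroup.mem_centralizer_iff.mp (h1 hh) a ha).symm
  have hDR : D ≤ R X := by rw [hD]; exact sup_le inf_le_right hZR
  have hD9 := hab9 D hDR (fun a ha b hb => Subgroup.mem_centralizer_iff.mp (h2 hb) a ha)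
  have hAD : (E ⊓ R X : Subgroup X) ≤ D := by rw [hD]; exact le_sup_left
  have hADeq : (E ⊓ R X : Subgroup X) = D := Subgroup.eq_of_le_of_card_ge hAD (by omega)
  have hZD : Zc X ≤ D := by rw [hD]; exact le_sup_right
  exact (hZD.trans hADeq.ge).trans inf_le_left

end Cfsg.Agent.Lib.Helper12.J3EINT
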