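import Mathlib
import Cfsg.Agent.Lib.Helper26.J3Stmt

set_option autoImplicit false

/-!
# S3366 piece FR3: the normal form `ι u * z ^ c` on `R = 3^{1+2}`
-/

namespace Cfsg.Agent.Lib.Helper12.J3FR3

open Cfsg.Agent.Lib.Helper26.J3Stmt

universe u

theorem card_VZ : Nat.card (V × ZMod 3) = 27 := by
  rw [Nat.card_eq_fintype_card]
  rfl

theorem main : FR3.{u} := by
  intro X _ hyp hZ r1 hr1 r2 hr2 hne
  obtain ⟨hfin, -, hR27, hexp, -, -, -⟩ := hyp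
  obtain ⟨hZ3, hZR, hcomm, hcent, hZc⟩ := hZ
  have hfact3 : Fact (Nat.Prime 3) := ⟨Nat.prime_three⟩
  obtain ⟨z0, hz0⟩ : ∃ z0, z0 = r1 * r2 * r1⁻¹ * r2⁻¹ := ⟨_, rfl⟩
  have hz0Z : z0 ∈ Zc X := hz0 ▸ hcomm r1 hr1 r2 hr2
  have hz0c : ∀ x : X, Commute x z0 := fun x => hZc z0 hz0Z x
  have hz0R : z0 ∈ R X := hZR hz0Z
  have hz03 : z0 ^ 3 = 1 := hexp z0 hz0R
  have hz01 : z0 ≠ 1 := by
    intro h
    apply hne
    have h1 : r1 * r2 = (r1 * r2 * r1⁻¹ * r2⁻¹) * (r2 * r1) := by group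
    rw [h1, ← hz0, h, one_mul]
  have hord : orderOf z0 = 3 := orderOf_eq_prime hz03 hz01
  have hordi : orderOf z0⁻¹ = 3 := by rw [orderOf_inv, hord]
  -- conjugation formulas
  have hc1 : ∀ b : ℕ, r1 * r2 ^ b * r1⁻¹ = z0 ^ b * r2 ^ b := by
    intro b
    induction b with
    | zero => simp
    | succ b ih =>
      calc r1 * r2 ^ (b + 1) * r1⁻¹
          = (r1 * r2 ^ b * r1⁻¹) * (r1 * r2 * r1⁻¹ * r2⁻¹) * r2 := by rw [pow_succ]; group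
        _ = z0 ^ b * (r2 ^ b * z0) * r2 := by rw [ih, ← hz0]; simp only [mul_assoc]
        _ = z0 ^ b * (z0 * r2 ^ b) * r2 := by rw [(hz0c (r2 ^ b)).eq]
        _ = z0 ^ (b + 1) * r2 ^ (b + 1) := by rw [pow_succ, pow_succ]; simp only [mul_assoc]
  have hbase : r2 * r1 * r2⁻¹ = z0⁻¹ * r1 := by rw [hz0]; group
  have hc2 : ∀ a : ℕ, r2 * r1 ^ a * r2⁻¹ = (z0⁻¹) ^ a * r1 ^ a := by
    intro a
    induction a with
    | zero => simp
    | succ a ih =>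
      calc r2 * r1 ^ (a + 1) * r2⁻¹
          = (r2 * r1 ^ a * r2⁻¹) * (r2 * r1 * r2⁻¹) := by rw [pow_succ]; group
        _ = (z0⁻¹) ^ a * (r1 ^ a * z0⁻¹) * r1 := by rw [ih, hbase]; simp only [mul_assoc]
        _ = (z0⁻¹) ^ a * (z0⁻¹ * r1 ^ a) * r1 := by rw [((hz0c (r1 ^ a)).inv_right).eq]
        _ = (z0⁻¹) ^ (a + 1) * r1 ^ (a + 1) := by rw [pow_succ, pow_succ]; simp only [mul_assoc]
  have hL1 : ∀ (a b : ℕ) (ζ : X), (∀ x, Commute x ζ) →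
      r1 * (r1 ^ a * r2 ^ b * ζ) * r1⁻¹ = z0 ^ b * (r1 ^ a * r2 ^ b * ζ) := by
    intro a b ζ hζ
    have hconj : r1 * ζ * r1⁻¹ = ζ := by rw [(hζ r1).eq, mul_inv_cancel_right]
    calc r1 * (r1 ^ a * r2 ^ b * ζ) * r1⁻¹
        = r1 ^ a * (r1 * r2 ^ b * r1⁻¹) * (r1 * ζ * r1⁻¹) := by group
      _ = r1 ^ a * z0 ^ b * (r2 ^ b * ζ) := by rw [hc1 b, hconj]; simp only [mul_assoc]
      _ = z0 ^ b * r1 ^ a * (r2 ^ b * ζ) := by rw [((hz0c (r1 ^ a)).pow_right b).eq]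
      _ = z0 ^ b * (r1 ^ a * r2 ^ b * ζ) := by simp only [mul_assoc]
  have hL2 : ∀ (a b : ℕ) (ζ : X), (∀ x, Commute x ζ) →
      r2 * (r1 ^ a * r2 ^ b * ζ) * r2⁻¹ = (z0⁻¹) ^ a * (r1 ^ a * r2 ^ b * ζ) := by
    intro a b ζ hζ
    have hconj : r2 * ζ * r2⁻¹ = ζ := by rw [(hζ r2).eq, mul_inv_cancel_right]
    calc r2 * (r1 ^ a * r2 ^ b * ζ) * r2⁻¹
        = (r2 * r1 ^ a * r2⁻¹) * r2 ^ b * (r2 * ζ * r2⁻¹) := by group
      _ = (z0⁻¹) ^ a * (r1 ^ a * r2 ^ b * ζ) := by rw [hc2 a, hconj]; simp only [mul_assoc]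
  have hcen : ∀ (m n : ℕ) (x : X), Commute x (z0 ^ m * (z0⁻¹) ^ n) := fun m n x =>
    ((hz0c x).pow_right m).mul_right (((hz0c x).inv_right).pow_right n)
  have key : ∀ (u : V) (c : ZMod 3), iotaOf r1 r2 u * zOf r1 r2 ^ c.val
      = r1 ^ (u 0).val * r2 ^ (u 1).val * (z0 ^ (u 0 * u 1).val * (z0⁻¹) ^ c.val) := by
    intro u c
    unfold iotaOf zOf
    rw [← hz0, mul_assoc]
  have hinj : ∀ (u u' : V) (c c' : ZMod 3),
      iotaOf r1 r2 u * zOf r1 r2 ^ c.val = iotaOf r1 r2 u' * zOf r1 r2 ^ c'.val →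
      u = u' ∧ c = c' := by
    intro u u' c c' h
    rw [key, key] at h
    have h1 := congrArg (fun w => r1 * w * r1⁻¹) h
    rw [hL1 _ _ _ (hcen _ _), hL1 _ _ _ (hcen _ _), ← h] at h1
    have h1' : z0 ^ (u 1).val = z0 ^ (u' 1).val := mul_right_cancel h1
    have h2 := congrArg (fun w => r2 * w * r2⁻¹) h
    rw [hL2 _ _ _ (hcen _ _), hL2 _ _ _ (hcen _ _), ← h] at h2
    have h2' : (z0⁻¹) ^ (u 0).val = (z0⁻¹) ^ (u' 0).val := mul_right_cancel h2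
    have hu1 : u 1 = u' 1 := by
      apply ZMod.val_injective 3
      rw [pow_eq_pow_iff_modEq, hord] at h1'
      exact Nat.ModEq.eq_of_lt_of_lt h1' (ZMod.val_lt _) (ZMod.val_lt _)
    have hu0 : u 0 = u' 0 := by
      apply ZMod.val_injective 3
      rw [pow_eq_pow_iff_modEq, hordi] at h2'
      exact Nat.ModEq.eq_of_lt_of_lt h2' (ZMod.val_lt _) (ZMod.val_lt _)
    have hu : u = u' := by
      funext i
      fin_cases i
      · exact hu0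
      · exact hu1
    refine ⟨hu, ?_⟩
    rw [hu] at h
    have h3 : (z0⁻¹) ^ c.val = (z0⁻¹) ^ c'.val := mul_left_cancel (mul_left_cancel h)
    apply ZMod.val_injective 3
    rw [pow_eq_pow_iff_modEq, hordi] at h3
    exact Nat.ModEq.eq_of_lt_of_lt h3 (ZMod.val_lt _) (ZMod.val_lt _)
  refine ⟨hinj, ?_⟩
  -- surjectivity by counting
  have hmem : ∀ (u : V) (c : ZMod 3), iotaOf r1 r2 u * zOf r1 r2 ^ c.val ∈ R X := by
    intro u c
    rw [key]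
    exact mul_mem (mul_mem (pow_mem hr1 _) (pow_mem hr2 _))
      (mul_mem (pow_mem hz0R _) (pow_mem (inv_mem hz0R) _))
  obtain ⟨f, hf⟩ : ∃ f : V × ZMod 3 → R X,
      ∀ p, (f p : X) = iotaOf r1 r2 p.1 * zOf r1 r2 ^ p.2.val :=
    ⟨fun p => ⟨_, hmem p.1 p.2⟩, fun p => rfl⟩
  have hfinj : Function.Injective f := by
    intro p p' hpp
    have h1 := congrArg Subtype.val hpp
    rw [hf, hf] at h1
    obtain ⟨h2, h3⟩ := hinj _ _ _ _ h1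
    exact Prod.ext h2 h3
  have hfinR : Finite (R X) := inferInstance
  have hbij : Function.Bijective f :=
    hfinj.bijective_of_nat_card_le (by rw [card_VZ]; exact hR27.le)
  intro r hr
  obtain ⟨p, hp⟩ := hbij.2 ⟨r, hr⟩
  refine ⟨p.1, p.2, ?_⟩
  rw [← hf, hp]

end Cfsg.Agent.Lib.Helper12.J3FR3
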