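import Mathlib
import Cfsg.Agent.Lib.Helper26.J3Stmt

set_option autoImplicit false

/-!
# S3366 piece T2: an involution not centralizing `R = 3^{1+2}` inverts `R / Z(R)`
-/

namespace Cfsg.Agent.Lib.Helper12.J3T2

open Cfsg.Agent.Lib.Helper26.J3Stmt

universe u

theorem main : T2.{u} := by
  intro X _ hyp hZ t ht hnc r hr
  obtain ⟨hfin, -, hR27, hexp, -, -, -⟩ := hyp
  obtain ⟨hZ3, hZR, hcomm, hcent, hZc⟩ := hZ
  have hRn : (R X).Normal := inferInstance
  have hZexp : ∀ ζ ∈ Zc X, ζ ^ 3 = 1 := fun ζ hζ => hexp ζ (hZR hζ)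
  have htt : ∀ w : X, t * (t * w * t⁻¹) * t⁻¹ = w := by
    intro w
    have h1 : t * (t * w * t⁻¹) * t⁻¹ = (t * t) * w * (t * t)⁻¹ := by group
    rw [h1, ht]; simp
  have h32 : ∀ a : X, a ^ 3 = 1 → a * a = 1 → a = 1 := by
    intro a h3 h2
    calc a = a ^ 3 * (a * a)⁻¹ := by group
      _ = 1 := by rw [h3, h2]; simp
  -- (A)
  have hA : ∀ w : X, ∀ ζ ∈ Zc X, t * w * t⁻¹ = w * ζ → ζ = 1 := by
    intro w ζ hζ hw
    have h1 := htt w
    rw [hw] at h1
    have h2 : t * (w * ζ) * t⁻¹ = w * ζ * ζ := by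
      have hc := hZc ζ hζ t⁻¹
      calc t * (w * ζ) * t⁻¹ = t * w * (ζ * t⁻¹) := by group
        _ = t * w * (t⁻¹ * ζ) := by rw [hc]
        _ = (t * w * t⁻¹) * ζ := by group
        _ = w * ζ * ζ := by rw [hw]
    rw [h2] at h1
    have h3 : ζ * ζ = 1 := by
      have h4 : w * (ζ * ζ) = w * 1 := by rw [mul_one, ← mul_assoc]; exact h1
      exact mul_left_cancel h4
    have h4 := hZexp ζ hζ
    calc ζ = ζ ^ 3 * (ζ * ζ)⁻¹ := by group
      _ = 1 := by rw [h4, h3]; simp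
  -- (B)
  have hB : ∀ r ∈ R X, t * r = r * t → r ∈ Zc X := by
    intro r hr hrt
    by_contra hrZ
    apply hnc
    obtain ⟨C, hC⟩ : ∃ C : Subgroup X, C = Subgroup.centralizer {r} ⊓ R X := ⟨_, rfl⟩
    obtain ⟨D, hD⟩ : ∃ D : Subgroup X, D = Subgroup.zpowers r ⊔ Zc X := ⟨_, rfl⟩
    have hDC : D ≤ C := by
      rw [hD, hC]
      apply sup_le
      · rw [Subgroup.zpowers_le]
        refine ⟨Subgroup.mem_centralizer_iff.mpr ?_, hr⟩
        intro h hh
        rw [Set.mem_singleton_iff] at hh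
        rw [hh]
      · intro ζ hζ
        refine ⟨Subgroup.mem_centralizer_iff.mpr ?_, hZR hζ⟩
        intro h hh
        rw [Set.mem_singleton_iff] at hh
        rw [hh]
        exact hZc ζ hζ r
    have hCR : C ≤ R X := by rw [hC]; exact inf_le_right
    have hCne : C ≠ R X := by
      intro hCe
      apply hrZ
      apply hcent r hr
      intro s hs
      have hsC : s ∈ C := hCe ▸ hs
      rw [hC] at hsC
      exact Subgroup.mem_centralizer_iff.mp hsC.1 r rfl
    have hdiv : Nat.divisors 27 = {1, 3, 9, 27} := by decide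
    have hCcard : Nat.card C ≤ 9 := by
      have h1 : Nat.card C ∣ 27 := hR27 ▸ Subgroup.card_dvd_of_le hCR
      have h2 : Nat.card C ≠ 27 := by
        intro h
        apply hCne
        exact Subgroup.eq_of_le_of_card_ge hCR (by rw [h, hR27])
      have h3 : Nat.card C ∈ Nat.divisors 27 := Nat.mem_divisors.mpr ⟨h1, by norm_num⟩
      rw [hdiv] at h3
      simp only [Finset.mem_insert, Finset.mem_singleton] at h3
      omega
    have hZD : Zc X ≤ D := by rw [hD]; exact le_sup_right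
    have hDcard : 9 ≤ Nat.card D := by
      have h1 : Nat.card D ∣ 27 := hR27 ▸ Subgroup.card_dvd_of_le (hDC.trans hCR)
      have h2 : Nat.card D ≠ 3 := by
        intro h
        apply hrZ
        have h4 : Zc X = D := Subgroup.eq_of_le_of_card_ge hZD (by rw [h, hZ3])
        rw [h4, hD]
        exact Subgroup.mem_sup_left (Subgroup.mem_zpowers r)
      have h3 : 3 ∣ Nat.card D := hZ3 ▸ Subgroup.card_dvd_of_le hZD
      have h4 : Nat.card D ∈ Nat.divisors 27 := Nat.mem_divisors.mpr ⟨h1, by norm_num⟩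
      rw [hdiv] at h4
      simp only [Finset.mem_insert, Finset.mem_singleton] at h4
      omega
    have hCD : D = C := Subgroup.eq_of_le_of_card_ge hDC (by omega)
    have hDt : ∀ a ∈ C, a * t = t * a := by
      intro a ha
      rw [← hCD, hD] at ha
      have hle : Subgroup.zpowers r ⊔ Zc X ≤ Subgroup.centralizer {t} := by
        apply sup_le
        · rw [Subgroup.zpowers_le]
          refine Subgroup.mem_centralizer_iff.mpr ?_
          intro h hh
          rw [Set.mem_singleton_iff] at hh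
          rw [hh]; exact hrt
        · intro ζ hζ
          refine Subgroup.mem_centralizer_iff.mpr ?_
          intro h hh
          rw [Set.mem_singleton_iff] at hh
          rw [hh]; exact hZc ζ hζ t
      exact (Subgroup.mem_centralizer_iff.mp (hle ha) t rfl).symm
    intro s hs
    obtain ⟨s', hs'⟩ : ∃ s', s' = t * s * t⁻¹ := ⟨_, rfl⟩
    have hs'R : s' ∈ R X := by rw [hs']; exact hRn.conj_mem s hs t
    obtain ⟨ζ, hζdef⟩ : ∃ ζ, ζ = r * s * r⁻¹ * s⁻¹ := ⟨_, rfl⟩
    have hζ : ζ ∈ Zc X := by rw [hζdef]; exact hcomm r hr s hs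
    have h1 : t * ζ * t⁻¹ = ζ := by rw [hZc ζ hζ t]; group
    have hr' : t * r * t⁻¹ = r := by rw [hrt]; group
    have h2 : r * s' * r⁻¹ * s'⁻¹ = ζ := by
      calc r * s' * r⁻¹ * s'⁻¹
          = (t * r * t⁻¹) * (t * s * t⁻¹) * (t * r * t⁻¹)⁻¹ * (t * s * t⁻¹)⁻¹ := by rw [hr', hs']
        _ = t * (r * s * r⁻¹ * s⁻¹) * t⁻¹ := by group
        _ = ζ := by rw [← hζdef]; exact h1
    have h3 : r * (s' * s⁻¹) * r⁻¹ = s' * s⁻¹ := by
      calc r * (s' * s⁻¹) * r⁻¹
          = (r * s' * r⁻¹ * s'⁻¹) * (s' * s⁻¹) * (r * s * r⁻¹ * s⁻¹)⁻¹ := by group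
        _ = ζ * (s' * s⁻¹) * ζ⁻¹ := by rw [h2, ← hζdef]
        _ = (s' * s⁻¹) * ζ * ζ⁻¹ := by rw [hZc ζ hζ (s' * s⁻¹)]
        _ = s' * s⁻¹ := by group
    have haR : s' * s⁻¹ ∈ R X := mul_mem hs'R (inv_mem hs)
    have haC : s' * s⁻¹ ∈ C := by
      rw [hC]
      refine ⟨Subgroup.mem_centralizer_iff.mpr ?_, haR⟩
      intro h hh
      rw [Set.mem_singleton_iff] at hh
      rw [hh]
      calc r * (s' * s⁻¹) = r * (s' * s⁻¹) * r⁻¹ * r := by group
        _ = s' * s⁻¹ * r := by rw [h3]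
    have hat := hDt _ haC
    -- apply `t` twice
    have h4 : s = (s' * s⁻¹) * (s' * s⁻¹) * s := by
      have h5 := htt s
      rw [← hs'] at h5
      have h6 : s' = (s' * s⁻¹) * s := by group
      have h7 : t * ((s' * s⁻¹) * s) * t⁻¹ = (s' * s⁻¹) * s' := by
        calc t * ((s' * s⁻¹) * s) * t⁻¹ = (t * (s' * s⁻¹)) * (s * t⁻¹) := by group
          _ = ((s' * s⁻¹) * t) * (s * t⁻¹) := by rw [hat]
          _ = (s' * s⁻¹) * (t * s * t⁻¹) := by group
          _ = (s' * s⁻¹) * s' := by rw [hs']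
      rw [h6, h7] at h5
      calc s = s' * s⁻¹ * s' := h5.symm
        _ = (s' * s⁻¹) * (s' * s⁻¹) * s := by group
    have h5 : (s' * s⁻¹) * (s' * s⁻¹) = 1 := by
      have h6 : (s' * s⁻¹) * (s' * s⁻¹) * s = 1 * s := by rw [one_mul]; exact h4.symm
      exact mul_right_cancel h6
    have h6 := hexp _ haR
    have h7 : s' * s⁻¹ = 1 := h32 _ h6 h5
    have h8 : s' = s := by
      calc s' = (s' * s⁻¹) * s := by group
        _ = s := by rw [h7, one_mul]
    rw [hs'] at h8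
    calc t * s = t * s * t⁻¹ * t := by group
      _ = s * t := by rw [h8]
  -- (C)
  obtain ⟨r', hr'⟩ : ∃ r', r' = t * r * t⁻¹ := ⟨_, rfl⟩
  have hr'R : r' ∈ R X := by rw [hr']; exact hRn.conj_mem r hr t
  have hζ : r' * r * r'⁻¹ * r⁻¹ ∈ Zc X := hcomm r' hr'R r hr
  have h1 : t * (r * r') * t⁻¹ = (r * r') * (r' * r * r'⁻¹ * r⁻¹) := by
    have h2 : t * (r * r') * t⁻¹ = r' * r := by
      have h3 : t * (r * r') * t⁻¹ = (t * r * t⁻¹) * (t * r' * t⁻¹) := by group
      rw [h3, ← hr', hr', htt r]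
    rw [h2, hZc _ hζ (r * r')]
    group
  have h3 := hA (r * r') _ hζ h1
  rw [← hr']
  apply hB (r * r') (mul_mem hr hr'R)
  rw [h3, mul_one] at h1
  calc t * (r * r') = t * (r * r') * t⁻¹ * t := by group
    _ = r * r' * t := by rw [h1]

end Cfsg.Agent.Lib.Helper12.J3T2
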