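import Mathlib
import Cfsg.Agent.Lib.Helper68.MixStmt

set_option autoImplicit false

/-!
# S4017 pieces: shared elementary facts about the boundary context `BCtx`
-/

namespace Cfsg.Agent.Lib.Helper12.MixAux

open Subgroup
open Cfsg.Agent.Lib.Helper68.MixStmt

universe u

variable {G : Type u} [Group G] [Finite G] {p a : ℕ} {Q : Subgroup G} {y : G}

/-- `p` is odd. -/
theorem p_ne_two (h : BCtx G p a Q y) : p ≠ 2 := by
  intro hp2
  have h1 := h.hpa
  have h2 := h.ha
  obtain ⟨b, rfl⟩ : ∃ b, a = b + 2 := ⟨a - 2, by omega⟩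
  rw [hp2, pow_add] at h1
  omega

theorem three_le_p (h : BCtx G p a Q y) : 3 ≤ p := by
  have h1 := h.hp.two_le
  have h2 := p_ne_two h
  omega

omit [Finite G] in
/-- a group of exponent two is abelian -/
theorem comm_of_exp (hexp : ∀ s ∈ Q, s * s = 1) : ∀ s ∈ Q, ∀ t ∈ Q, s * t = t * s := by
  intro s hs t ht
  have h1 := hexp s hs
  have h2 := hexp t ht
  have h3 := hexp (s * t) (mul_mem hs ht)
  have hs' : s⁻¹ = s := inv_eq_of_mul_eq_one_right h1
  have ht' : t⁻¹ = t := inv_eq_of_mul_eq_one_right h2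
  have h4 : (s * t)⁻¹ = s * t := inv_eq_of_mul_eq_one_right h3
  rw [mul_inv_rev, hs', ht'] at h4
  exact h4.symm

/-- the `2`-part of the order of a subgroup containing `Q` -/
theorem fact_two (h : BCtx G p a Q y) {X : Subgroup G} (hQX : Q ≤ X) :
    (Nat.card X).factorization 2 = a := by
  have h1 : 2 ^ a ∣ Nat.card X := by
    rw [← h.hQ]; exact Subgroup.card_dvd_of_le hQX
  have h2 : Nat.card X ∣ Nat.card G := Subgroup.card_subgroup_dvd_card X
  have hX0 : Nat.card X ≠ 0 := Nat.card_pos.ne'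
  have hG0 : Nat.card G ≠ 0 := Nat.card_pos.ne'
  have h3 : a ≤ (Nat.card X).factorization 2 :=
    (Nat.prime_two.pow_dvd_iff_le_factorization hX0).mp h1
  have h4 : (Nat.card X).factorization 2 ≤ (Nat.card G).factorization 2 :=
    (Nat.factorization_le_iff_dvd hX0 hG0).mpr h2 2
  rw [h.hfac] at h4
  omega

theorem two_dvd (h : BCtx G p a Q y) {X : Subgroup G} (hQX : Q ≤ X) : 2 ∣ Nat.card X := by
  have h1 : 2 ^ a ∣ Nat.card X := by
    rw [← h.hQ]; exact Subgroup.card_dvd_of_le hQX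
  exact (dvd_pow_self 2 (by have := h.ha; omega)).trans h1

/-- proper subgroups containing `Q` are `{2,p}`-groups -/
theorem pq_of_proper (h : BCtx G p a Q y) {X : Subgroup G} (hX : X ≠ ⊤) (hQX : Q ≤ X) :
    PQNum p 2 (Nat.card X) := h.hE X hX (two_dvd h hQX)

/-- a `{2,p}`-number with `2`-part `2 ^ a` -/
theorem eq_of_pq {n p a : ℕ} (hp2 : p ≠ 2) (hn : n ≠ 0) (h : PQNum p 2 n)
    (h2 : n.factorization 2 = a) : n = 2 ^ a * p ^ n.factorization p := by
  conv_lhs => rw [← Nat.prod_factorization_pow_eq_self hn]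
  have hsupp : n.factorization.support ⊆ {2, p} := by
    intro r hr
    rw [Nat.support_factorization, Nat.mem_primeFactors] at hr
    rcases h r hr.1 hr.2.1 with h1 | h1
    · rw [h1]; simp
    · rw [h1]; simp
  rw [Finsupp.prod_of_support_subset _ hsupp _ (fun i _ => pow_zero i),
    Finset.prod_pair (Ne.symm hp2), h2]

/-- the order of a proper subgroup containing `Q` -/
theorem card_proper (h : BCtx G p a Q y) {X : Subgroup G} (hX : X ≠ ⊤) (hQX : Q ≤ X) :
    Nat.card X = 2 ^ a * p ^ (Nat.card X).factorization p :=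
  eq_of_pq (p_ne_two h) Nat.card_pos.ne' (pq_of_proper h hX hQX) (fact_two h hQX)

/-- elements of `p`-subgroups commute when they lie in a common `p`-subgroup -/
theorem comm_of_pgroup (h : BCtx G p a Q y) {K : Subgroup G} (hK : IsPGroup p K) {x z : G}
    (hx : x ∈ K) (hz : z ∈ K) : x * z = z * x := by
  have hfact : Fact p.Prime := ⟨h.hp⟩
  obtain ⟨P, hP⟩ := hK.exists_le_sylow
  have hcomm := h.hab P
  have h1 := mul_comm' (⟨x, hP hx⟩ : (P : Subgroup G)) ⟨z, hP hz⟩
  exact congrArg Subtype.val h1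

end Cfsg.Agent.Lib.Helper12.MixAux
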