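import Mathlib
import Cfsg.Agent.Lib.Helper68.MixStmt
import Cfsg.Agent.Lib.Helper12.MixAux

set_option autoImplicit false

/-!
# S4017 piece CQY: `p`-elements of `C(Q)` commute with `y`
-/

namespace Cfsg.Agent.Lib.Helper12.MixCQY

open Subgroup
open Cfsg.Agent.Lib.Helper68.MixStmt Cfsg.Agent.Lib.Helper12.MixAux

universe u

/-- the normalizer of `Q` normalizes the centralizer of `Q` -/
theorem conj_mem_cent {G : Type u} [Group G] {Q : Subgroup G} {g z : G}
    (hg : g ∈ normalizer (Q : Set G)) (hz : z ∈ centralizer (Q : Set G)) :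
    g * z * g⁻¹ ∈ centralizer (Q : Set G) := by
  rw [Subgroup.mem_centralizer_iff] at hz ⊢
  intro s hs
  have hs' : g⁻¹ * s * g ∈ (Q : Set G) := (Subgroup.mem_normalizer_iff''.mp hg s).mp hs
  have h1 := hz _ hs'
  calc s * (g * z * g⁻¹) = g * (g⁻¹ * s * g * z) * g⁻¹ := by group
    _ = g * (z * (g⁻¹ * s * g)) * g⁻¹ := by rw [h1]
    _ = g * z * g⁻¹ * s := by group

theorem orderOf_conj_eq {G : Type u} [Group G] (g z : G) : orderOf (g * z * g⁻¹) = orderOf z := by
  rw [← MulAut.conj_apply, MulEquiv.orderOf_eq]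

theorem main (hEXP : EXP.{u}) (hNTOP : NTOP.{u}) : CQY.{u} := by
  intro G _ _ p a Q y h x hx hxp
  have hfact : Fact p.Prime := ⟨h.hp⟩
  have hexp := hEXP G p a Q y h
  have hNtop := hNTOP G p a Q y h
  have hab := comm_of_exp hexp
  obtain ⟨C, hC⟩ : ∃ C : Subgroup G, C = centralizer (Q : Set G) := ⟨_, rfl⟩
  have hQC : Q ≤ C := by
    rw [hC]
    intro s hs
    exact Subgroup.mem_centralizer_iff.mpr (fun s' hs' => hab s' hs' s hs)
  have hCN : C ≤ normalizer (Q : Set G) := by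
    rw [hC]; exact Subgroup.centralizer_le_normalizer _
  have hCtop : C ≠ ⊤ := by
    intro hCt
    apply hNtop
    rw [eq_top_iff, ← hCt]
    exact hCN
  have hcard : Nat.card C = 2 ^ a * p ^ (Nat.card C).factorization p := card_proper h hCtop hQC
  -- a Sylow `p`-subgroup of `C`
  obtain ⟨R⟩ : Nonempty (Sylow p C) := inferInstance
  have hRcard : Nat.card R = p ^ (Nat.card C).factorization p := Sylow.card_eq_multiplicity R
  have hQCcard : Nat.card (Q.subgroupOf C) = 2 ^ a := by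
    rw [← h.hQ]; exact Nat.card_congr (Subgroup.subgroupOfEquivOfLe hQC).toEquiv
  have hcompl : (Q.subgroupOf C).IsComplement' (R : Subgroup C) := by
    apply Subgroup.isComplement'_of_coprime
    · rw [hQCcard, hRcard, ← hcard]
    · rw [hQCcard, hRcard]
      exact Nat.Coprime.pow _ _ ((Nat.coprime_primes Nat.prime_two h.hp).mpr (Ne.symm (p_ne_two h)))
  have hsup : Q.subgroupOf C ⊔ (R : Subgroup C) = ⊤ := hcompl.sup_eq_top
  -- `R` is normal in `C`
  have hRnorm : (R : Subgroup C).Normal := by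
    rw [← Subgroup.normalizer_eq_top_iff, eq_top_iff, ← hsup, sup_le_iff]
    refine ⟨?_, Subgroup.le_normalizer⟩
    intro q hq
    rw [Subgroup.mem_normalizer_iff]
    intro c
    have hqc : q * c * q⁻¹ = c := by
      have hq' : (q : G) ∈ Q := Subgroup.mem_subgroupOf.mp hq
      have hc' : (c : G) ∈ centralizer (Q : Set G) := hC ▸ c.2
      have h1 : (q : G) * (c : G) = (c : G) * (q : G) := Subgroup.mem_centralizer_iff.mp hc' q hq'
      apply Subtype.ext
      rw [Subgroup.coe_mul, Subgroup.coe_mul, Subgroup.coe_inv, h1]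
      group
    rw [hqc]
  -- all `p`-elements of `C` lie in `R`
  have hall : ∀ z : G, ∀ hz : z ∈ C, IsPElt p z → (⟨z, hz⟩ : C) ∈ (R : Subgroup C) := by
    rintro z hz ⟨k, hk⟩
    have hzp : IsPGroup p (Subgroup.zpowers (⟨z, hz⟩ : C)) := by
      apply IsPGroup.of_card (n := k)
      rw [Nat.card_zpowers, Subgroup.orderOf_mk, hk]
    obtain ⟨R', hR'⟩ := hzp.exists_le_sylow
    have huniq := Sylow.unique_of_normal R hRnorm
    have hRR : R' = R := Subsingleton.elim _ _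
    rw [← hRR]
    exact hR' (Subgroup.mem_zpowers _)
  obtain ⟨P₁, hP₁⟩ : ∃ P₁ : Subgroup G, P₁ = (R : Subgroup C).map C.subtype := ⟨_, rfl⟩
  have hP₁p : IsPGroup p P₁ := by rw [hP₁]; exact R.isPGroup'.map _
  have hmemP₁ : ∀ z : G, z ∈ P₁ ↔ z ∈ C ∧ IsPElt p z := by
    intro z
    constructor
    · intro hz
      have hz' := hz
      rw [hP₁] at hz'
      obtain ⟨c, hc, rfl⟩ := Subgroup.mem_map.mp hz'
      refine ⟨c.2, ?_⟩
      obtain ⟨k, hk⟩ := IsPGroup.iff_orderOf.mp hP₁p ⟨_, hz⟩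
      rw [Subgroup.orderOf_mk] at hk
      exact ⟨k, hk⟩
    · rintro ⟨hz, hzp⟩
      rw [hP₁]
      exact Subgroup.mem_map.mpr ⟨⟨z, hz⟩, hall z hz hzp, rfl⟩
  -- `y` normalizes `P₁`
  have hyP₁ : y ∈ normalizer (P₁ : Set G) := by
    rw [Subgroup.mem_normalizer_iff]
    intro z
    rw [hmemP₁, hmemP₁]
    constructor
    · rintro ⟨hz, k, hk⟩
      refine ⟨?_, k, by rw [orderOf_conj_eq, hk]⟩
      rw [hC] at hz ⊢
      exact conj_mem_cent h.hyQ hz
    · rintro ⟨hz, k, hk⟩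
      have hzeq : z = y⁻¹ * (y * z * y⁻¹) * y⁻¹⁻¹ := by group
      rw [orderOf_conj_eq] at hk
      refine ⟨?_, k, hk⟩
      rw [hC] at hz ⊢
      rw [hzeq]
      exact conj_mem_cent (inv_mem h.hyQ) hz
  have hpgrp : IsPGroup p (Subgroup.zpowers y ⊔ P₁ : Subgroup G) := by
    apply IsPGroup.to_sup_of_normal_right' _ hP₁p
    · rw [Subgroup.zpowers_le]; exact hyP₁
    · obtain ⟨k, hk⟩ := h.hy
      apply IsPGroup.of_card (n := k)
      rw [Nat.card_zpowers, hk]
  have hxP : x ∈ Subgroup.zpowers y ⊔ P₁ :=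
    Subgroup.mem_sup_right ((hmemP₁ x).mpr ⟨hC ▸ hx, hxp⟩)
  have hyP : y ∈ Subgroup.zpowers y ⊔ P₁ := Subgroup.mem_sup_left (Subgroup.mem_zpowers y)
  exact comm_of_pgroup h hpgrp hxP hyP

end Cfsg.Agent.Lib.Helper12.MixCQY
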