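import Mathlib
import Cfsg.Agent.Lib.Helper68.MixStmt
import Cfsg.Agent.Lib.Helper12.MixAux

set_option autoImplicit false

/-!
# S4017 piece NCENT: an element of `N(Q)` fixing a point of `Q#` centralizes `Q`
-/

namespace Cfsg.Agent.Lib.Helper12.MixNCENT

open Subgroup
open Cfsg.Agent.Lib.Helper68.MixStmt Cfsg.Agent.Lib.Helper12.MixAux

universe u

/-- an element `m` of odd order of `N(Q)` commuting with `t ∈ Q#` centralizes `Q` -/
theorem odd_part {G : Type u} [Group G] [Finite G] {p a : ℕ} {Q : Subgroup G} {y : G}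
    (h : BCtx G p a Q y) (hNpq : PQNum p 2 (Nat.card (normalizer (Q : Set G))))
    {m : G} (hm : m ∈ normalizer (Q : Set G)) {r : ℕ} (hr : Odd r) (hmr : m ^ r = 1)
    (hrN : r ∣ Nat.card (normalizer (Q : Set G)))
    {t : G} (ht : t ∈ Q) (ht1 : t ≠ 1) (hmt : m * t = t * m) :
    ∀ s ∈ Q, s * m = m * s := by
  intro s hs
  by_cases hs1 : s = 1
  · rw [hs1, one_mul, mul_one]
  by_cases hst : s = t
  · rw [hst]; exact hmt.symm
  obtain ⟨f, hf⟩ : ∃ f : G → G, f = fun x => m * x * m⁻¹ := ⟨_, rfl⟩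
  have hiter : ∀ k : ℕ, ∀ x, f^[k] x = m ^ k * x * (m ^ k)⁻¹ := by
    intro k
    induction k with
    | zero => intro x; simp
    | succ k ih =>
      intro x
      rw [Function.iterate_succ_apply', ih, hf, pow_succ']
      group
  obtain ⟨d, hd⟩ : ∃ d, d = Function.minimalPeriod f s := ⟨_, rfl⟩
  have hper : Function.IsPeriodicPt f r s := by
    show f^[r] s = s
    rw [hiter, hmr]; simp
  have hdr : d ∣ r := by rw [hd]; exact hper.minimalPeriod_dvd
  have hdpos : 0 < d := by rw [hd]; exact hper.minimalPeriod_pos hr.pos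
  have hpowt : ∀ k : ℕ, m ^ k * t = t * m ^ k := fun k => (Commute.pow_left hmt k).eq
  have hdle : d + 2 ≤ p + 1 := by
    have hinj : Set.InjOn (fun k => f^[k] s) (Set.Iio d) := by
      rw [hd]; exact Function.iterate_injOn_Iio_minimalPeriod
    have himg : (fun k => f^[k] s) '' (Set.Iio d) ⊆ (Q : Set G) \ {1, t} := by
      rintro _ ⟨k, -, rfl⟩
      simp only [hiter]
      refine ⟨?_, ?_⟩
      · exact (Subgroup.mem_normalizer_iff.mp (pow_mem hm k) s).mp hs
      · intro hmem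
        rcases hmem with h1 | h1
        · apply hs1
          have : s = (m ^ k)⁻¹ * (m ^ k * s * (m ^ k)⁻¹) * m ^ k := by group
          rw [this, h1]; group
        · apply hst
          rw [Set.mem_singleton_iff] at h1
          have : s = (m ^ k)⁻¹ * (m ^ k * s * (m ^ k)⁻¹) * m ^ k := by group
          rw [this, h1, mul_assoc, ← hpowt k, ← mul_assoc, inv_mul_cancel, one_mul]
    have hfin : ((Q : Set G) \ {1, t}).Finite := Set.toFinite _
    have hc1 := Set.ncard_le_ncard himg hfin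
    rw [Set.InjOn.ncard_image hinj] at hc1
    have hc2 : (Set.Iio d).ncard = d := by
      rw [← Finset.coe_range, Set.ncard_coe_finset, Finset.card_range]
    have hsub : ({1, t} : Set G) ⊆ (Q : Set G) := by
      intro x hx
      rcases hx with rfl | hx
      · exact Q.one_mem
      · rw [Set.mem_singleton_iff] at hx; rw [hx]; exact ht
    have hc3 : ((Q : Set G) \ {1, t}).ncard = (Q : Set G).ncard - ({1, t} : Set G).ncard :=
      Set.ncard_sdiff hsub (Set.toFinite _)
    have hc4 : ({1, t} : Set G).ncard = 2 := Set.ncard_pair (Ne.symm ht1)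
    have hc5 : (Q : Set G).ncard = 2 ^ a := by
      rw [← h.hQ]; exact (Nat.card_coe_set_eq (Q : Set G)).symm
    have hpa := h.hpa
    omega
  by_cases hd1 : d = 1
  · have hfix : f s = s := by
      have h1 := Function.isPeriodicPt_minimalPeriod f s
      rw [← hd, hd1] at h1
      exact h1
    rw [hf] at hfix
    have hfix' : m * s * m⁻¹ = s := hfix
    have h2 : s * m = m * s * m⁻¹ * m := by rw [hfix']
    rw [h2]; group
  · exfalso
    obtain ⟨ℓ, hℓ, hℓd⟩ := Nat.exists_prime_and_dvd hd1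
    have hℓN : ℓ ∣ Nat.card (normalizer (Q : Set G)) := (hℓd.trans hdr).trans hrN
    rcases hNpq ℓ hℓ hℓN with h1 | h1
    · have := Nat.le_of_dvd hdpos hℓd
      omega
    · have h2 : 2 ∣ r := by rw [← h1]; exact hℓd.trans hdr
      exact absurd (even_iff_two_dvd.mpr h2) (Nat.not_even_iff_odd.mpr hr)

theorem main (hEXP : EXP.{u}) (hNTOP : NTOP.{u}) (hINVN : INVN.{u}) : NCENT.{u} := by
  intro G _ _ p a Q y h n hn t ht ht1 hnt
  have hexp := hEXP G p a Q y h
  have hNtop := hNTOP G p a Q y h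
  have hinvn := hINVN G p a Q y h
  have hab : ∀ s ∈ Q, ∀ t ∈ Q, s * t = t * s := comm_of_exp hexp
  have hNpq : PQNum p 2 (Nat.card (normalizer (Q : Set G))) :=
    pq_of_proper h hNtop Subgroup.le_normalizer
  have ho : 0 < orderOf n := orderOf_pos n
  obtain ⟨i, r, hr, hor⟩ := Nat.exists_eq_two_pow_mul_odd ho.ne'
  have hoN : orderOf n ∣ Nat.card (normalizer (Q : Set G)) := by
    have h1 := orderOf_dvd_natCard (⟨n, hn⟩ : normalizer (Q : Set G))
    rwa [Subgroup.orderOf_mk] at h1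
  have hrN : r ∣ Nat.card (normalizer (Q : Set G)) :=
    (Dvd.intro_left (2 ^ i) hor.symm).trans hoN
  -- the `2`-part lies in `Q`
  have h1 : ∃ k, orderOf (n ^ r) = 2 ^ k := by
    have h2 : (n ^ r) ^ (2 ^ i) = 1 := by
      rw [← pow_mul, mul_comm, ← hor, pow_orderOf_eq_one]
    obtain ⟨k, -, hk⟩ := (Nat.dvd_prime_pow Nat.prime_two).mp (orderOf_dvd_of_pow_eq_one h2)
    exact ⟨k, hk⟩
  have hnrQ : n ^ r ∈ Q := hinvn (n ^ r) (pow_mem hn r) h1
  have hnrC : n ^ r ∈ centralizer (Q : Set G) :=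
    Subgroup.mem_centralizer_iff.mpr (fun s hs => hab s hs _ hnrQ)
  -- the odd part
  have hmr : (n ^ 2 ^ i) ^ r = 1 := by rw [← pow_mul, ← hor, pow_orderOf_eq_one]
  have hmt : n ^ 2 ^ i * t = t * n ^ 2 ^ i := (Commute.pow_left hnt (2 ^ i)).eq
  have hmC : n ^ 2 ^ i ∈ centralizer (Q : Set G) :=
    Subgroup.mem_centralizer_iff.mpr
      (odd_part h hNpq (pow_mem hn (2 ^ i)) hr hmr hrN ht ht1 hmt)
  -- recombine
  have hcop : Nat.Coprime r (2 ^ i) := Nat.Coprime.pow_right i (Nat.coprime_two_right.mpr hr)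
  have hbez := Nat.gcd_eq_gcd_ab r (2 ^ i)
  rw [hcop.gcd_eq_one] at hbez
  have hn_eq : n = (n ^ r) ^ (Nat.gcdA r (2 ^ i)) * (n ^ 2 ^ i) ^ (Nat.gcdB r (2 ^ i)) := by
    rw [← zpow_natCast n r, ← zpow_natCast n (2 ^ i), ← zpow_mul, ← zpow_mul, ← zpow_add,
      ← hbez]
    simp
  rw [hn_eq]
  exact mul_mem (zpow_mem hnrC _) (zpow_mem hmC _)

end Cfsg.Agent.Lib.Helper12.MixNCENT
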