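import Mathlib
import Cfsg.Agent.Lib.Helper46.PUStmt

set_option autoImplicit false

/-!
# S2263 piece BLOCK: orthogonal sum of two unitary matrices
-/

namespace Cfsg.Agent.Lib.Helper12.PUBLOCK

open Matrix
open Cfsg.Agent.Lib.Helper40.HermAdj Cfsg.Agent.Lib.Helper46.PUStmt

universe u

lemma adj_blocks {F : Type u} [Field F] (φ : F →+* F) {k m : ℕ}
    (A : Matrix (Fin k) (Fin k) F) (D : Matrix (Fin m) (Fin m) F) :
    adj φ (Matrix.fromBlocks A 0 0 D) = Matrix.fromBlocks (adj φ A) 0 0 (adj φ D) := by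
  ext (i | i) (j | j) <;> simp [adj_apply]

lemma blocks_pow {F : Type u} [Field F] {k m : ℕ} (A : Matrix (Fin k) (Fin k) F)
    (D : Matrix (Fin m) (Fin m) F) (j : ℕ) :
    (Matrix.fromBlocks A 0 0 D) ^ j = Matrix.fromBlocks (A ^ j) 0 0 (D ^ j) := by
  induction j with
  | zero => rw [pow_zero, pow_zero, pow_zero, Matrix.fromBlocks_one]
  | succ j ih =>
    rw [pow_succ, ih, Matrix.fromBlocks_multiply]
    simp [pow_succ]

theorem main : Block.{u} := by
  intro F _ φ k m n hn w v hw hv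
  subst hn
  obtain ⟨ρ, hρ⟩ : ∃ ρ : Matrix (Fin k ⊕ Fin m) (Fin k ⊕ Fin m) F ≃ₐ[F]
      Matrix (Fin (k + m)) (Fin (k + m)) F, ρ = Matrix.reindexAlgEquiv F F finSumFinEquiv :=
    ⟨_, rfl⟩
  have hρadj : ∀ M, adj φ (ρ M) = ρ (adj φ M) := by
    intro M
    rw [hρ]
    ext i j
    rfl
  have hU : adj φ (Matrix.fromBlocks w 0 0 v) * (Matrix.fromBlocks w 0 0 v)
      = (1 : Matrix (Fin k ⊕ Fin m) (Fin k ⊕ Fin m) F) := by
    rw [adj_blocks, Matrix.fromBlocks_multiply, hw, hv]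
    simp [Matrix.fromBlocks_one]
  have hsc : ∀ c : F, (c • (1 : Matrix (Fin k ⊕ Fin m) (Fin k ⊕ Fin m) F))
      = Matrix.fromBlocks (c • (1 : Matrix (Fin k) (Fin k) F)) 0 0
        (c • (1 : Matrix (Fin m) (Fin m) F)) := by
    intro c
    rw [← Matrix.fromBlocks_one, Matrix.fromBlocks_smul, smul_zero]
    simp
  refine ⟨ρ (Matrix.fromBlocks w 0 0 v), ?_, ?_⟩
  · rw [hρadj, ← map_mul, hU, map_one]
  · intro j c
    have h1 : c • (1 : Matrix (Fin (k + m)) (Fin (k + m)) F)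
        = ρ (c • (1 : Matrix (Fin k ⊕ Fin m) (Fin k ⊕ Fin m) F)) := by
      rw [map_smul, map_one]
    rw [← map_pow, h1, ρ.injective.eq_iff, blocks_pow, hsc, Matrix.fromBlocks_inj]
    simp

end Cfsg.Agent.Lib.Helper12.PUBLOCK
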