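import Mathlib
import Cfsg.Agent.Lib.Helper46.PUStmt
import Cfsg.Agent.Lib.Helper42.SingerU

set_option autoImplicit false

/-!
# S2263 piece EXEVEN: a unitary matrix of order `q ^ (2 m) - 1` in dimension `2 m`
-/

namespace Cfsg.Agent.Lib.Helper12.PUEXEVEN

open Matrix
open Cfsg.Agent.Lib.Helper40.HermAdj Cfsg.Agent.Lib.Helper46.PUStmt

universe u

theorem main : ExEven.{u} := by
  intro F _ _ q m φ hF hφ hm
  haveI : NeZero m := ⟨by omega⟩
  have hφ2 : ∀ x, φ (φ x) = x := by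
    intro x
    rw [hφ, hφ, ← pow_mul, ← sq, ← hF, FiniteField.pow_card]
  obtain ⟨φ', hφ', -, l, hl⟩ := exists_phi (K := F) hF
  have hl' : φ l ≠ l := by rw [hφ, ← hφ']; exact hl
  obtain ⟨A, A', hAA', -, hpowA⟩ :=
    Cfsg.Agent.Lib.Helper42.SingerU.exists_singer_mat (F := F) (n := m) 1
  obtain ⟨M, hMU, -, hMpow⟩ :=
    Cfsg.Agent.Lib.Helper42.SingerU.exists_hyperbolic φ hφ2 l hl' A A' hAA'
  refine ⟨M, hMU, ?_⟩
  intro j
  have h1 := hMpow j 1
  rw [one_smul, one_smul, map_one, mul_one] at h1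
  have h2 := hpowA j 1 (one_dvd _)
  rw [hF] at h2
  have h3 : (q ^ 2) ^ m = q ^ (m + m) := by
    rw [← pow_mul]; congr 1; omega
  rw [h3, one_mul, mul_one] at h2
  rw [h1, ← h2]
  constructor
  · rintro ⟨hA, -⟩
    exact ⟨1, by rw [hA, one_smul], one_pow 1⟩
  · rintro ⟨c, hc, hc1⟩
    rw [pow_one] at hc1
    rw [hc1, one_smul] at hc
    exact ⟨hc, rfl⟩

end Cfsg.Agent.Lib.Helper12.PUEXEVEN
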