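import Mathlib
import Cfsg.Agent.Lib.Helper83.S38Stmt
import Cfsg.Agent.Lib.Helper23.TypeP

/-!
# S1538 / PKAP: `p = |W₁| ∈ κ(M)` (from CONJW, PSIG, MSIG).  Also shared basic facts on the
context (`relIndex_W₁`, `coprime_p`, `sylow_card`, `conj_mem_fittingHallOf`).
-/

set_option autoImplicit false

universe u

namespace Cfsg.Agent.Lib.Helper12.S38PKAP

open Cfsg Cfsg.Agent.Lib.Helper83.S38Stmt

theorem card_M {G : Type u} [Group G] [Finite G] {M W₁ U W₂ : Subgroup G} (h : Ctx M W₁ U W₂) :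
    Nat.card M = Nat.card ↥⁅M, M⁆ * Nat.card W₁ :=
  Cfsg.Agent.Lib.Helper23.TypeP.card_of_isComplIn h.hP.W₁_compl

theorem relIndex_W₁ {G : Type u} [Group G] [Finite G] {M W₁ U W₂ : Subgroup G}
    (h : Ctx M W₁ U W₂) : W₁.relIndex M = Nat.card ↥⁅M, M⁆ := by
  have hcard := card_M h
  have hle : W₁ ≤ M := h.hP.W₁_compl.2.1
  have h2 := Subgroup.index_mul_card (W₁.subgroupOf M)
  have e : Nat.card (W₁.subgroupOf M) = Nat.card W₁ :=
    Nat.card_congr (Subgroup.subgroupOfEquivOfLe hle).toEquiv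
  rw [e] at h2
  have hpos : 0 < Nat.card W₁ := Nat.card_pos
  exact Nat.eq_of_mul_eq_mul_right hpos (h2.trans hcard)

theorem coprime_p {G : Type u} [Group G] [Finite G] {M W₁ U W₂ : Subgroup G}
    (h : Ctx M W₁ U W₂) : (Nat.card W₁).Coprime (Nat.card ↥⁅M, M⁆) := by
  have h1 := h.hP.W₁_hall
  rwa [relIndex_W₁ h] at h1

/-- a Sylow `p`-subgroup of `M` has order `p` -/
theorem sylow_card {G : Type u} [Group G] [Finite G] {M W₁ U W₂ : Subgroup G}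
    (h : Ctx M W₁ U W₂) [Fact (Nat.card W₁).Prime] (P : Sylow (Nat.card W₁) M) :
    Nat.card P = Nat.card W₁ := by
  have hp := h.hpr
  have hcard := card_M h
  have hcop := coprime_p h
  obtain ⟨n, hn⟩ := IsPGroup.iff_card.mp P.isPGroup'
  have h1 : Nat.card W₁ ^ n ∣ Nat.card M := hn ▸ Subgroup.card_subgroup_dvd_card (P : Subgroup M)
  have h2 : Nat.card W₁ ^ n ∣ Nat.card W₁ := by
    rw [hcard] at h1
    exact (Nat.Coprime.pow_left n hcop).dvd_of_dvd_mul_left h1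
  have h3 : Nat.card W₁ ∣ Nat.card P := by
    have := P.pow_dvd_card_of_pow_dvd_card (n := 1)
      (by rw [pow_one, hcard]; exact dvd_mul_left _ _)
    simpa using this
  have hn1 : n = 1 := by
    have hle : n ≤ 1 := by
      by_contra hcon
      push_neg at hcon
      have h4 : Nat.card W₁ ^ 2 ∣ Nat.card W₁ := (pow_dvd_pow _ hcon).trans h2
      have h5 := Nat.le_of_dvd hp.pos h4
      nlinarith [hp.two_le]
    have hne : n ≠ 0 := by
      rintro rfl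
      rw [hn, pow_zero] at h3
      exact hp.one_lt.ne' (Nat.dvd_one.mp h3)
    omega
  rw [hn, hn1, pow_one]

/-- `M_σ` is normalized by `M` -/
theorem conj_mem_sigmaCore {G : Type u} [Group G] {M : Subgroup G} {y m : G}
    (hy : y ∈ Cfsg.sigmaCore M) (hm : m ∈ M) : m * y * m⁻¹ ∈ Cfsg.sigmaCore M := by
  obtain ⟨y', hy', rfl⟩ := hy
  exact ⟨⟨m, hm⟩ * y' * ⟨m, hm⟩⁻¹, (Cfsg.piCore_normal _ _).conj_mem y' hy' ⟨m, hm⟩, rfl⟩

/-- `M_F` is normalized by `M` -/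
theorem conj_mem_fittingHallOf {G : Type u} [Group G] {M : Subgroup G} {y m : G}
    (hy : y ∈ Cfsg.fittingHallOf M) (hm : m ∈ M) : m * y * m⁻¹ ∈ Cfsg.fittingHallOf M := by
  obtain ⟨y', hy', rfl⟩ := hy
  exact ⟨⟨m, hm⟩ * y' * ⟨m, hm⟩⁻¹, (Cfsg.fittingHall_normal _).conj_mem y' hy' ⟨m, hm⟩, rfl⟩

/-- a non-identity element of `W₂`, which lies in `M_F` and commutes with `W₁` -/
theorem exists_y₀ {G : Type u} [Group G] [Finite G] {M W₁ U W₂ : Subgroup G}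
    (h : Ctx M W₁ U W₂) :
    ∃ y₀ ∈ Cfsg.fittingHallOf M, y₀ ≠ 1 ∧ ∀ w ∈ W₁, w ≠ 1 → w * y₀ = y₀ * w := by
  have hW2 : W₂ ≠ ⊥ := h.hP.selfNormalizing.2.1
  obtain ⟨⟨y₀, hy₀⟩, hy1⟩ := (Subgroup.ne_bot_iff_exists_ne_one).1 hW2
  refine ⟨y₀, (h.hP.W₂_le hy₀).1, fun h1 => hy1 (Subtype.ext h1), ?_⟩
  intro w hw hw1
  have h2 : y₀ ∈ ⁅M, M⁆ ⊓ Subgroup.centralizer ({w} : Set G) := by
    rw [h.hP.W₂_centralizer w hw hw1]; exact hy₀
  exact (Subgroup.mem_centralizer_iff.1 h2.2) w rfl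

theorem main (hC : ConjW.{u}) (hP : PSig.{u}) (hMS : MSig.{u}) : PKap.{u} := by
  intro G _ _ M W₁ U W₂ h
  have hp := h.hpr
  haveI : Fact (Nat.card W₁).Prime := ⟨hp⟩
  have hcard := card_M h
  refine ⟨hp, ?_, hP M W₁ U W₂ h, ?_⟩
  · rw [hcard]; exact dvd_mul_left _ _
  intro P
  have hPcard := sylow_card h P
  refine ⟨isCyclic_of_prime_card hPcard, ?_⟩
  obtain ⟨x0, hx0⟩ := exists_prime_orderOf_dvd_card' (G := ↥(P : Subgroup M)) (Nat.card W₁)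
    (by rw [hPcard])
  have hxo : orderOf ((x0 : M) : G) = Nat.card W₁ := by
    rw [Subgroup.orderOf_coe, Subgroup.orderOf_coe]; exact hx0
  have hx1 : ((x0 : M) : G) ≠ 1 := by
    intro h1
    rw [h1, orderOf_one] at hxo
    exact hp.one_lt.ne hxo
  obtain ⟨m, hm, hw⟩ := hC M W₁ U W₂ h ((x0 : M) : G) (x0 : M).2 hxo
  obtain ⟨y₀, hy₀, hy1, hcomm⟩ := exists_y₀ h
  have hw1 : m * ((x0 : M) : G) * m⁻¹ ≠ 1 := by
    intro h1
    apply hx1
    have : ((x0 : M) : G) = m⁻¹ * (m * ((x0 : M) : G) * m⁻¹) * m := by group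
    rw [this, h1]; group
  have hc := hcomm _ hw hw1
  refine ⟨(x0 : M), x0.2, fun h1 => hx1 (by rw [h1]; rfl), m⁻¹ * y₀ * m, ?_, ?_, ?_⟩
  · have h2 := conj_mem_sigmaCore (M := M) (y := y₀) (m := m⁻¹)
      (by rw [hMS M W₁ U W₂ h]; exact hy₀) (M.inv_mem hm)
    rwa [inv_inv] at h2
  · intro h1
    apply hy1
    have : y₀ = m * (m⁻¹ * y₀ * m) * m⁻¹ := by group
    rw [this, h1]; group
  · calc ((x0 : M) : G) * (m⁻¹ * y₀ * m)
        = m⁻¹ * ((m * ((x0 : M) : G) * m⁻¹) * y₀) * m := by group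
      _ = m⁻¹ * (y₀ * (m * ((x0 : M) : G) * m⁻¹)) * m := by rw [hc]
      _ = (m⁻¹ * y₀ * m) * ((x0 : M) : G) := by group

end Cfsg.Agent.Lib.Helper12.S38PKAP
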