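import Mathlib
import Cfsg.Agent.Lib.Helper83.S38Stmt
import Cfsg.Agent.Lib.Helper23.TypeP
import Cfsg.Agent.Lib.Helper12.S38PKAP

/-!
# S1538 / NOTI: in the Type II context, `M` is not of Type I (from CONJW).
-/

set_option autoImplicit false

universe u

namespace Cfsg.Agent.Lib.Helper12.S38NOTI

open Cfsg Cfsg.Agent.Lib.Helper83.S38Stmt Cfsg.Agent.Lib.Helper12.S38PKAP

theorem main (hC : ConjW.{u}) : NotI.{u} := by
  intro G _ _ M W₁ U W₂ h hI
  have hp := h.hpr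
  haveI : Fact (Nat.card W₁).Prime := ⟨hp⟩
  have hcard := card_M h
  have hcop := coprime_p h
  obtain ⟨⟨-, -, -, -, U', -, hcompl, -, U₀, hU₀, hexp, hfree⟩, -⟩ := hI
  -- `p ∤ |H|`
  have hH : ¬ Nat.card W₁ ∣ Nat.card (Cfsg.fittingHall M) := by
    intro hdvd
    have e : Nat.card (Cfsg.fittingHallOf M) = Nat.card (Cfsg.fittingHall M) := by
      unfold Cfsg.fittingHallOf
      exact Subgroup.card_map_of_injective M.subtype_injective
    have h1 : Nat.card (Cfsg.fittingHallOf M) ∣ Nat.card ↥⁅M, M⁆ :=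
      Subgroup.card_dvd_of_le h.hP.U_compl.1
    have h2 : Nat.card W₁ ∣ Nat.card ↥⁅M, M⁆ := (e ▸ hdvd).trans h1
    have h3 : Nat.card W₁ ∣ 1 := by
      have := Nat.dvd_gcd (dvd_refl _) h2
      rwa [hcop] at this
    exact hp.one_lt.ne' (Nat.dvd_one.mp h3)
  -- `p ∣ |U'|`
  have hU' : Nat.card W₁ ∣ Nat.card U' := by
    have h1 : Nat.card W₁ ∣ Nat.card (Cfsg.fittingHall M) * Nat.card U' := by
      rw [hcompl.card_mul_card, hcard]; exact dvd_mul_left _ _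
    exact (hp.dvd_mul.1 h1).resolve_left hH
  obtain ⟨u', hu'⟩ := exists_prime_orderOf_dvd_card' (G := ↥U') (Nat.card W₁) hU'
  have hU₀' : Nat.card W₁ ∣ Nat.card U₀ := by
    have h1 : Nat.card W₁ ∣ Monoid.exponent ↥U' := hu' ▸ Monoid.order_dvd_exponent u'
    rw [← hexp] at h1
    exact h1.trans Group.exponent_dvd_nat_card
  obtain ⟨u, hu⟩ := exists_prime_orderOf_dvd_card' (G := ↥U₀) (Nat.card W₁) hU₀'
  have huo : orderOf ((u : M) : G) = Nat.card W₁ := by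
    rw [Subgroup.orderOf_coe, Subgroup.orderOf_coe]; exact hu
  have hu1 : ((u : M) : G) ≠ 1 := by
    intro h1
    rw [h1, orderOf_one] at huo
    exact hp.one_lt.ne huo
  obtain ⟨m, hm, hw⟩ := hC M W₁ U W₂ h ((u : M) : G) (u : M).2 huo
  obtain ⟨y₀, hy₀, hy1, hcomm⟩ := exists_y₀ h
  have hw1 : m * ((u : M) : G) * m⁻¹ ≠ 1 := by
    intro h1
    apply hu1
    have : ((u : M) : G) = m⁻¹ * (m * ((u : M) : G) * m⁻¹) * m := by group
    rw [this, h1]; group
  have hc := hcomm _ hw hw1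
  have hx := conj_mem_fittingHallOf (M := M) (y := y₀) (m := m⁻¹) hy₀ (M.inv_mem hm)
  rw [inv_inv] at hx
  obtain ⟨x', hx', hx'e⟩ := hx
  have hx'e' : ((x' : M) : G) = m⁻¹ * y₀ * m := hx'e
  have hcm : (u : M) * x' = x' * (u : M) := by
    apply Subtype.ext
    show ((u : M) : G) * (x' : G) = (x' : G) * ((u : M) : G)
    rw [hx'e']
    calc ((u : M) : G) * (m⁻¹ * y₀ * m)
        = m⁻¹ * ((m * ((u : M) : G) * m⁻¹) * y₀) * m := by group
      _ = m⁻¹ * (y₀ * (m * ((u : M) : G) * m⁻¹)) * m := by rw [hc]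
      _ = (m⁻¹ * y₀ * m) * ((u : M) : G) := by group
  have hx1 := hfree (u : M) u.2 (fun h1 => hu1 (by rw [h1]; rfl)) x' hx' hcm
  apply hy1
  have h5 : m⁻¹ * y₀ * m = 1 := by rw [← hx'e', hx1]; rfl
  have : y₀ = m * (m⁻¹ * y₀ * m) * m⁻¹ := by group
  rw [this, h5]; group

end Cfsg.Agent.Lib.Helper12.S38NOTI
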