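import Mathlib
import Cfsg.Agent.Lib.Helper12.SNStmt
import Cfsg.Agent.Lib.Helper39.CTFinal
import Cfsg.Agent.Lib.Helper39.CTPSL
import Cfsg.Agent.S0182
import Cfsg.Agent.S1230

/-!
S4073, piece FWD: a finite simple nonabelian CT-group is `PSL₂` over a field with `2 ^ f`
elements, where `2 ^ f` is the order of the centralizer of an involution (the proof of the
landed S5748, keeping track of the involution; helper12).
-/

set_option autoImplicit false

universe u

namespace Cfsg.Agent.Lib.Helper12.SNFWD

open Cfsg.Agent.Lib.Helper12.SNDef Cfsg.Agent.Lib.Helper12.SNStmt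
open Cfsg.Agent.Lib.Helper39.CTGroup Cfsg.Agent.Lib.Helper39.CTCount
open Cfsg.Agent.Lib.Helper39.CTFinal Cfsg.Agent.Lib.Helper39.CTPSL

theorem main : Fwd.{u} := by
  intro G _ _ _ hG hCT
  classical
  haveI : Fintype G := Fintype.ofFinite G
  haveI : Fact (Nat.Prime 2) := ⟨Nat.prime_two⟩
  -- `|G|` is even
  have heven : Even (Nat.card G) := by
    by_contra hodd
    rw [Nat.not_even_iff_odd] at hodd
    have hsolv := Cfsg.Agent.S0182.result hodd
      (fun x hx a ha b hb => cent_comm hCT hx ha hb)
    exact hG (IsSimpleGroup.comm_iff_isSolvable.mpr hsolv)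
  -- an involution
  obtain ⟨t, ht⟩ := exists_prime_orderOf_dvd_card (G := G) 2
    (by rw [← Nat.card_eq_fintype_card]; exact even_iff_two_dvd.mp heven)
  have hinv : ∀ s : G, orderOf s = 2 → s ≠ 1 ∧ s ^ 2 = 1 := by
    intro s hs
    constructor
    · intro h
      rw [h, orderOf_one] at hs
      omega
    · rw [← hs]
      exact pow_orderOf_eq_one s
  obtain ⟨ht1, ht2⟩ := hinv t ht
  -- the hypothesis on involution centralizers
  have hC : ∀ s : G, orderOf s = 2 →
      IsMulCommutative (Subgroup.centralizer ({s} : Set G)) ∧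
        ∀ c ∈ Subgroup.centralizer ({s} : Set G), c ^ 2 = 1 := by
    intro s hs
    obtain ⟨hs1, hs2⟩ := hinv s hs
    exact ⟨⟨⟨fun a b => Subtype.ext (cent_comm hCT hs1 a.2 b.2)⟩⟩,
      fun c hc => sq_eq_one_of_mem_cent hG hCT hs1 hs2 hc⟩
  -- a Sylow 2-subgroup containing the centralizer of `t`
  have hpg : IsPGroup 2 (Subgroup.centralizer ({t} : Set G)) := by
    intro x
    refine ⟨1, ?_⟩
    apply Subtype.ext
    rw [pow_one]
    exact (hC t ht).2 x.1 x.2
  obtain ⟨T, hT⟩ := hpg.exists_le_sylow
  obtain ⟨u, huC, hu1, hut, hu2⟩ := exists_third hG hCT ht1 ht2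
  have htT : t ∈ (T : Subgroup G) := hT (self_mem_cent t)
  have huT : u ∈ (T : Subgroup G) := hT huC
  have hnn : ¬ (T : Subgroup G).Normal := by
    intro hnorm
    rcases hnorm.eq_bot_or_eq_top with h | h
    · rw [h, Subgroup.mem_bot] at htT
      exact ht1 htT
    · obtain ⟨k, hk⟩ := (IsPGroup.iff_card (p := 2) (G := (T : Subgroup G))).1 T.isPGroup'
      rw [h, Subgroup.card_top] at hk
      have hpG : IsPGroup 2 G := IsPGroup.of_card hk
      haveI : Nontrivial G := ⟨⟨t, 1, ht1⟩⟩
      haveI := hpG.center_nontrivial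
      have hcn : (Subgroup.center G).Normal := inferInstance
      rcases hcn.eq_bot_or_eq_top with h' | h'
      · obtain ⟨z, hz⟩ := exists_ne (1 : Subgroup.center G)
        apply hz
        apply Subtype.ext
        have hz2 : (z : G) ∈ (⊥ : Subgroup G) := by
          rw [← h']
          exact z.2
        exact Subgroup.mem_bot.mp hz2
      · apply hG
        intro a b
        have ha : a ∈ Subgroup.center G := by rw [h']; trivial
        exact (Subgroup.mem_center_iff.mp ha b).symm
  have hnc : ¬ IsCyclic (T : Subgroup G) := by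
    intro hcyc
    haveI : Fintype (T : Subgroup G) := Fintype.ofFinite _
    have ho : ∀ s : G, ∀ hs : s ∈ (T : Subgroup G), s ≠ 1 → s ^ 2 = 1 →
        orderOf (⟨s, hs⟩ : (T : Subgroup G)) = 2 := by
      intro s hs hs1 hs2
      rw [Subgroup.orderOf_mk]
      exact orderOf_eq_prime hs2 hs1
    have hdvd : 2 ∣ Fintype.card (T : Subgroup G) := by
      have h := orderOf_dvd_card (x := (⟨t, htT⟩ : (T : Subgroup G)))
      rwa [ho t htT ht1 ht2] at h
    have hcard := IsCyclic.card_orderOf_eq_totient (α := (T : Subgroup G)) hdvd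
    rw [Nat.totient_two] at hcard
    have hsub : ({⟨t, htT⟩, ⟨u, huT⟩} : Finset (T : Subgroup G))
        ⊆ Finset.univ.filter (fun a : (T : Subgroup G) => orderOf a = 2) := by
      intro x hx
      simp only [Finset.mem_insert, Finset.mem_singleton] at hx
      rw [Finset.mem_filter]
      refine ⟨Finset.mem_univ _, ?_⟩
      rcases hx with h | h
      · rw [h]; exact ho t htT ht1 ht2
      · rw [h]; exact ho u huT hu1 hu2
    have hle := Finset.card_le_card hsub
    rw [hcard, Finset.card_pair (fun h => hut (congrArg Subtype.val h).symm)] at hle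
    omega
  obtain ⟨F, hF1, hF2, hcard, hiso⟩ := Cfsg.Agent.S1230.result T hnc hnn hC
  obtain ⟨k, hk⟩ := (IsPGroup.iff_card (p := 2) (G := (T : Subgroup G))).1 T.isPGroup'
  have hTC : (T : Subgroup G) ≤ Subgroup.centralizer ({t} : Set G) := by
    haveI : Nontrivial (T : Subgroup G) := ⟨⟨⟨t, htT⟩, 1, fun h => ht1 (congrArg Subtype.val h)⟩⟩
    haveI := (T.isPGroup').center_nontrivial
    obtain ⟨s, hs⟩ := exists_ne (1 : Subgroup.center (T : Subgroup G))
    have hs1 : ((s : (T : Subgroup G)) : G) ≠ 1 := by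
      intro h
      apply hs
      apply Subtype.ext
      apply Subtype.ext
      exact h
    have hsc : ∀ x : G, ∀ hx : x ∈ (T : Subgroup G),
        x ∈ Subgroup.centralizer ({((s : (T : Subgroup G)) : G)} : Set G) := by
      intro x hx
      rw [Subgroup.mem_centralizer_singleton_iff]
      have h1 := Subgroup.mem_center_iff.mp s.2 ⟨x, hx⟩
      exact congrArg Subtype.val h1
    have heq := cent_eq hCT hs1 ht1 (hsc t htT)
    intro x hx
    rw [heq]
    exact hsc x hx
  have hCcard : Nat.card (Subgroup.centralizer ({t} : Set G)) = 2 ^ k := by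
    rw [← hk, le_antisymm hT hTC]
  refine ⟨t, F, hF1, hF2, k, ht1, ht2, ?_, hcard.trans hk, hCcard, hiso⟩
  -- `k ≥ 2` since `T` has at least three elements
  haveI : Fintype (T : Subgroup G) := Fintype.ofFinite _
  have h3 : 3 ≤ Nat.card (T : Subgroup G) := by
    have hsub : ({1, ⟨t, htT⟩, ⟨u, huT⟩} : Finset (T : Subgroup G)) ⊆ Finset.univ :=
      Finset.subset_univ _
    have hc3 : ({1, ⟨t, htT⟩, ⟨u, huT⟩} : Finset (T : Subgroup G)).card = 3 :=
      Finset.card_eq_three.mpr ⟨1, ⟨t, htT⟩, ⟨u, huT⟩,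
        fun h => ht1 (congrArg Subtype.val h).symm, fun h => hu1 (congrArg Subtype.val h).symm,
        fun h => hut (congrArg Subtype.val h).symm, rfl⟩
    have hle := Finset.card_le_card hsub
    rw [hc3, Finset.card_univ, ← Nat.card_eq_fintype_card] at hle
    exact hle
  rw [hk] at h3
  by_contra hk2
  have hk1 : k ≤ 1 := by omega
  have h4 : 2 ^ k ≤ 2 ^ 1 := Nat.pow_le_pow_right (by norm_num) hk1
  omega

end Cfsg.Agent.Lib.Helper12.SNFWD
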