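import Mathlib
import Cfsg.Agent.Lib.Helper41.TMStmt
import Cfsg.Agent.Lib.Helper12.MinusCnt

/-!
# S5987 / SINGCNT (minus): the singular vectors orthogonal to a totally singular frame of length
`j ≤ d - 1` in the standard minus-type space of dimension `2 d` number `q^(d-1) (q^(d-j) - q + 1)`
(all characteristics).  Wrapper of `Helper12.MinusCnt.card_perp_sing_minusQ`.
-/

set_option autoImplicit false

universe u

namespace Cfsg.Agent.Lib.Helper12.TMSINGCNT

theorem main : Cfsg.Agent.Lib.Helper41.TMStmt.SingCnt.{u} := by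
  intro F _ _ a₀ b₀ hab d j hj v
  obtain ⟨d', rfl⟩ : ∃ d', d = d' + 1 := ⟨d - 1, by omega⟩
  have h := Cfsg.Agent.Lib.Helper12.MinusCnt.card_perp_sing_minusQ d' j (by omega) a₀ b₀ hab v.1
    v.2.1 v.2.2.1 v.2.2.2
  have hq1 : 1 ≤ Fintype.card F := Fintype.card_pos
  apply Nat.eq_of_mul_eq_mul_left hq1
  obtain ⟨e', rfl⟩ : ∃ e', d' = j + e' := ⟨d' - j, by omega⟩
  have e1 : j + e' + 1 - j = e' + 1 := by omega
  have e2 : j + e' + 1 - 1 = j + e' := by omega
  rw [e1] at h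
  show Fintype.card F * Nat.card {u : (Fin (j + e' + 1 - 1) ⊕ Fin (j + e' + 1 - 1)) ⊕ Fin 2 → F //
      Cfsg.quadFormMinus (j + e' + 1 - 1) F a₀ b₀ u = 0 ∧
        ∀ a, QuadraticMap.polar (Cfsg.quadFormMinus (j + e' + 1 - 1) F a₀ b₀) (v.1 a) u = 0} =
    Fintype.card F * (Fintype.card F ^ (j + e' + 1 - 1) *
      (Fintype.card F ^ (j + e' + 1 - j) - Fintype.card F + 1))
  rw [e1]
  have hle : Fintype.card F ≤ Fintype.card F ^ (e' + 1) :=
    Nat.le_self_pow (by omega) _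
  have h' : Fintype.card F * Nat.card {u : (Fin (j + e' + 1 - 1) ⊕ Fin (j + e' + 1 - 1)) ⊕ Fin 2 → F //
      Cfsg.quadFormMinus (j + e' + 1 - 1) F a₀ b₀ u = 0 ∧
        ∀ a, QuadraticMap.polar (Cfsg.quadFormMinus (j + e' + 1 - 1) F a₀ b₀) (v.1 a) u = 0} +
      Fintype.card F ^ j * Fintype.card F ^ (e' + 1 + 1) =
      Fintype.card F ^ j * (Fintype.card F ^ (2 * (e' + 1)) + Fintype.card F ^ (e' + 1)) := h
  have e3 : Fintype.card F ^ (j + e' + 1 - 1) = Fintype.card F ^ j * Fintype.card F ^ e' := by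
    rw [e2, pow_add]
  rw [e3]
  zify [hle] at h' ⊢
  linear_combination h'

end Cfsg.Agent.Lib.Helper12.TMSINGCNT
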