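import Mathlib
import Cfsg.Agent.Lib.Helper12.ZsA
import Cfsg.Agent.Lib.Helper12.PerfD
import Cfsg.Agent.Lib.Helper12.PerfB
import Cfsg.Agent.Lib.Helper12.MinQuat
import Cfsg.Agent.Lib.Helper12.FpfLin
import Cfsg.Agent.S3742

/-!
# Zassenhaus' theorem on Frobenius complements: the solvable case (helper12)

For a finite solvable fixed-point-free linear group `G` we produce the normal Z-subgroup `N`
with `G/N` trivial, `V₄`, `A₄` or `S₄`.
-/

set_option autoImplicit false

namespace Cfsg.Agent.Lib.Helper12.ZsB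

open Subgroup
open Cfsg.Agent.Lib.Helper12.FpfRing
open Cfsg.Agent.Lib.Helper12.FpfLin
open Cfsg.Agent.Lib.Helper12.PerfA
open Cfsg.Agent.Lib.Helper12.PerfB
open Cfsg.Agent.Lib.Helper12.PerfD
open Cfsg.Agent.Lib.Helper12.MinQuat
open Cfsg.Agent.Lib.Helper12.ZsA

variable {p : ℕ} [Fact p.Prime] {V : Type*} [AddCommGroup V] [Module (ZMod p) V] [Finite V]
  [Nontrivial V]

/-- A subgroup without elements of order four is a Z-group. -/
theorem zgroup_sub {G : Type*} [Group G] [Finite G] {ρ : G →* (V ≃ₗ[ZMod p] V)} (hf : IsFpf ρ)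
    (C : Subgroup G) (h4 : ∀ k ∈ C, k ^ 4 = 1 → k ^ 2 = 1) : IsZGroup C := by
  have hfC : IsFpf (ρ.comp C.subtype) :=
    fun g hg v hv => hf g (fun h => hg (Subtype.ext h)) v hv
  refine zgroup_of_fpf hfC (fun k hk => ?_)
  apply Subtype.ext
  have := h4 (k : G) k.2 (by simpa using congrArg Subtype.val hk)
  simpa using this

/-- If the Sylow 2-subgroups are cyclic, the group is a Z-group. -/
theorem zgroup_of_cyclic_two {G : Type*} [Group G] [Finite G] {ρ : G →* (V ≃ₗ[ZMod p] V)}
    (hf : IsFpf ρ) (P : Sylow 2 G) (hc : IsCyclic P) : IsZGroup G := by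
  haveI : Fact (Nat.Prime 2) := ⟨Nat.prime_two⟩
  constructor
  intro q hq Q
  haveI : Fact q.Prime := ⟨hq⟩
  by_cases h2 : q = 2
  · subst h2
    exact isCyclic_of_surjective (Sylow.equiv P Q) (Sylow.equiv P Q).surjective
  · exact sylow_cyclic hf h2 Q

theorem q8_pow_four {G : Type*} [Group G] (Q : Subgroup G) (e : Q ≃* QuaternionGroup 2)
    {x : G} (hx : x ∈ Q) : x ^ 4 = 1 := by
  have h1 : (⟨x, hx⟩ : Q) ^ 4 = 1 := by
    apply e.injective
    rw [map_pow, map_one]
    exact q8_exp _
  simpa using congrArg Subtype.val h1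

/-- The centralizer of a quaternion subgroup has no elements of order four. -/
theorem cent_no_four {G : Type*} [Group G] [Finite G] {ρ : G →* (V ≃ₗ[ZMod p] V)}
    (hf : IsFpf ρ) (T : Subgroup G) (e : T ≃* QuaternionGroup 2) :
    ∀ k ∈ centralizer (T : Set G), k ^ 4 = 1 → k ^ 2 = 1 := by
  intro k hk hk4
  by_contra hk2
  have hfR := fpfR_of_fpf hf
  obtain ⟨s, t, hst⟩ := k8_exists e
  obtain ⟨hs4, hs2, -⟩ := k8_inv e hst
  have hs4' : (s : G) ^ 4 = 1 := by simpa using congrArg Subtype.val hs4
  have hs2' : (s : G) ^ 2 ≠ 1 := fun h => hs2 (Subtype.ext (by simpa using h))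
  rw [mem_centralizer_iff] at hk
  have hks : k * (s : G) = (s : G) * k := (hk s s.2).symm
  have hkt : k * (t : G) = (t : G) * k := (hk t t.2).symm
  apply hst
  apply Subtype.ext
  rw [Subgroup.coe_mul, Subgroup.coe_mul]
  rcases four_comm hfR hk2 hk4 hs2' hs4' hks with h | h
  · rw [← h]; exact hkt
  · have h' : (s : G) = k⁻¹ := by rw [h, inv_inv]
    rw [h']
    calc k⁻¹ * (t : G) = k⁻¹ * ((t : G) * k) * k⁻¹ := by group
      _ = k⁻¹ * (k * (t : G)) * k⁻¹ := by rw [hkt]
      _ = (t : G) * k⁻¹ := by group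

/-- A commutator of order four. -/
theorem exists_comm4 {G : Type*} [Group G] [Finite G] {ρ : G →* (V ≃ₗ[ZMod p] V)}
    (hf : IsFpf ρ) (Q : Subgroup G) (g : G) (hgc : g ∉ centralizer (Q : Set G))
    (hodd : ¬ 2 ∣ orderOf g) : ∃ q ∈ Q, (q * g * q⁻¹ * g⁻¹) ^ 2 ≠ 1 := by
  have hfR := fpfR_of_fpf hf
  by_contra hcon
  push_neg at hcon
  apply hgc
  have h2 : g ^ 2 ∈ centralizer (Q : Set G) := by
    rw [mem_centralizer_iff]
    intro q hq
    obtain ⟨c, hc⟩ : ∃ c, c = q * g * q⁻¹ * g⁻¹ := ⟨_, rfl⟩
    have hc2 : c ^ 2 = 1 := by rw [hc]; exact hcon q hq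
    have hcen : ∀ k : G, k * c = c * k := by
      intro k
      by_cases hc1 : c = 1
      · rw [hc1, mul_one, one_mul]
      · exact invol_central hfR hc1 hc2 k
    have h1 : q * g = g * (c * q) := by
      have : c * g * q = q * g := by rw [hc]; group
      rw [← this, ← hcen g, mul_assoc]
    have hcc : c * c = 1 := by rw [← pow_two]; exact hc2
    calc q * g ^ 2 = q * g * g := by rw [pow_two, mul_assoc]
      _ = g * (c * q) * g := by rw [h1]
      _ = g * c * (q * g) := by simp only [mul_assoc]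
      _ = g * c * (g * (c * q)) := by rw [h1]
      _ = g * (c * g) * (c * q) := by simp only [mul_assoc]
      _ = g * (g * c) * (c * q) := by rw [hcen g]
      _ = g * g * (c * c) * q := by simp only [mul_assoc]
      _ = g ^ 2 * q := by rw [hcc, mul_one, pow_two]
  have h3 : g ^ orderOf g ∈ centralizer (Q : Set G) := by
    rw [pow_orderOf_eq_one]; exact one_mem _
  exact pow_mem_of_coprime _ g
    ((Nat.Prime.coprime_iff_not_dvd Nat.prime_two).mpr hodd) h2 h3

theorem sylow_two_cases {G : Type*} [Group G] [Finite G] {ρ : G →* (V ≃ₗ[ZMod p] V)}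
    (hf : IsFpf ρ) (P : Sylow 2 G) :
    IsCyclic P ∨ ∃ n : ℕ, n ≠ 0 ∧ Nonempty (P ≃* QuaternionGroup (2 ^ n)) := by
  haveI : Fact (Nat.Prime 2) := ⟨Nat.prime_two⟩
  have hfP : IsFpf (ρ.comp (P : Subgroup G).subtype) :=
    fun g hg v hv => hf g (fun h => hg (Subtype.ext h)) v hv
  rcases Cfsg.Agent.Lib.Helper54.Quaternion.isCyclic_or_quaternion_of_ui P.2
    (ui_of_fpf hfP P.2) with h | ⟨-, n, ⟨e⟩⟩
  · exact Or.inl h
  · by_cases hn : n = 0
    · left
      subst hn
      haveI : IsCyclic (QuaternionGroup (2 ^ 0)) :=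
        (QuaternionGroup.quaternionGroup_one_isCyclic : IsCyclic (QuaternionGroup 1))
      exact isCyclic_of_surjective e.symm e.symm.surjective
    · exact Or.inr ⟨n, hn, ⟨e⟩⟩

/-- The `V₄` case: a normal 2-complement and a generalized quaternion Sylow 2-subgroup. -/
theorem good_of_complement {G : Type*} [Group G] [Finite G] {ρ : G →* (V ≃ₗ[ZMod p] V)}
    (hf : IsFpf ρ) (P : Sylow 2 G) (n : ℕ) (hn : n ≠ 0) (e : P ≃* QuaternionGroup (2 ^ n))
    (K : Subgroup G) (hK : K.Normal) (hc : K.IsComplement' (P : Subgroup G)) :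
    ∃ N : Subgroup G, Good N := by
  haveI : Fact (Nat.Prime 2) := ⟨Nat.prime_two⟩
  haveI := hK
  have hm : 2 ∣ 2 ^ n := dvd_pow_self 2 hn
  let φ : G ⧸ K ≃* (P : Subgroup G) := hc.symm.QuotientMulEquiv
  let θ : G →* QuaternionGroup (2 ^ n) :=
    (e.toMonoidHom.comp φ.toMonoidHom).comp (QuotientGroup.mk' K)
  have hθs : Function.Surjective θ :=
    (e.surjective.comp φ.surjective).comp (QuotientGroup.mk'_surjective K)
  have hθk : ∀ g : G, θ g = 1 ↔ g ∈ K := by
    intro g
    show e (φ (QuotientGroup.mk' K g)) = 1 ↔ _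
    rw [MulEquiv.map_eq_one_iff, MulEquiv.map_eq_one_iff, QuotientGroup.mk'_apply,
      QuotientGroup.eq_one_iff]
  let f : G →* DihedralGroup 2 := (quatV4 (2 ^ n) hm).comp θ
  have hfs : Function.Surjective f := (quatV4_surj (2 ^ n) hm).comp hθs
  have hKN : K ≤ f.ker := by
    intro k hk
    rw [MonoidHom.mem_ker]
    show quatV4 (2 ^ n) hm (θ k) = 1
    rw [(hθk k).mpr hk, map_one]
  have hKodd : ¬ 2 ∣ Nat.card K := by
    have h1 := hc.card_mul_card
    have h2 := (P : Subgroup G).card_mul_index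
    have h3 : Nat.card K = (P : Subgroup G).index := by
      have hpos : 0 < Nat.card (P : Subgroup G) := Nat.card_pos
      have : Nat.card (P : Subgroup G) * Nat.card K
          = Nat.card (P : Subgroup G) * (P : Subgroup G).index := by rw [h2, mul_comm, h1]
      exact Nat.eq_of_mul_eq_mul_left hpos this
    rw [h3]; exact P.not_dvd_index
  haveI hKz : IsZGroup K := by
    apply zgroup_sub hf
    intro k hk hk4
    have h1 : orderOf k ∣ 2 ^ 2 := orderOf_dvd_of_pow_eq_one hk4
    have h2 : orderOf k ∣ Nat.card K := by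
      have := orderOf_dvd_natCard (⟨k, hk⟩ : K)
      rwa [Subgroup.orderOf_mk] at this
    have h3 : orderOf k = 1 := by
      obtain ⟨j, -, hj⟩ := (Nat.dvd_prime_pow Nat.prime_two).mp h1
      rcases Nat.eq_zero_or_pos j with rfl | hjpos
      · simpa using hj
      · exfalso; apply hKodd; refine dvd_trans ?_ h2; rw [hj]; exact dvd_pow_self 2 hjpos.ne'
    rw [orderOf_eq_one_iff] at h3
    rw [h3, one_pow]
  haveI := quatV4_ker_cyclic (2 ^ n) hm
  let f' : f.ker →* (quatV4 (2 ^ n) hm).ker :=
    (θ.comp f.ker.subtype).codRestrict _ (fun x => by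
      rw [MonoidHom.mem_ker]; exact x.2)
  have hle : f'.ker ≤ (Subgroup.inclusion hKN).range := by
    intro x hx
    rw [MonoidHom.mem_ker] at hx
    have h1 : θ (x : G) = 1 := congrArg Subtype.val hx
    exact ⟨⟨(x : G), (hθk _).mp h1⟩, Subtype.ext rfl⟩
  have hcop : (Nat.card K).Coprime (Nat.card (quatV4 (2 ^ n) hm).ker) := by
    have h1 : Nat.card (quatV4 (2 ^ n) hm).ker ∣ 2 ^ (n + 2) := by
      refine (Subgroup.card_subgroup_dvd_card _).trans ?_
      rw [Nat.card_eq_fintype_card, QuaternionGroup.card]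
      exact dvd_of_eq (by ring)
    obtain ⟨j, -, hj⟩ := (Nat.dvd_prime_pow Nat.prime_two).mp h1
    rw [hj]
    exact Nat.Coprime.pow_right j
      (Nat.coprime_comm.mp ((Nat.Prime.coprime_iff_not_dvd Nat.prime_two).mpr hKodd))
  have hz : IsZGroup f.ker :=
    isZGroup_of_coprime (f := Subgroup.inclusion hKN) (f' := f') hle hcop
  exact ⟨f.ker, MonoidHom.normal_ker f, (zgroup_iff _).mpr hz, Or.inr (Or.inl ⟨f, hfs, rfl⟩)⟩

/-- Zassenhaus: a solvable fixed-point-free group is metabelian-like or has a normal `Q₈`. -/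
theorem normal_q8_or {G : Type*} [Group G] [Finite G] {ρ : G →* (V ≃ₗ[ZMod p] V)}
    (hf : IsFpf ρ) (hsol : Group.IsSolvable G) :
    (∃ C : Subgroup G, (∀ a ∈ C, ∀ b ∈ C, a * b = b * a) ∧
      ∀ u v : G, u * v * u⁻¹ * v⁻¹ ∈ C) ∨
    ∃ T : Subgroup G, T.Normal ∧ Nonempty (T ≃* QuaternionGroup 2) := by
  obtain ⟨A, hAn, hAc, hAmax⟩ := exists_max_abelian G
  haveI := hAn
  by_cases hC : IsMulCommutative (centralizer (A : Set G))
  · left
    refine ⟨centralizer (A : Set G), (comm_iff _).1 hC, ?_⟩
    intro u v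
    haveI : IsCyclic A := abelian_isCyclic hf A ((comm_iff A).1 hAc)
    have hcomm : ∀ φ ψ : MulAut A, φ * ψ = ψ * φ := by
      intro φ ψ
      apply (IsCyclic.mulAutMulEquiv A).injective
      rw [map_mul, map_mul, mul_comm]
    have h1 : (MulAut.conjNormal (u * v * u⁻¹ * v⁻¹) : MulAut A) = 1 := by
      rw [map_mul, map_mul, map_mul, map_inv, map_inv,
        hcomm (MulAut.conjNormal u) (MulAut.conjNormal v)]
      group
    rw [mem_centralizer_iff]
    intro a ha
    have h2 := congrArg (fun φ : MulAut A => ((φ ⟨a, ha⟩ : A) : G)) h1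
    simp only [MulAut.conjNormal_apply, MulAut.one_apply] at h2
    obtain ⟨c, hc⟩ : ∃ c, c = u * v * u⁻¹ * v⁻¹ := ⟨_, rfl⟩
    rw [← hc] at h2 ⊢
    calc a * c = (c * a * c⁻¹) * c := by rw [h2]
      _ = c * a := by group
  · right
    obtain ⟨N, hNn, hNle, hNna, hNmin⟩ :=
      exists_min_nonabelian (centralizer (A : Set G)) inferInstance hC
    haveI := hNn
    have hcen := cen_of_min A hAn hAc hAmax N hNle hNmin
    have hna : ¬ ∀ a ∈ N, ∀ b ∈ N, a * b = b * a := fun h => hNna ((comm_iff N).2 h)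
    have hder : ⁅N, N⁆ ≠ N := by
      intro h
      haveI : Nontrivial N := by
        by_contra hnt
        rw [not_nontrivial_iff_subsingleton] at hnt
        apply hna
        intro a ha b hb
        have := Subsingleton.elim (⟨a, ha⟩ : N) ⟨b, hb⟩
        have hab : a = b := congrArg Subtype.val this
        rw [hab]
      have hlt := IsSolvable.commutator_lt_top_of_nontrivial (G := N)
      apply hlt.ne
      apply Subgroup.map_injective N.subtype_injective
      rw [_root_.commutator_def, Subgroup.map_commutator, ← MonoidHom.range_eq_map,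
        Subgroup.range_subtype]
      exact h
    exact ⟨N, hNn, quat_of_min N (fun B hB => abelian_isCyclic hf B hB) hcen hna hder⟩

/-- The `A₄`/`S₄` case: a normal `Q₈` not centralized by some element of odd order. -/
theorem good_of_q8 {G : Type*} [Group G] [Finite G] {ρ : G →* (V ≃ₗ[ZMod p] V)}
    (hf : IsFpf ρ) (T : Subgroup G) (hTn : T.Normal) (e : T ≃* QuaternionGroup 2)
    (g : G) (hodd : ¬ 2 ∣ orderOf g) (hgT : g ∉ centralizer (T : Set G)) :
    ∃ N : Subgroup G, Good N := by
  haveI := hTn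
  have hfR := fpfR_of_fpf hf
  obtain ⟨ψ⟩ := Cfsg.Agent.S3742.result
  let f : G →* Equiv.Perm (Fin 4) :=
    (ψ.toMonoidHom.comp (MulAut.congr e).toMonoidHom).comp (MulAut.conjNormal (H := T))
  have hker : f.ker = centralizer (T : Set G) := by
    ext x
    rw [MonoidHom.mem_ker, mem_centralizer_iff]
    show ψ (MulAut.congr e (MulAut.conjNormal x)) = 1 ↔ _
    rw [MulEquiv.map_eq_one_iff, MulEquiv.map_eq_one_iff]
    constructor
    · intro h t ht
      have h2 := congrArg (fun φ : MulAut T => ((φ ⟨t, ht⟩ : T) : G)) h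
      simp only [MulAut.conjNormal_apply, MulAut.one_apply] at h2
      calc t * x = (x * t * x⁻¹) * x := by rw [h2]
        _ = x * t := by group
    · intro h
      ext t
      rw [MulAut.conjNormal_apply, MulAut.one_apply]
      have := h t t.2
      calc x * t * x⁻¹ = (t * x) * x⁻¹ := by rw [this]
        _ = t := by group
  have hCz : IsZGroup (centralizer (T : Set G)) := zgroup_sub hf _ (cent_no_four hf T e)
  have hidx : (centralizer (T : Set G)).index = Nat.card f.range := by
    rw [← hker, Subgroup.index_ker]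
  have h24 : Nat.card f.range ∣ 24 := by
    have := Subgroup.card_subgroup_dvd_card f.range
    rwa [card_S4] at this
  have h4 : 4 ∣ Nat.card f.range := by
    rw [← hidx]
    refine dvd_trans ?_ (Subgroup.relIndex_dvd_index_of_normal (centralizer (T : Set G)) T)
    rw [← Subgroup.inf_relIndex_right]
    obtain ⟨s, t, hst⟩ := k8_exists e
    obtain ⟨hs4, hs2, -⟩ := k8_inv e hst
    have hz1 : (s : G) ^ 2 ≠ 1 := fun h => hs2 (Subtype.ext (by simpa using h))
    have hz2 : ((s : G) ^ 2) ^ 2 = 1 := by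
      rw [← pow_mul]; simpa using congrArg Subtype.val hs4
    have hle : centralizer (T : Set G) ⊓ T ≤ zpowers ((s : G) ^ 2) := by
      intro u hu
      obtain ⟨huC, huT⟩ := Subgroup.mem_inf.mp hu
      have hu2 : u ^ 2 = 1 := by
        have h1 : (e ⟨u, huT⟩) ^ 2 = 1 := by
          apply q8_center
          intro r
          have hcomm : (⟨u, huT⟩ : T) * e.symm r = e.symm r * ⟨u, huT⟩ := by
            apply Subtype.ext
            rw [Subgroup.coe_mul, Subgroup.coe_mul]
            exact ((mem_centralizer_iff.mp huC) _ (e.symm r).2).symm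
          have := congrArg e hcomm
          rwa [map_mul, map_mul, e.apply_symm_apply] at this
        have h' : (⟨u, huT⟩ : T) ^ 2 = 1 := by
          apply e.injective; rw [map_pow, map_one]; exact h1
        simpa using congrArg Subtype.val h'
      by_cases hu1 : u = 1
      · rw [hu1]; exact one_mem _
      · have := invol_unique hfR hu1 hu2 hz1 hz2
        rw [this]; exact mem_zpowers _
    have hcard2 : Nat.card (zpowers ((s : G) ^ 2)) = 2 := by
      rw [Nat.card_zpowers]; exact orderOf_eq_prime hz2 hz1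
    have hd : Nat.card (centralizer (T : Set G) ⊓ T : Subgroup G) ∣ 2 := by
      rw [← hcard2]; exact Subgroup.card_dvd_of_le hle
    have hmul : Nat.card (centralizer (T : Set G) ⊓ T : Subgroup G) *
        (centralizer (T : Set G) ⊓ T).relIndex T = 8 := by
      rw [← k8_card e, Subgroup.relIndex,
        ← Nat.card_congr (Subgroup.subgroupOfEquivOfLe
          (inf_le_right : centralizer (T : Set G) ⊓ T ≤ T)).toEquiv]
      exact Subgroup.card_mul_index _
    rcases (Nat.dvd_prime Nat.prime_two).mp hd with h1 | h1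
    · rw [h1, one_mul] at hmul; rw [hmul]; norm_num
    · rw [h1] at hmul
      have : (centralizer (T : Set G) ⊓ T).relIndex T = 4 := by omega
      rw [this]
  have h3 : 3 ∣ Nat.card f.range := by
    by_contra h3
    apply hgT
    have hcop : Nat.Coprime (Nat.card f.range) 3 :=
      (Nat.coprime_comm.mp ((Nat.Prime.coprime_iff_not_dvd Nat.prime_three).mpr h3))
    have h8 : Nat.card f.range ∣ 8 := hcop.dvd_of_dvd_mul_right (by norm_num; exact h24)
    have hg1 : g ^ Nat.card f.range ∈ centralizer (T : Set G) := by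
      rw [← hidx]; exact Subgroup.pow_index_mem _ g
    have hg8 : g ^ 8 ∈ centralizer (T : Set G) := by
      obtain ⟨j, hj⟩ := h8
      rw [hj, pow_mul]; exact pow_mem hg1 j
    have hgo : g ^ orderOf g ∈ centralizer (T : Set G) := by
      rw [pow_orderOf_eq_one]; exact one_mem _
    have hc8 : Nat.Coprime (2 ^ 3) (orderOf g) :=
      Nat.Coprime.pow_left 3 ((Nat.Prime.coprime_iff_not_dvd Nat.prime_two).mpr hodd)
    exact pow_mem_of_coprime _ g hc8 hg8 hgo
  have hm : Nat.card f.range = 12 ∨ Nat.card f.range = 24 := by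
    have hpos : 0 < Nat.card f.range := Nat.card_pos
    have hle := Nat.le_of_dvd (by norm_num) h24
    obtain ⟨m, hm⟩ : ∃ m, m = Nat.card f.range := ⟨_, rfl⟩
    rw [← hm] at h24 h4 h3 hpos hle ⊢
    interval_cases m <;> omega
  rcases hm with hm | hm
  · obtain ⟨f', hs', hk'⟩ := alt_of_card f (by rw [hm, card_S4])
    exact ⟨centralizer (T : Set G), inferInstance, (zgroup_iff _).mpr hCz,
      Or.inr (Or.inr (Or.inl ⟨f', hs', hk'.trans hker⟩))⟩
  · have hs := surj_of_card f (by rw [hm, card_S4])
    exact ⟨centralizer (T : Set G), inferInstance, (zgroup_iff _).mpr hCz,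
      Or.inr (Or.inr (Or.inr (Or.inl ⟨f, hs, hker⟩)))⟩

/-- **Zassenhaus, solvable case.** -/
theorem good_solvable {G : Type*} [Group G] [Finite G] {ρ : G →* (V ≃ₗ[ZMod p] V)}
    (hf : IsFpf ρ) (hsol : Group.IsSolvable G) : ∃ N : Subgroup G, Good N := by
  haveI : Fact (Nat.Prime 2) := ⟨Nat.prime_two⟩
  have hfR := fpfR_of_fpf hf
  obtain ⟨P⟩ : Nonempty (Sylow 2 G) := inferInstance
  rcases sylow_two_cases hf P with hc | ⟨n, hn, ⟨e⟩⟩
  · haveI hz := zgroup_of_cyclic_two hf P hc
    exact ⟨⊤, inferInstance, (zgroup_iff _).mpr inferInstance, Or.inl rfl⟩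
  · by_cases hno : ∃ K : Subgroup G, K.Normal ∧ K.IsComplement' (P : Subgroup G)
    · obtain ⟨K, hK, hKc⟩ := hno
      exact good_of_complement hf P n hn e K hK hKc
    · obtain ⟨Q, g, ⟨eQ⟩, hgn, hgc, hodd⟩ :=
        exists_q8 hfR P (fun N hN hNc => hno ⟨N, hN, hNc⟩)
      obtain ⟨q, hqQ, hq2⟩ := exists_comm4 hf Q g hgc hodd
      obtain ⟨c, hc⟩ : ∃ c, c = q * g * q⁻¹ * g⁻¹ := ⟨_, rfl⟩
      rw [← hc] at hq2
      have hcQ : c ∈ Q := by
        rw [hc]
        have h1 : g * q⁻¹ * g⁻¹ ∈ Q := (mem_normalizer_iff.mp hgn q⁻¹).mp (inv_mem hqQ)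
        have : q * g * q⁻¹ * g⁻¹ = q * (g * q⁻¹ * g⁻¹) := by group
        rw [this]; exact mul_mem hqQ h1
      have hc4 : c ^ 4 = 1 := q8_pow_four Q eQ hcQ
      have hcop2 : Nat.Coprime 2 (orderOf g) :=
        (Nat.Prime.coprime_iff_not_dvd Nat.prime_two).mpr hodd
      rcases normal_q8_or hf hsol with ⟨C, hCc, hCcomm⟩ | ⟨T, hTn, ⟨eT⟩⟩
      · exfalso
        have hcC : c ∈ C := by rw [hc]; exact hCcomm q g
        have hgcC : g * c * g⁻¹ ∈ C := by
          have : g * c * g⁻¹ = (g * c * g⁻¹ * c⁻¹) * c := by group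
          rw [this]; exact mul_mem (hCcomm g c) hcC
        have hk2 : (g * c * g⁻¹) ^ 2 ≠ 1 := by
          intro h; apply hq2
          have h1 : (g * c * g⁻¹) ^ 2 = g * c ^ 2 * g⁻¹ := conj_pow
          rw [h1] at h
          have h2 : c ^ 2 = g⁻¹ * (g * c ^ 2 * g⁻¹) * g := by group
          rw [h2, h]; group
        have hk4 : (g * c * g⁻¹) ^ 4 = 1 := by
          have h1 : (g * c * g⁻¹) ^ 4 = g * c ^ 4 * g⁻¹ := conj_pow
          rw [h1, hc4]; group
        have hgc' : g * c = c * g := by
          have hcase := four_comm hfR hk2 hk4 hq2 hc4 (hCc _ hgcC _ hcC)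
          have h2 : g ^ 2 ∈ centralizer ({c} : Set G) := by
            rw [mem_centralizer_iff]
            intro x hx
            rw [Set.mem_singleton_iff] at hx
            subst hx
            rcases hcase with h | h
            · have h' : g * x = x * g := by
                calc g * x = (g * x * g⁻¹) * g := by group
                  _ = x * g := by rw [h]
              calc x * g ^ 2 = x * g * g := by rw [pow_two, mul_assoc]
                _ = g * x * g := by rw [h']
                _ = g * (x * g) := by rw [mul_assoc]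
                _ = g * (g * x) := by rw [h']
                _ = g ^ 2 * x := by rw [pow_two, mul_assoc]
            · have h1 : g * x = x⁻¹ * g := by
                calc g * x = (g * x * g⁻¹) * g := by group
                  _ = x⁻¹ * g := by rw [h]
              have h2 : g * x⁻¹ = x * g := by
                have h3 : g * x⁻¹ * g⁻¹ = x := by
                  have h4 : g * x⁻¹ * g⁻¹ = (g * x * g⁻¹)⁻¹ := by group
                  rw [h4, h, inv_inv]
                calc g * x⁻¹ = (g * x⁻¹ * g⁻¹) * g := by group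
                  _ = x * g := by rw [h3]
              calc x * g ^ 2 = x * g * g := by rw [pow_two, mul_assoc]
                _ = g * x⁻¹ * g := by rw [h2]
                _ = g * (x⁻¹ * g) := by rw [mul_assoc]
                _ = g * (g * x) := by rw [h1]
                _ = g ^ 2 * x := by rw [pow_two, mul_assoc]
          have h3 : g ^ orderOf g ∈ centralizer ({c} : Set G) := by
            rw [pow_orderOf_eq_one]; exact one_mem _
          have h4 := pow_mem_of_coprime _ g hcop2 h2 h3
          exact ((mem_centralizer_iff.mp h4) c (Set.mem_singleton c)).symm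
        have hq1 : g * q * g⁻¹ = c⁻¹ * q := by rw [hc]; group
        have hind : ∀ k : ℕ, g ^ k * q * (g ^ k)⁻¹ = c⁻¹ ^ k * q := by
          intro k
          induction k with
          | zero => simp
          | succ k ih =>
            have hgci : g * c⁻¹ ^ k = c⁻¹ ^ k * g := by
              have hcm : Commute g c := hgc'
              exact (hcm.inv_right.pow_right k).eq
            calc g ^ (k + 1) * q * (g ^ (k + 1))⁻¹
                = g * (g ^ k * q * (g ^ k)⁻¹) * g⁻¹ := by rw [pow_succ']; group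
              _ = g * (c⁻¹ ^ k * q) * g⁻¹ := by rw [ih]
              _ = (g * c⁻¹ ^ k) * (q * g⁻¹) := by simp only [mul_assoc]
              _ = c⁻¹ ^ k * g * (q * g⁻¹) := by rw [hgci]
              _ = c⁻¹ ^ k * (g * q * g⁻¹) := by simp only [mul_assoc]
              _ = c⁻¹ ^ k * (c⁻¹ * q) := by rw [hq1]
              _ = c⁻¹ ^ (k + 1) * q := by rw [pow_succ, mul_assoc]
        have h5 := hind (orderOf g)
        rw [pow_orderOf_eq_one, one_mul, inv_one, mul_one] at h5
        have h6 : c ^ orderOf g = 1 := by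
          have h7 : c⁻¹ ^ orderOf g = 1 := by
            have h8 := congrArg (· * q⁻¹) h5
            simp only [mul_inv_cancel, mul_inv_cancel_right] at h8
            exact h8.symm
          rwa [inv_pow, inv_eq_one] at h7
        have hc4m : Nat.Coprime (2 ^ 2) (orderOf g) := Nat.Coprime.pow_left 2 hcop2
        have h7 : c ∈ (⊥ : Subgroup G) := pow_mem_of_coprime ⊥ c hc4m
          (by show c ^ 4 ∈ _; rw [hc4]; exact one_mem _) (by rw [h6]; exact one_mem _)
        rw [mem_bot] at h7
        apply hq2; rw [h7, one_pow]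
      · refine good_of_q8 hf T hTn eT g hodd ?_
        intro hgT
        haveI := hTn
        have hcC : c ∈ centralizer (T : Set G) := by
          rw [hc]
          have h1 : q * g * q⁻¹ ∈ centralizer (T : Set G) :=
            (inferInstance : (centralizer (T : Set G)).Normal).conj_mem g hgT q
          exact mul_mem h1 (inv_mem hgT)
        exact hq2 (cent_no_four hf T eT c hcC hc4)

end Cfsg.Agent.Lib.Helper12.ZsB
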