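import Mathlib
import Cfsg.Agent.Lib.Helper12.ZsB
import Cfsg.Agent.Lib.Helper12.NonSolvD
import Cfsg.Agent.Lib.Helper56.SmallSolvable

/-!
# Zassenhaus' theorem on Frobenius complements: the non-solvable case (helper12)

For a finite non-solvable fixed-point-free linear group `G` with perfect core `S ≃ SL(2,5)`,
the centralizer `C_G(S)` is a normal Z-subgroup and `G / C_G(S)` is `A₅` or `S₅`
(conjugation action on the five Sylow 2-subgroups of `S`).
-/

set_option autoImplicit false

namespace Cfsg.Agent.Lib.Helper12.ZsC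

open Subgroup
open scoped Pointwise
open Cfsg.Agent.Lib.Helper12.FpfRing
open Cfsg.Agent.Lib.Helper12.Frame
open Cfsg.Agent.Lib.Helper12.FpfLin
open Cfsg.Agent.Lib.Helper12.Golden
open Cfsg.Agent.Lib.Helper12.GoldenK
open Cfsg.Agent.Lib.Helper12.PerfA
open Cfsg.Agent.Lib.Helper12.PerfB
open Cfsg.Agent.Lib.Helper12.PerfC
open Cfsg.Agent.Lib.Helper12.PerfD
open Cfsg.Agent.Lib.Helper12.PerfFpf
open Cfsg.Agent.Lib.Helper12.PerfS
open Cfsg.Agent.Lib.Helper12.NonSolvA
open Cfsg.Agent.Lib.Helper12.NonSolvB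
open Cfsg.Agent.Lib.Helper12.NonSolvC
open Cfsg.Agent.Lib.Helper12.ZsA
open Cfsg.Agent.Lib.Helper12.ZsB

variable {p : ℕ} [Fact p.Prime] {V : Type*} [AddCommGroup V] [Module (ZMod p) V] [Finite V]
  [Nontrivial V]

/-- The perfect core, with its perfectness recorded. -/
theorem core_struct2 {G : Type*} [Group G] [Finite G] {ρ : G →* (V ≃ₗ[ZMod p] V)} (hf : IsFpf ρ)
    (hns : ¬ Group.IsSolvable G) :
    ∃ S : Subgroup G, S.Normal ∧ commutator S = ⊤ ∧
      Nat.card S = 120 ∧ ∃ x s₁ s₂ v : G, v ∈ S ∧ x ≠ 1 ∧ x ^ 3 = 1 ∧ IsFrame x s₁ ∧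
      IsFrame x s₂ ∧ s₂ ∉ Qs x s₁ ∧ Mg x s₁ s₂ = S ∧ QN x (Qs x s₁) ∧ QN x (Qs x s₂) ∧
      v * x * v⁻¹ = x⁻¹ ∧ v ^ 4 = 1 := by
  obtain ⟨n, hn⟩ := exists_perfect_core G
  have hSn : (derivedSeries G n).Normal := derivedSeries_normal G n
  have hSbot : derivedSeries G n ≠ ⊥ := fun h => hns ((isSolvable_def G).mpr ⟨n, h⟩)
  haveI : Nontrivial (derivedSeries G n) := (Subgroup.nontrivial_iff_ne_bot _).mpr hSbot
  have hperf : commutator (derivedSeries G n) = ⊤ := by
    apply Subgroup.map_injective (derivedSeries G n).subtype_injective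
    rw [_root_.commutator_def, Subgroup.map_commutator, ← MonoidHom.range_eq_map,
      Subgroup.range_subtype]
    rw [derivedSeries_succ] at hn
    exact hn
  have hfS : IsFpf (ρ.comp (derivedSeries G n).subtype) :=
    fun g hg v hv => hf g (fun h => hg (Subtype.ext h)) v hv
  obtain ⟨x, s₁, s₂, v, hx1, hx3, f₁, f₂, h12, hMg, hcard, hQ₁, hQ₂, hinv, hv4⟩ :=
    perf_struct hfS hperf
  have hQs : ∀ a b : derivedSeries G n,
      Qs (a : G) (b : G) = (Qs a b).map (derivedSeries G n).subtype := by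
    intro a b
    unfold Qs
    rw [MonoidHom.map_closure, Set.image_pair]
    rfl
  refine ⟨derivedSeries G n, hSn, hperf, hcard, x, s₁, s₂, v, v.2, ?_, ?_, frame_coe f₁,
    frame_coe f₂, ?_, ?_, ?_, ?_, ?_, ?_⟩
  · exact fun h => hx1 (Subtype.ext h)
  · exact congrArg Subtype.val hx3
  · rw [hQs]
    rintro ⟨q, hq, hqe⟩
    apply h12
    have : q = s₂ := Subtype.ext hqe
    rw [← this]; exact hq
  · have h1 : Mg (x : G) (s₁ : G) (s₂ : G)
        = (Mg x s₁ s₂).map (derivedSeries G n).subtype := by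
      unfold Mg
      rw [MonoidHom.map_closure, Set.image_insert_eq, Set.image_pair]
      rfl
    rw [h1, hMg, ← MonoidHom.range_eq_map, Subgroup.range_subtype]
  · rw [hQs]
    exact QN_map _ (derivedSeries G n).subtype_injective hQ₁
  · rw [hQs]
    exact QN_map _ (derivedSeries G n).subtype_injective hQ₂
  · exact congrArg Subtype.val hinv
  · exact congrArg Subtype.val hv4

theorem card_mul_relIndex {G : Type*} [Group G] {A B : Subgroup G} (h : A ≤ B) :
    Nat.card A * A.relIndex B = Nat.card B := by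
  rw [Subgroup.relIndex, ← Nat.card_congr (Subgroup.subgroupOfEquivOfLe h).toEquiv]
  exact Subgroup.card_mul_index _

theorem pow_two_dvd_120 : ∀ k : ℕ, 2 ^ k ∣ 120 → 2 ^ k ≤ 8 := by
  intro k hk
  by_contra hlt
  push_neg at hlt
  have hk4 : 4 ≤ k := by
    by_contra h
    push_neg at h
    have : 2 ^ k ≤ 2 ^ 3 := Nat.pow_le_pow_right (by norm_num) (by omega)
    omega
  have := (pow_dvd_pow 2 hk4).trans hk
  norm_num at this

/-- **Zassenhaus, non-solvable case.** -/
theorem good_nonsolvable {G : Type*} [Group G] [Finite G] {ρ : G →* (V ≃ₗ[ZMod p] V)}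
    (hf : IsFpf ρ) (hns : ¬ Group.IsSolvable G) : ∃ N : Subgroup G, Good N := by
  haveI : Fact (Nat.Prime 2) := ⟨Nat.prime_two⟩
  have hfR := fpfR_of_fpf hf
  obtain ⟨S, hSn, hperf, hS120, x, s₁, s₂, v, hvS, hx1, hx3, f₁, f₂, h12, hMg, hQ₁, hQ₂, hinv,
    hv4⟩ := core_struct2 hf hns
  haveI := hSn
  have hidx := index_part hf hSn hS120 hvS hx1 hx3 f₁ f₂ h12 hMg hQ₁ hQ₂ hinv hv4
  have hxS : x ∈ S := by rw [← hMg]; exact x_mem_Mg x s₁ s₂
  have hs₁S : s₁ ∈ S := by rw [← hMg]; exact s_mem_Mg s₂ f₁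
  have hs₂S : s₂ ∈ S := by rw [← hMg]; exact s'_mem_Mg s₁ f₂
  have hQ₁S : Qs x s₁ ≤ S := Qs_le hxS hs₁S
  have hQ₂S : Qs x s₂ ≤ S := Qs_le hxS hs₂S
  obtain ⟨e₁⟩ := hQ₁.1
  obtain ⟨e₂⟩ := hQ₂.1
  have hQcard : Nat.card (Qs x s₁) = 8 := k8_card e₁
  obtain ⟨C, hC⟩ : ∃ C : Subgroup G, C = centralizer (S : Set G) := ⟨_, rfl⟩
  have hCn : C.Normal := by rw [hC]; infer_instance
  haveI := hCn
  -- the centre of `S`
  have hz1 : s₁ ^ 2 ≠ 1 := f₁.h2
  have hz2 : (s₁ ^ 2) ^ 2 = 1 := by rw [← pow_mul]; exact f₁.h4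
  have hzS : s₁ ^ 2 ∈ S := pow_mem hs₁S 2
  have hzC : s₁ ^ 2 ∈ C := by
    rw [hC, mem_centralizer_iff]; intro h _; exact invol_central hfR hz1 hz2 h
  have hCS : C ⊓ S = zpowers (s₁ ^ 2) := by
    apply le_antisymm
    · intro y hy
      obtain ⟨hyC, hyS⟩ := Subgroup.mem_inf.mp hy
      have hy2 : y ^ 2 = 1 := by
        refine (golden_v hfR hx1 hx3 f₁ f₂ h12).2 y (by rw [hMg]; exact hyS) ?_
        intro g hg
        rw [hMg] at hg
        rw [hC, mem_centralizer_iff] at hyC
        exact hyC g hg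
      by_cases hy1 : y = 1
      · rw [hy1]; exact one_mem _
      · rw [invol_unique hfR hy1 hy2 hz1 hz2]; exact mem_zpowers _
    · rw [zpowers_le]; exact Subgroup.mem_inf.mpr ⟨hzC, hzS⟩
  have hCS2 : Nat.card (C ⊓ S : Subgroup G) = 2 := by
    rw [hCS, Nat.card_zpowers]; exact orderOf_eq_prime hz2 hz1
  have hrel : C.relIndex S = 60 := by
    rw [← Subgroup.inf_relIndex_right]
    have := card_mul_relIndex (inf_le_right : C ⊓ S ≤ S)
    rw [hCS2, hS120] at this
    omega
  have hCidx : C.index = 60 ∨ C.index = 120 := by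
    have h1 := Subgroup.relIndex_mul_index (le_sup_right : C ≤ S ⊔ C)
    have h2 : C.relIndex (S ⊔ C) = C.relIndex S := Subgroup.relIndex_sup_right S C
    rw [h2, hrel] at h1
    rw [← hC] at hidx
    rcases hidx with h | h
    · left; rw [h] at h1; omega
    · right; rw [h] at h1; omega
  -- `C` is a Z-group
  have hCz : IsZGroup C := by
    apply zgroup_sub hf
    intro k hk hk4
    refine cent_no_four hf (Qs x s₁) e₁ k ?_ hk4
    rw [hC] at hk
    exact Subgroup.centralizer_le (SetLike.coe_subset_coe.mpr hQ₁S) hk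
  -- the normalizer of a Sylow 2-subgroup of `S`
  obtain ⟨H, hH⟩ : ∃ H : Subgroup G, H = normalizer ((Qs x s₁ : Subgroup G) : Set G) :=
    ⟨_, rfl⟩
  have hsup : H ⊔ S = ⊤ := by
    have hp2 : IsPGroup 2 ((Qs x s₁).subgroupOf S) := by
      refine IsPGroup.of_card (n := 3) ?_
      rw [Nat.card_congr (Subgroup.subgroupOfEquivOfLe hQ₁S).toEquiv, hQcard]; norm_num
    obtain ⟨P, hP⟩ := hp2.exists_le_sylow
    have hPeq : (Qs x s₁).subgroupOf S = (P : Subgroup S) := by
      apply Subgroup.eq_of_le_of_card_ge hP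
      obtain ⟨k, hk⟩ := IsPGroup.iff_card.mp P.2
      have hdvd : Nat.card (P : Subgroup S) ∣ 120 := by
        rw [← hS120]; exact Subgroup.card_subgroup_dvd_card _
      rw [hk] at hdvd ⊢
      rw [Nat.card_congr (Subgroup.subgroupOfEquivOfLe hQ₁S).toEquiv, hQcard]
      exact pow_two_dvd_120 k hdvd
    have hfr := Sylow.normalizer_sup_eq_top P
    rw [← hPeq, Subgroup.subgroupOf_map_subtype, inf_of_le_left hQ₁S] at hfr
    rw [hH]; exact hfr
  have hHS : Nat.card (H ⊓ S : Subgroup G) = 24 := by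
    have hB : zpowers x ⊔ Qs x s₁ ≤ H ⊓ S := by
      apply sup_le
      · rw [zpowers_le]; exact Subgroup.mem_inf.mpr ⟨by rw [hH]; exact hQ₁.2.1, hxS⟩
      · exact le_inf (by rw [hH]; exact le_normalizer) hQ₁S
    have h24 : 24 ∣ Nat.card (H ⊓ S : Subgroup G) := by
      rw [← QN_sup_card hQ₁ hx1 hx3]; exact Subgroup.card_dvd_of_le hB
    have h120 : Nat.card (H ⊓ S : Subgroup G) ∣ 120 := by
      rw [← hS120]; exact Subgroup.card_dvd_of_le inf_le_right
    have hne : Nat.card (H ⊓ S : Subgroup G) ≠ 120 := by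
      intro h
      have hEq : H ⊓ S = S := Subgroup.eq_of_le_of_card_ge inf_le_right (by rw [h, hS120])
      have hSH : S ≤ H := by rw [← hEq]; exact inf_le_left
      have hR : Qs x s₂ ≤ Qs x s₁ := by
        refine two_sub_le (k8_pgroup e₁) (k8_pgroup e₂) ?_ hQ₁S hQ₂S ?_
        · rw [← hH]; exact hQ₂S.trans hSH
        · intro k hk; rw [hS120] at hk; rw [hQcard]; exact pow_two_dvd_120 k hk
      exact h12 (hR (s_mem_Qs x s₂))
    obtain ⟨j, hj⟩ := h24
    rw [hj] at h120 hne ⊢
    have hj5 : j ∣ 5 :=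
      Nat.dvd_of_mul_dvd_mul_left (by norm_num : 0 < 24) (by norm_num; exact h120)
    rcases (Nat.dvd_prime (by norm_num : Nat.Prime 5)).mp hj5 with h | h
    · rw [h]
    · exfalso; apply hne; rw [h]
  have hHidx : H.index = 5 := by
    have h1 : S.relIndex (H ⊔ S) = S.relIndex H := Subgroup.relIndex_sup_right H S
    rw [hsup, Subgroup.relIndex_top_right, ← Subgroup.inf_relIndex_right] at h1
    have h2 := card_mul_relIndex (inf_le_right : S ⊓ H ≤ H)
    rw [← h1, inf_comm, hHS] at h2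
    have h3 := S.card_mul_index
    have h4 := H.card_mul_index
    rw [hS120] at h3
    have hpos : 0 < S.index := Nat.pos_of_ne_zero Subgroup.index_ne_zero_of_finite
    rw [← h2] at h4
    have h5 : 24 * S.index * H.index = 24 * S.index * 5 := by rw [h4, ← h3]; ring
    exact Nat.eq_of_mul_eq_mul_left (by positivity) h5
  have hCH : C ≤ H := by
    rw [hC, hH]
    exact (Subgroup.centralizer_le (SetLike.coe_subset_coe.mpr hQ₁S)).trans
      (Subgroup.centralizer_le_normalizer _)
  have hcore : H.normalCore = C := by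
    apply le_antisymm
    · obtain ⟨K₁, hK₁⟩ : ∃ K₁ : Subgroup G, K₁ = H.normalCore := ⟨_, rfl⟩
      rw [← hK₁]
      have hK₁n : K₁.Normal := by rw [hK₁]; exact Subgroup.normalCore_normal H
      haveI := hK₁n
      have hK₁H : K₁ ≤ H := by rw [hK₁]; exact Subgroup.normalCore_le H
      have hD24 : Nat.card (K₁ ⊓ S : Subgroup G) ≤ 24 := by
        rw [← hHS]
        exact Nat.le_of_dvd Nat.card_pos (Subgroup.card_dvd_of_le (inf_le_inf_right S hK₁H))
      have hDC : K₁ ⊓ S ≤ C := by
        let π : S →* G ⧸ C := (QuotientGroup.mk' C).comp S.subtype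
        have hπk : ∀ s : S, π s = 1 ↔ (s : G) ∈ C := fun s => by
          show (QuotientGroup.mk' C) (s : G) = 1 ↔ _
          rw [QuotientGroup.mk'_apply, QuotientGroup.eq_one_iff]
        have hcard60 : Nat.card π.range = 60 := by
          rw [← Subgroup.index_ker]
          have hk : π.ker = C.subgroupOf S := by
            ext s; rw [MonoidHom.mem_ker, hπk, Subgroup.mem_subgroupOf]
          rw [hk]; exact hrel
        have hns' : ¬ Group.IsSolvable π.range := by
          intro hsol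
          have hsub := subsingleton_of_perfect hperf π.rangeRestrict π.rangeRestrict_surjective
          have h1 : Nat.card π.range = 1 := Nat.card_unique
          omega
        haveI := Cfsg.Agent.Lib.Helper56.SmallSolvable.isSimpleGroup_of_card_60 hcard60 hns'
        have hDn : ((K₁ ⊓ S).subgroupOf S).Normal :=
          (inferInstance : (K₁ ⊓ S).Normal).subgroupOf S
        have hD'n : (((K₁ ⊓ S).subgroupOf S).map π.rangeRestrict).Normal :=
          hDn.map _ π.rangeRestrict_surjective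
        rcases hD'n.eq_bot_or_eq_top with h | h
        · intro d hd
          have hdS : d ∈ S := (Subgroup.mem_inf.mp hd).2
          have h1 : (⟨d, hdS⟩ : S) ∈ (K₁ ⊓ S).subgroupOf S := by
            rw [Subgroup.mem_subgroupOf]; exact hd
          have h2 : π.rangeRestrict ⟨d, hdS⟩ ∈ ((K₁ ⊓ S).subgroupOf S).map π.rangeRestrict :=
            Subgroup.mem_map_of_mem _ h1
          rw [h, Subgroup.mem_bot] at h2
          have h3 : π ⟨d, hdS⟩ = 1 := congrArg Subtype.val h2
          exact (hπk _).mp h3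
        · exfalso
          have h1 : Nat.card (((K₁ ⊓ S).subgroupOf S).map π.rangeRestrict) = 60 := by
            rw [h, Subgroup.card_top, hcard60]
          have h2 : Nat.card (((K₁ ⊓ S).subgroupOf S).map π.rangeRestrict)
              ≤ Nat.card ((K₁ ⊓ S).subgroupOf S) :=
            Nat.card_le_card_of_surjective _ (π.rangeRestrict.subgroupMap_surjective _)
          rw [Nat.card_congr (Subgroup.subgroupOfEquivOfLe
            (inf_le_right : K₁ ⊓ S ≤ S)).toEquiv] at h2
          omega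
      intro k hk
      rw [hC, mem_centralizer_iff]
      intro s hs
      have hcen : ∀ t ∈ S, k * t * k⁻¹ * t⁻¹ ∈ C := by
        intro t ht
        apply hDC
        refine Subgroup.mem_inf.mpr ⟨?_, ?_⟩
        · have h1 : k * t * k⁻¹ * t⁻¹ = k * (t * k⁻¹ * t⁻¹) := by group
          rw [h1]; exact mul_mem hk (hK₁n.conj_mem _ (inv_mem hk) t)
        · exact mul_mem (hSn.conj_mem t ht k) (inv_mem ht)
      have hcomm : ∀ t ∈ S, ∀ g ∈ S, g * (k * t * k⁻¹ * t⁻¹) = (k * t * k⁻¹ * t⁻¹) * g := by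
        intro t ht g hg
        have h1 := hcen t ht
        rw [hC, mem_centralizer_iff] at h1
        exact h1 g hg
      let χ : S →* Subgroup.center S :=
        { toFun := fun t => ⟨⟨k * (t : G) * k⁻¹ * (t : G)⁻¹,
              mul_mem (hSn.conj_mem t t.2 k) (inv_mem t.2)⟩, by
            rw [Subgroup.mem_center_iff]
            intro g
            apply Subtype.ext
            exact hcomm t t.2 g g.2⟩
          map_one' := by
            apply Subtype.ext; apply Subtype.ext
            show k * ((1 : S) : G) * k⁻¹ * ((1 : S) : G)⁻¹ = 1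
            rw [Subgroup.coe_one]; group
          map_mul' := by
            intro a b
            apply Subtype.ext; apply Subtype.ext
            show k * ((a : G) * (b : G)) * k⁻¹ * ((a : G) * (b : G))⁻¹
              = (k * a * k⁻¹ * (a : G)⁻¹) * (k * b * k⁻¹ * (b : G)⁻¹)
            have hb' := hcomm b b.2 (a : G)⁻¹ (inv_mem a.2)
            calc k * ((a : G) * (b : G)) * k⁻¹ * ((a : G) * (b : G))⁻¹
                = (k * a * k⁻¹) * ((k * b * k⁻¹ * (b : G)⁻¹) * (a : G)⁻¹) := by group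
              _ = (k * a * k⁻¹) * ((a : G)⁻¹ * (k * b * k⁻¹ * (b : G)⁻¹)) := by rw [hb']
              _ = (k * a * k⁻¹ * (a : G)⁻¹) * (k * b * k⁻¹ * (b : G)⁻¹) := by group }
      have hχ : χ ⟨s, hs⟩ = 1 := by
        have h1 : (⟨s, hs⟩ : S) ∈ χ.ker := by
          have h2 : commutator S ≤ χ.ker := by
            rw [commutator_eq_closure, Subgroup.closure_le]
            rintro y ⟨a, b, rfl⟩
            rw [SetLike.mem_coe, MonoidHom.mem_ker, commutatorElement_def, map_mul, map_mul,
              map_mul, map_inv, map_inv]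
            have hab : χ a * χ b = χ b * χ a := by
              have h3 := (χ b).2
              rw [Subgroup.mem_center_iff] at h3
              exact Subtype.ext (h3 (χ a))
            rw [hab]; group
          rw [hperf] at h2
          exact h2 (Subgroup.mem_top _)
        exact h1
      have h2 : k * s * k⁻¹ * s⁻¹ = 1 :=
        congrArg (fun z : Subgroup.center S => ((z : S) : G)) hχ
      calc s * k = (k * s * k⁻¹ * s⁻¹)⁻¹ * (k * s) := by group
        _ = k * s := by rw [h2, inv_one, one_mul]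
    · exact Subgroup.normal_le_normalCore.mpr hCH
  -- the action on the five cosets
  have hc5 : Nat.card (G ⧸ H) = 5 := hHidx
  let eqv : (G ⧸ H) ≃ Fin 5 := Finite.equivFinOfCardEq hc5
  let f : G →* Equiv.Perm (Fin 5) :=
    (eqv.permCongrHom.toMonoidHom).comp (MulAction.toPermHom G (G ⧸ H))
  have hker : f.ker = C := by
    rw [← hcore, Subgroup.normalCore_eq_ker]
    ext g
    rw [MonoidHom.mem_ker, MonoidHom.mem_ker]
    show eqv.permCongrHom (MulAction.toPermHom G (G ⧸ H) g) = 1 ↔ _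
    rw [MulEquiv.map_eq_one_iff]
  have hcr : Nat.card f.range = C.index := by rw [← hker, Subgroup.index_ker]
  rcases hCidx with h | h
  · obtain ⟨f', hs', hk'⟩ := alt_of_card f (by rw [hcr, h, card_S5])
    exact ⟨C, hCn, (zgroup_iff _).mpr hCz,
      Or.inr (Or.inr (Or.inr (Or.inr (Or.inl ⟨f', hs', hk'.trans hker⟩))))⟩
  · have hs := surj_of_card f (by rw [hcr, h, card_S5])
    exact ⟨C, hCn, (zgroup_iff _).mpr hCz,
      Or.inr (Or.inr (Or.inr (Or.inr (Or.inr ⟨f, hs, hker⟩))))⟩

end Cfsg.Agent.Lib.Helper12.ZsC
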